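import Mathlib
import Cfsg.Agent.KFacts.RgdNodes
import Cfsg.Agent.KFacts.RgdSyl
import Cfsg.Agent.Tits.ExtAux
import Cfsg.Agent.H153.Dl.RFi24
import Cfsg.Agent.Fischer.Fi22Sub3510
import Cfsg.Agent.Fischer.Fi22Order
import Cfsg.Agent.Lib.PermNetFast
import Cfsg.Agent.LThreeFi23.Base
import Cfsg.Agent.H860.PartFiveSeven
import Cfsg.Agent.H860.TwoElem
import Cfsg.Agent.H729.Trans
import Cfsg.Agent.H970.Sep.Co3Seven
import Cfsg.Agent.H771.KSp6
import Cfsg.Agent.FastGrp
import Cfsg.Agent.Prune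
set_option linter.all false

section
prune_inst 0x7ff2feff8ff8addfffff7e7ffeffdffffbf9ffffefdffbfbfff9ebff2fdfeb6dfbe5fbaf7fe7d0fdfef6e2b430f87bd3f9ffeeffef6bdc7fffff5ffc5ffbff9fffffffb953fe9db41ffc6ffffbf9ffee7f3fffffffffffffffffffffffffffffffffffffffff

-- part: H669/Dl/Ab
section
set_option linter.all false
open scoped Cfsg.Agent.FastGrp

/-!
# Metabelian `p`-groups with an abelian subgroup of index `p ^ 2`
-/

set_option autoImplicit false

namespace Cfsg.Agent.H669.Dl

open Subgroup
open scoped commutatorElement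

variable {p : ℕ} [hp : Fact p.Prime]

theorem card_mul_relIndex' {P : Type*} [Group P] {H K : Subgroup P} (h : H ≤ K) :
    Nat.card H * H.relIndex K = Nat.card K := by
  rw [← relIndex_bot_left, ← relIndex_bot_left, relIndex_mul_relIndex ⊥ H K bot_le h]

theorem derivedSeries_two_of_normal {P : Type*} [Group P] [Finite P] {J : Subgroup P} [J.Normal]
    (hJ : ∀ a ∈ J, ∀ b ∈ J, a * b = b * a) (h : Nat.card (P ⧸ J) = p ^ 2) : derivedSeries P 2 = ⊥ := by
  have hc : ∀ a b : P ⧸ J, a * b = b * a := by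
    let _ := IsPGroup.commGroupOfCardEqPrimeSq h
    exact fun a b => mul_comm a b
  have h1 : derivedSeries P 1 ≤ J := by
    rw [derivedSeries_one, _root_.commutator_def, Subgroup.commutator_le]
    intro a _ b _
    rw [← QuotientGroup.eq_one_iff, commutatorElement_def]
    change (QuotientGroup.mk a * QuotientGroup.mk b * (QuotientGroup.mk a)⁻¹ * (QuotientGroup.mk b)⁻¹ : P ⧸ J) = 1
    rw [hc (QuotientGroup.mk a) (QuotientGroup.mk b)]
    group
  rw [derivedSeries_succ, eq_bot_iff, Subgroup.commutator_le]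
  intro a ha b hb
  rw [mem_bot, commutatorElement_eq_one_iff_mul_comm]
  exact hJ a (h1 ha) b (h1 hb)

/-- an abelian subgroup `J` of index `p ^ 2` of a group of order `p ^ (n + 3)`, with an element `t` of `N(J)`
with `|C_J(t)| < p ^ n` -/
theorem derivedSeries_two {P : Type*} [Group P] [Finite P] {n : ℕ} (hP : Nat.card P = p ^ (n + 3)) {J : Subgroup P}
    (hcard : Nat.card J = p ^ (n + 1)) (hJ : ∀ a ∈ J, ∀ b ∈ J, a * b = b * a) {t : P}
    (ht : t ∈ normalizer (J : Set P)) (hC : Nat.card ↥(J ⊓ centralizer ({t} : Set P)) < p ^ n) :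
    derivedSeries P 2 = ⊥ := by
  have hpP : IsPGroup p P := IsPGroup.of_card hP
  have hp0 := hp.out.pos
  by_cases hN : J.Normal
  · apply derivedSeries_two_of_normal (p := p) hJ
    rw [← Subgroup.index_eq_card]
    have h1 := J.card_mul_index
    rw [hcard, hP, show n + 3 = (n + 1) + 2 from rfl, pow_add p (n + 1) 2] at h1
    exact Nat.eq_of_mul_eq_mul_left (by positivity) h1
  · exfalso
    set N := normalizer (J : Set P) with hNdef
    have hJN : J ≤ N := le_normalizer
    have hNtop : N ≠ ⊤ := fun h => hN (normalizer_eq_top_iff.1 h)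
    -- `|N| = p ^ (n + 2)`
    obtain ⟨k, hk⟩ := (hpP.to_subgroup N).exists_card_eq
    have htJ : t ∉ J := by
      intro h
      have h1 : J ⊓ centralizer ({t} : Set P) = J := by
        rw [inf_eq_left]
        intro x hx
        rw [mem_centralizer_singleton_iff]
        exact hJ x hx t h
      rw [h1, hcard] at hC
      exact absurd hC (not_lt.2 (Nat.pow_le_pow_right hp0 (by omega)))
    have hk1 : n + 1 < k := by
      have h1 : Nat.card J < Nat.card N := by
        refine lt_of_le_of_ne (Subgroup.card_le_of_le hJN) fun h => htJ ?_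
        rw [Subgroup.eq_of_le_of_card_ge hJN h.ge]
        exact ht
      rw [hcard, hk] at h1
      exact (Nat.pow_lt_pow_iff_right hp.out.one_lt).1 h1
    have hk2 : k < n + 3 := by
      have h1 : Nat.card N < Nat.card P := by
        refine lt_of_le_of_ne (Subgroup.card_le_card_group N) fun h => hNtop ?_
        exact Subgroup.eq_top_of_card_eq N h
      rw [hP, hk] at h1
      exact (Nat.pow_lt_pow_iff_right hp.out.one_lt).1 h1
    have hk3 : k = n + 2 := by omega
    rw [hk3] at hk
    have hNidx : N.index = p := by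
      have h1 := N.card_mul_index
      rw [hk, hP, show n + 3 = (n + 2) + 1 from rfl, pow_add p (n + 2) 1, pow_one] at h1
      exact Nat.eq_of_mul_eq_mul_left (by positivity) h1
    have hNn : N.Normal := by
      apply Subgroup.normal_of_index_eq_minFac_card
      rw [hNidx, hP, Nat.pow_minFac (by omega), hp.out.minFac_eq]
    -- a conjugate of `J` different from `J`
    obtain ⟨g, hg⟩ : ∃ g : P, J.map (MulAut.conj g).toMonoidHom ≠ J := by
      by_contra hcon
      push Not at hcon
      apply hN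
      refine ⟨fun x hx g => ?_⟩
      rw [← hcon g]
      exact ⟨x, hx, rfl⟩
    set K := J.map (MulAut.conj g).toMonoidHom with hK
    have hKN : K ≤ N := by
      rintro _ ⟨x, hx, rfl⟩
      exact hNn.conj_mem x (hJN hx) g
    have hKc : Nat.card K = p ^ (n + 1) := by
      rw [hK, Subgroup.card_map_of_injective (MulAut.conj g).injective, hcard]
    have hrel : ∀ L : Subgroup P, L ≤ N → Nat.card L = p ^ (n + 1) → L.relIndex N = p := by
      intro L hL hLc
      have h1 := card_mul_relIndex' hL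
      rw [hLc, hk, show n + 2 = (n + 1) + 1 from rfl, pow_add p (n + 1) 1, pow_one] at h1
      exact Nat.eq_of_mul_eq_mul_left (by positivity) h1
    -- `J ⊔ K = N`
    have hsup : J ⊔ K = N := by
      apply Subgroup.eq_of_le_of_card_ge (sup_le hJN hKN)
      obtain ⟨m, hm⟩ := (hpP.to_subgroup (J ⊔ K)).exists_card_eq
      have h1 : Nat.card J < Nat.card ↥(J ⊔ K) := by
        refine lt_of_le_of_ne (Subgroup.card_le_of_le le_sup_left) fun h => hg ?_
        have h2 : J = J ⊔ K := Subgroup.eq_of_le_of_card_ge le_sup_left h.ge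
        have h3 : K ≤ J := by rw [h2]; exact le_sup_right
        exact Subgroup.eq_of_le_of_card_ge h3 (by rw [hKc, hcard])
      rw [hcard, hm] at h1
      have h2 := (Nat.pow_lt_pow_iff_right hp.out.one_lt).1 h1
      rw [hm, hk]
      exact Nat.pow_le_pow_right hp0 (by omega)
    -- the intersection
    have h1 : (J ⊓ K).relIndex N ≤ p * p := by
      have h2 := Subgroup.relIndex_inf_le (H := J) (K := K) (L := N)
      rwa [hrel J hJN hcard, hrel K hKN hKc] at h2
    have h2 := card_mul_relIndex' (H := J ⊓ K) (K := N) (inf_le_left.trans hJN)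
    have h3 : J ⊓ K ≤ J ⊓ centralizer ({t} : Set P) := by
      intro x hx
      refine ⟨hx.1, ?_⟩
      have h4 : N ≤ centralizer ({x} : Set P) := by
        rw [← hsup, sup_le_iff]
        constructor
        · intro y hy
          rw [mem_centralizer_singleton_iff]
          exact hJ y hy x hx.1
        · rintro _ ⟨y, hy, rfl⟩
          obtain ⟨z, hz, hzx⟩ := hx.2
          rw [mem_centralizer_singleton_iff, ← hzx, ← map_mul, ← map_mul]
          exact congrArg _ (hJ y hy z hz)
      have h5 := h4 ht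
      rw [mem_centralizer_singleton_iff] at h5
      change x ∈ centralizer ({t} : Set P)
      rw [mem_centralizer_singleton_iff]
      exact h5.symm
    have h4 := Subgroup.card_le_of_le h3
    rw [hk] at h2
    have h5 : p ^ (n + 2) ≤ Nat.card ↥(J ⊓ K) * (p * p) := by
      rw [← h2]; exact Nat.mul_le_mul_left _ h1
    have h6 : p ^ (n + 2) = p ^ n * (p * p) := by rw [pow_add, pow_two]
    rw [h6] at h5
    have h7 := Nat.le_of_mul_le_mul_right h5 (by positivity)
    omega

/-- the version for a Sylow subgroup -/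
theorem dl_two {G : Type*} [Group G] [Finite G] {n : ℕ} (hS : ∀ Q : Sylow p G, Nat.card (Q : Subgroup G) = p ^ (n + 3))
    {A J : Subgroup G} (hA : IsPGroup p A) (hJA : J ≤ A)
    (hcard : Nat.card J = p ^ (n + 1)) (hJ : ∀ a ∈ J, ∀ b ∈ J, a * b = b * a) {t : G} (htA : t ∈ A)
    (ht : t ∈ normalizer (J : Set G)) (hC : Nat.card ↥(J ⊓ centralizer ({t} : Set G)) < p ^ n) (P : Sylow p G) :
    derivedSeries ↥(P : Subgroup G) 2 = ⊥ := by
  obtain ⟨Q, hQ⟩ := hA.exists_le_sylow
  have hJQ : J ≤ (Q : Subgroup G) := hJA.trans hQ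
  have h1 : derivedSeries ↥(Q : Subgroup G) 2 = ⊥ := by
    refine derivedSeries_two (p := p) (n := n) (P := (Q : Subgroup G)) (hS Q) (J := J.subgroupOf Q) ?_ ?_
      (t := ⟨t, hQ htA⟩) ?_ ?_
    · rw [← hcard]
      exact Nat.card_congr (Subgroup.subgroupOfEquivOfLe hJQ).toEquiv
    · intro a ha b hb
      exact Subtype.ext (hJ a ha b hb)
    · rw [mem_normalizer_iff] at ht ⊢
      intro x
      exact ht x
    · refine lt_of_le_of_lt ?_ hC
      refine Nat.card_le_card_of_injective
        (fun x : ↥(J.subgroupOf Q ⊓ centralizer ({⟨t, hQ htA⟩} : Set ↥(Q : Subgroup G))) =>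
          (⟨((x : ↥(Q : Subgroup G)) : G), x.2.1, ?_⟩ : ↥(J ⊓ centralizer ({t} : Set G)))) ?_
      · have h2 := x.2.2
        change (x : ↥(Q : Subgroup G)) ∈ centralizer _ at h2
        change ((x : ↥(Q : Subgroup G)) : G) ∈ centralizer _
        rw [mem_centralizer_singleton_iff] at h2 ⊢
        exact congrArg Subtype.val h2
      · intro x y hxy
        have h4 : ((x : ↥(Q : Subgroup G)) : G) = ((y : ↥(Q : Subgroup G)) : G) :=
          congrArg (fun z : ↥(J ⊓ centralizer ({t} : Set G)) => (z : G)) hxy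
        exact Subtype.ext (Subtype.ext h4)
  -- conjugate Sylow subgroups
  obtain ⟨e⟩ : Nonempty (↥(P : Subgroup G) ≃* ↥(Q : Subgroup G)) := ⟨Sylow.equiv P Q⟩
  have h2 : (derivedSeries ↥(P : Subgroup G) 2).map e.toMonoidHom ≤ derivedSeries ↥(Q : Subgroup G) 2 :=
    map_derivedSeries_le_derivedSeries e.toMonoidHom 2
  rw [h1, le_bot_iff, Subgroup.map_eq_bot_iff] at h2
  rw [eq_bot_iff]
  intro x hx
  have h3 := h2 hx
  rw [MonoidHom.mem_ker] at h3
  rw [Subgroup.mem_bot]
  exact e.injective (by rw [map_one]; exact h3)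

end Cfsg.Agent.H669.Dl
end

-- part: H669/Dl/A12
section
prune_inst 0x10100100452200000000000000000000600001000000000041000c00004920010000080080a00000118488204002806001100009021000000000020040040000000062c00224b000210000406001180c00000000000000000000000000000000000000000
set_option linter.all false
open scoped Cfsg.Agent.FastGrp

/-!
# The Sylow 3-subgroup of a group containing `A₁₂` with index prime to 9

`J` = the group generated by four disjoint 3-cycles, `τ` permutes three of them.
-/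

set_option autoImplicit false
set_option maxRecDepth 100000

namespace Cfsg.Agent.H669.Dl.A12

open Subgroup Equiv

/-- the product of powers of four disjoint 3-cycles, as a function -/
def fn (v : Fin 3 × Fin 3 × Fin 3 × Fin 3) (x : Fin 12) : Fin 12 :=
  let q := x.val / 3
  let r := x.val % 3
  let s := if q = 0 then v.1.val else if q = 1 then v.2.1.val else if q = 2 then v.2.2.1.val else v.2.2.2.val
  ⟨(3 * q + (r + s) % 3) % 12, Nat.mod_lt _ (by norm_num)⟩

/-- the inverse parameter -/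
def neg (v : Fin 3 × Fin 3 × Fin 3 × Fin 3) : Fin 3 × Fin 3 × Fin 3 × Fin 3 := (-v.1, -v.2.1, -v.2.2.1, -v.2.2.2)

theorem fn_neg : ∀ v x, fn (neg v) (fn v x) = x := by decide +kernel

theorem fn_neg' : ∀ v x, fn v (fn (neg v) x) = x := by decide +kernel

/-- the permutation -/
def pm (v : Fin 3 × Fin 3 × Fin 3 × Fin 3) : Perm (Fin 12) := ⟨fn v, fn (neg v), fn_neg v, fn_neg' v⟩

private def sl (v : Fin 3 × Fin 3 × Fin 3 × Fin 3) (q : ℕ) : Fin 3 :=
  if q = 0 then v.1 else if q = 1 then v.2.1 else if q = 2 then v.2.2.1 else v.2.2.2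

private def gg (s : Fin 3) (x : Fin 12) : Fin 12 :=
  ⟨(3 * (x.val / 3) + (x.val % 3 + s.val) % 3) % 12, Nat.mod_lt _ (by norm_num)⟩

private theorem fn_gg (v : Fin 3 × Fin 3 × Fin 3 × Fin 3) (x : Fin 12) : fn v x = gg (sl v (x.val / 3)) x := by
  apply Fin.ext
  delta fn gg sl
  dsimp only
  split_ifs <;> rfl

private theorem sl_add (v w : Fin 3 × Fin 3 × Fin 3 × Fin 3) (q : ℕ) : sl (v + w) q = sl v q + sl w q := by
  delta sl
  split_ifs <;> rfl

theorem pm_mul : ∀ v w x, fn v (fn w x) = fn (v + w) x := by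
  intro v w x
  have h1 : ∀ s x, (gg s x).val / 3 = x.val / 3 := by decide +kernel
  have h2 : ∀ a b x, gg a (gg b x) = gg (a + b) x := by decide +kernel
  rw [fn_gg v, fn_gg w, fn_gg (v + w), h1, h2, sl_add]

/-- the homomorphism -/
def f : Multiplicative (Fin 3 × Fin 3 × Fin 3 × Fin 3) →* Perm (Fin 12) where
  toFun v := pm v.toAdd
  map_one' := by
    ext x
    revert x
    decide
  map_mul' v w := by
    ext x
    exact congrArg Fin.val (pm_mul v.toAdd w.toAdd x).symm

/-- the element which permutes three of the cycles -/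
def tf (x : Fin 12) : Fin 12 := if x.val < 9 then ⟨(x.val + 3) % 9, by omega⟩ else x
/-- its inverse -/
def tf' (x : Fin 12) : Fin 12 := if x.val < 9 then ⟨(x.val + 6) % 9, by omega⟩ else x

/-- the element which permutes three of the cycles -/
def τ : Perm (Fin 12) := ⟨tf, tf', by decide, by decide⟩

theorem tau_cube : τ ^ 3 = 1 := by decide

/-- the action on the parameters -/
def sh (v : Fin 3 × Fin 3 × Fin 3 × Fin 3) : Fin 3 × Fin 3 × Fin 3 × Fin 3 := (v.2.2.1, v.1, v.2.1, v.2.2.2)

theorem tau_aux : ∀ v x, tf (fn v x) = fn (sh v) (tf x) := by decide +kernel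

theorem tau_conj (v : Fin 3 × Fin 3 × Fin 3 × Fin 3) : τ * pm v = pm (sh v) * τ := by
  ext x
  exact congrArg Fin.val (tau_aux v x)

theorem pm_inj : Function.Injective pm := by
  intro v w h
  have h1 : ∀ v w : Fin 3 × Fin 3 × Fin 3 × Fin 3, fn v 0 = fn w 0 → fn v 3 = fn w 3 → fn v 6 = fn w 6 →
      fn v 9 = fn w 9 → v = w := fun v w a b c d => by
    have h2 : ∀ x s t, gg s x = gg t x → s = t := by decide +kernel
    rw [fn_gg v, fn_gg w] at a b c d
    exact Prod.ext (h2 _ _ _ a) (Prod.ext (h2 _ _ _ b) (Prod.ext (h2 _ _ _ c) (h2 _ _ _ d)))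
  exact h1 v w (congrArg (fun s : Perm (Fin 12) => s 0) h) (congrArg (fun s : Perm (Fin 12) => s 3) h)
    (congrArg (fun s : Perm (Fin 12) => s 6) h) (congrArg (fun s : Perm (Fin 12) => s 9) h)

theorem f_inj : Function.Injective f := fun _ _ h => pm_inj h

theorem cube_aux : ∀ v x, fn v (fn v (fn v x)) = x := by decide +kernel

theorem mem_alt_of_cube {s : Perm (Fin 12)} (h : s ^ 3 = 1) : s ∈ alternatingGroup (Fin 12) := by
  rw [Perm.mem_alternatingGroup]
  have h1 := congrArg Perm.sign h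
  rw [map_pow, map_one] at h1
  rcases Int.units_eq_one_or (Perm.sign s) with h2 | h2
  · exact h2
  · rw [h2] at h1
    exact absurd h1 (by decide)

theorem pm_mem (v : Fin 3 × Fin 3 × Fin 3 × Fin 3) : pm v ∈ alternatingGroup (Fin 12) := by
  apply mem_alt_of_cube
  ext x
  exact congrArg Fin.val (cube_aux v x)

/-- into the alternating group -/
def fa : Multiplicative (Fin 3 × Fin 3 × Fin 3 × Fin 3) →* alternatingGroup (Fin 12) :=
  f.codRestrict _ fun v => pm_mem v.toAdd

/-- `τ` as an even permutation -/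
def ta : alternatingGroup (Fin 12) := ⟨τ, mem_alt_of_cube tau_cube⟩

theorem fa_inj : Function.Injective fa := fun _ _ h => f_inj (congrArg Subtype.val h)

theorem ta_conj (v : Multiplicative (Fin 3 × Fin 3 × Fin 3 × Fin 3)) :
    ta * fa v * ta⁻¹ = fa (Multiplicative.ofAdd (sh v.toAdd)) := by
  rw [mul_inv_eq_iff_eq_mul]
  exact Subtype.ext (tau_conj v.toAdd)

theorem ta_cube : ta ^ 3 = 1 := Subtype.ext tau_cube

theorem fix_aux : ∀ v : Fin 3 × Fin 3 × Fin 3 × Fin 3, sh v = v → v.1 = v.2.1 ∧ v.1 = v.2.2.1 := by decide +kernel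

/-- **`P'' = 1` for the Sylow 3-subgroups of a group with a subgroup `A₁₂`, of order divisible by `3 ^ 6` exactly** -/
theorem dl_three {G : Type*} [Group G] [Finite G] (Φ : alternatingGroup (Fin 12) →* G) (hΦ : Function.Injective Φ)
    [Fact (Nat.Prime 3)] (hS : ∀ Q : Sylow 3 G, Nat.card (Q : Subgroup G) = 3 ^ 6) (P : Sylow 3 G) :
    derivedSeries ↥(P : Subgroup G) 2 = ⊥ := by
  set g := Φ.comp fa with hg
  have hgi : Function.Injective g := hΦ.comp fa_inj
  have hconj : ∀ v, Φ ta * g v * (Φ ta)⁻¹ = g (Multiplicative.ofAdd (sh v.toAdd)) := by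
    intro v
    change Φ ta * Φ (fa v) * (Φ ta)⁻¹ = Φ (fa _)
    rw [← map_inv, ← map_mul, ← map_mul, ta_conj]
  have hcard : Nat.card g.range = 3 ^ 4 := by
    rw [← Nat.card_congr (MonoidHom.ofInjective hgi).toEquiv, Nat.card_eq_fintype_card, Fintype.card_multiplicative]
    simp
  have hJp : IsPGroup 3 g.range := IsPGroup.of_card hcard
  have hnorm : Φ ta ∈ normalizer (g.range : Set G) := by
    have h1 : ∀ x ∈ g.range, Φ ta * x * (Φ ta)⁻¹ ∈ g.range := by
      rintro _ ⟨v, rfl⟩
      exact ⟨_, (hconj v).symm⟩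
    have h2 : g.range.map (MulAut.conj (Φ ta)).toMonoidHom = g.range := by
      apply Subgroup.eq_of_le_of_card_ge
      · rintro _ ⟨x, hx, rfl⟩
        exact h1 x hx
      · rw [Subgroup.card_map_of_injective (MulAut.conj (Φ ta)).injective]
    rw [mem_normalizer_iff]
    intro x
    refine ⟨h1 x, fun hx => ?_⟩
    rw [← h2] at hx
    obtain ⟨y, hy, hyx⟩ := hx
    have h3 : y = x := (MulAut.conj (Φ ta)).injective hyx
    rwa [← h3]
  have hT : IsPGroup 3 (zpowers (Φ ta)) := by
    intro x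
    refine ⟨1, ?_⟩
    obtain ⟨k, hk⟩ := mem_zpowers_iff.1 x.2
    apply Subtype.ext
    rw [pow_one, coe_pow, ← hk, ← zpow_natCast, ← zpow_mul, mul_comm, zpow_mul, zpow_natCast, ← map_pow, ta_cube,
      map_one, one_zpow]
    rfl
  have hsup : IsPGroup 3 ↥(zpowers (Φ ta) ⊔ g.range) := by
    refine IsPGroup.to_sup_of_normal_right' hT hJp ?_
    rw [zpowers_le]
    exact hnorm
  refine dl_two (p := 3) (n := 3) (by simpa using hS) (A := zpowers (Φ ta) ⊔ g.range) hsup le_sup_right hcard ?_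
    (t := Φ ta) (mem_sup_left (mem_zpowers _)) hnorm ?_ P
  · rintro _ ⟨v, rfl⟩ _ ⟨w, rfl⟩
    rw [← map_mul, ← map_mul, mul_comm]
  · have h9 : Nat.card (Fin 3 × Fin 3) = 9 := by simp
    refine lt_of_le_of_lt ?_ (show 9 < 3 ^ 3 by norm_num)
    rw [← h9]
    have hex : ∀ x : ↥(g.range ⊓ centralizer ({Φ ta} : Set G)), ∃ v, g v = x := fun x => x.2.1
    choose v hv using hex
    have hfix : ∀ x, sh (v x).toAdd = (v x).toAdd := by
      intro x
      have h1 := hconj (v x)
      have h2 : (x : G) ∈ centralizer ({Φ ta} : Set G) := x.2.2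
      rw [mem_centralizer_singleton_iff, ← hv x] at h2
      rw [← h2, mul_inv_cancel_right] at h1
      exact (congrArg Multiplicative.toAdd (hgi h1)).symm
    refine Nat.card_le_card_of_injective (fun x => ((v x).toAdd.1, (v x).toAdd.2.2.2)) ?_
    intro x y hxy
    obtain ⟨h1, h2⟩ := Prod.mk.inj (show ((v x).toAdd.1, (v x).toAdd.2.2.2) = ((v y).toAdd.1, (v y).toAdd.2.2.2)
      from hxy)
    obtain ⟨h3, h4⟩ := fix_aux _ (hfix x)
    obtain ⟨h5, h6⟩ := fix_aux _ (hfix y)
    have h7 : v x = v y := by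
      apply Multiplicative.toAdd.injective
      refine Prod.ext h1 (Prod.ext ?_ (Prod.ext ?_ h2))
      · rw [← h3, ← h5, h1]
      · rw [← h4, ← h6, h1]
    apply Subtype.ext
    rw [← hv x, ← hv y, h7]

end Cfsg.Agent.H669.Dl.A12
end

-- part: H941/Dl/TypePres
section
set_option linter.all false
open scoped Cfsg.Agent.FastGrp

/-!
# Automorphisms of a group with a root group datum preserve the types of the parabolic subgroups

* `type_pres` : if all diagram symmetries of frame automorphisms are trivial, every automorphism maps `P_J` to a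
  conjugate of `P_J`;
* `type_pres_card` : the simple root groups have different orders;
* `type_pres_two` : rank two, a root group `X b` normalised by `n i`, not by `n j`, invariant under frame
  automorphisms.
-/

set_option autoImplicit false
set_option linter.unusedSectionVars false

namespace Cfsg.Agent.H941.Dl

open CoxeterSystem Cfsg.Agent.ChevalleyStructure.CoxeterGeom Cfsg.Agent.Tits.Roots Cfsg.Agent.Tits.Core
  Cfsg.Agent.Tits.Exchange Cfsg.Agent.Nodes.Reps Cfsg.Agent.Nodes.BNOf Cfsg.Agent.Nodes.StabComb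
  Cfsg.Agent.Nodes.Bruhat Cfsg.Agent.Nodes.OppDec Cfsg.Agent.Nodes.LeviDec Cfsg.Agent.Nodes.NormalForm
  Cfsg.Agent.KFacts.RgdOpp Cfsg.Agent.KFacts.RgdAut Cfsg.Agent.KFacts.RgdDiag Cfsg.Agent.KFacts.RgdSyl
  Cfsg.Agent.KFacts.RgdNodes

variable {I W Y : Type*} [Fintype I] [DecidableEq I] [Group W] [Group Y] {M : CoxeterMatrix I}
  {cs : CoxeterSystem M W} {A : I → I → ℤ} {h : IsCartan M A} {p : ℕ} {T : Subgroup Y} {n : I → Y}
  {X : (I → ℤ) → Subgroup Y}

theorem simple_injective (h : IsCartan M A) : Function.Injective cs.simple := by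
  intro i j hij
  by_contra hne
  exact RGD.simple_ne (h := h) hne hij

/-- A frame automorphism without diagram symmetry fixes the parabolic subgroups. -/
theorem fix_PJ (R : RGD cs h p T n X) [Finite W] (hG : GG cs h T X = ⊤) {β : MulAut Y} (D : Diag T X β 1)
    (hB : Fix β (RGD.B cs h T X)) (J : Set I) : Fix β (PJ cs h T X J) := by
  obtain ⟨P, hP⟩ : ∃ P : Subgroup Y, ∀ x, x ∈ P ↔ β x ∈ PJ cs h T X J :=
    ⟨(PJ cs h T X J).comap β.toMonoidHom, fun x => Iff.rfl⟩
  have hBP : RGD.B cs h T X ≤ P := fun x hx => (hP x).2 (B_le_PJ ((hB x).2 hx))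
  have h1 := inf_eq_PJ R hBP
  rw [hG, inf_top_eq] at h1
  have h2 : {i | n i ∈ P} = J := by
    ext i
    show n i ∈ P ↔ i ∈ J
    rw [hP, cell_mem_PJ_iff R (cell_of_rp (D.rp (R := R) i))]
    show cs.simple i ∈ WJ cs J ↔ i ∈ J
    exact ⟨fun hi => Tits.Ext.mem_of_simple_mem_WJ (cs := cs) (simple_injective h) hi,
      fun hi => Subgroup.subset_closure ⟨i, hi, rfl⟩⟩
  rw [h2] at h1
  intro x
  rw [← hP, h1]

/-- Every automorphism fixes `U` up to conjugation. -/
theorem exists_fixU (R : RGD cs h p T n X) [Finite W] [Finite Y] [Fact p.Prime] (hG : GG cs h T X = ⊤)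
    (α : MulAut Y) : ∃ g : Y, Fix (MulAut.conj g * α) (RGD.Sup X (RGD.Pos cs h)) := by
  have hnd := not_dvd_relIndex R
  rw [hG, Subgroup.relIndex_top_right] at hnd
  have h1 : ∀ P : Sylow p Y, Nat.card ↥(P : Subgroup Y) = Nat.card ↥(RGD.Sup X (RGD.Pos cs h)) := by
    intro P
    obtain ⟨Q, hQ⟩ := R.isPGroup_Upos.exists_le_sylow
    have h3 : RGD.Sup X (RGD.Pos cs h) = Q := by
      have h4 := eq_U_of_isPGroup R Q.isPGroup' hQ (by rw [hG]; exact le_top)
      exact h4.symm
    rw [h3]
    exact Nat.card_congr (P.equiv Q).toEquiv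
  obtain ⟨Q, hQ⟩ : ∃ Q : Sylow p Y, (Q : Subgroup Y) = RGD.Sup X (RGD.Pos cs h) := by
    obtain ⟨Q, hQ⟩ := R.isPGroup_Upos.exists_le_sylow
    exact ⟨Q, eq_U_of_isPGroup R Q.isPGroup' hQ (by rw [hG]; exact le_top)⟩
  let Q' : Sylow p Y := Q.mapSurjective (f := α.toMonoidHom) α.surjective
  have hQ' : (Q' : Subgroup Y) = (Q : Subgroup Y).map α.toMonoidHom := rfl
  obtain ⟨g, hg⟩ := MulAction.exists_smul_eq Y Q' Q
  refine ⟨g, ?_⟩
  rw [fix_iff, ← hQ]
  have h2 : ((g • Q' : Sylow p Y) : Subgroup Y) = Q := by rw [hg]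
  rw [Sylow.coe_subgroup_smul, hQ'] at h2
  rw [← h2]
  ext x
  constructor
  · rintro ⟨y, hy, rfl⟩
    rw [h2] at hy
    refine ⟨α y, ⟨y, hy, rfl⟩, ?_⟩
    rfl
  · rintro ⟨z, ⟨y, hy, rfl⟩, rfl⟩
    refine ⟨y, ?_, rfl⟩
    rw [h2]
    exact hy

/-- **Automorphisms preserve the types** if there are no diagram symmetries. -/
theorem type_pres (R : RGD cs h p T n X) [Finite W] [Finite Y] [Fact p.Prime] (hG : GG cs h T X = ⊤)
    (hσ : ∀ (β : MulAut Y) (σ : Equiv.Perm I), Fix β (RGD.Sup X (RGD.Pos cs h)) → Fix β (RGD.B cs h T X) →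
      Diag T X β σ → σ = 1) (α : MulAut Y) (J : Set I) :
    ∃ g : Y, (PJ cs h T X J).map α.toMonoidHom = (PJ cs h T X J).map (MulAut.conj g).toMonoidHom := by
  obtain ⟨g, hg⟩ := exists_fixU R hG α
  obtain ⟨u, -, hU, hB, hUN, -, -⟩ := exists_frame R hG hg
  obtain ⟨σ, D⟩ := exists_diag R hG hU hUN
  have h1 := hσ _ σ hU hB D
  subst h1
  have h2 := fix_PJ R hG D hB J
  refine ⟨(u * g)⁻¹, ?_⟩
  ext x
  constructor
  · rintro ⟨y, hy, rfl⟩
    have h3 := (h2 y).2 hy
    refine ⟨_, h3, ?_⟩
    show MulAut.conj (u * g)⁻¹ ((MulAut.conj u * (MulAut.conj g * α)) y) = α y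
    rw [← mul_assoc, ← map_mul, MulAut.mul_apply, map_inv, MulAut.inv_apply_self]
  · rintro ⟨y, hy, rfl⟩
    refine ⟨(MulAut.conj u * (MulAut.conj g * α))⁻¹ y, (h2.inv y).2 hy, ?_⟩
    show α ((MulAut.conj u * (MulAut.conj g * α))⁻¹ y) = MulAut.conj (u * g)⁻¹ y
    rw [← mul_assoc, ← map_mul, mul_inv_rev, MulAut.mul_apply, MulAut.apply_inv_self, map_inv]

/-- different orders of the simple root groups -/
theorem type_pres_card (R : RGD cs h p T n X) [Finite W] [Finite Y] [Fact p.Prime] (hG : GG cs h T X = ⊤)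
    (hc : Function.Injective fun i => Nat.card ↥(X (sr i))) (α : MulAut Y) (J : Set I) :
    ∃ g : Y, (PJ cs h T X J).map α.toMonoidHom = (PJ cs h T X J).map (MulAut.conj g).toMonoidHom :=
  type_pres R hG (fun _ _ _ _ D => Equiv.ext fun i => hc (KFacts.RgdNodes.Diag.card_eq D i)) α J

/-- rank two, with an invariant root group -/
theorem type_pres_two (R : RGD cs h p T n X) [Finite W] [Finite Y] [Fact p.Prime] (hG : GG cs h T X = ⊤)
    {b : I → ℤ} (hb : IsRoot cs h b) (hinv : ∀ β : MulAut Y, Fix β (RGD.Sup X (RGD.Pos cs h)) → Fix β (X b))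
    (hBb : RGD.B cs h T X ≤ Subgroup.normalizer (X b : Set Y)) {i j : I} (hij : ∀ k, k = i ∨ k = j)
    (hi : rep cs h (cs.simple i) b = b) (hj : rep cs h (cs.simple j) b ≠ b) (α : MulAut Y) (J : Set I) :
    ∃ g : Y, (PJ cs h T X J).map α.toMonoidHom = (PJ cs h T X J).map (MulAut.conj g).toMonoidHom := by
  refine type_pres R hG (fun β σ hU hB D => ?_) α J
  have hni : n i ∈ Subgroup.normalizer (X b : Set Y) := by
    rw [Subgroup.mem_normalizer_iff]
    intro x
    constructor
    · intro hx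
      have := R.conj_mem (rp_simple cs R.nsys i) hb hx
      rwa [hi] at this
    · intro hx
      have h1 := R.conj_mem' (rp_simple cs R.nsys i) hb hx
      have h2 : rep cs h (cs.simple i)⁻¹ b = b := by rw [cs.inv_simple, hi]
      rw [h2] at h1
      have e : (n i)⁻¹ * (n i * x * (n i)⁻¹) * n i = x := by group
      rwa [e] at h1
  have hnj : n j ∉ Subgroup.normalizer (X b : Set Y) := by
    intro hn
    have h1 : X b ≤ X (rep cs h (cs.simple j) b) := by
      intro x hx
      obtain ⟨y, rfl⟩ : ∃ y, x = n j * y * (n j)⁻¹ := ⟨(n j)⁻¹ * x * n j, by group⟩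
      have hy : y ∈ X b := (Subgroup.mem_normalizer_iff.1 hn y).2 hx
      exact R.conj_mem (rp_simple cs R.nsys j) hb hy
    have h2 := X_inf_X R hb (hb.act (cs.simple j)) (Ne.symm hj)
    rw [inf_eq_left.2 h1] at h2
    exact X_ne_bot R hb h2
  have hN := (hinv β hU).normalizer
  -- `n (σ i)` normalises `X b`
  have h3 : n (σ i) ∈ Subgroup.normalizer (X b : Set Y) := by
    have h4 : β (n i) ∈ Subgroup.normalizer (X b : Set Y) := (hN _).2 hni
    have h5 := (cell_mem_iff R hBb (cell_of_rp (D.rp (R := R) i))).1 h4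
    exact Tits.Ext.mem_of_simple_mem_WJ (cs := cs) (simple_injective h) h5
  have h4 : σ i = i := by
    rcases hij (σ i) with h5 | h5
    · exact h5
    · rw [h5] at h3
      exact absurd h3 hnj
  refine Equiv.ext fun k => ?_
  rw [Equiv.Perm.one_apply]
  rcases hij k with rfl | rfl
  · exact h4
  · rcases hij (σ k) with h5 | h5
    · have h6 : σ k = σ i := by rw [h5, h4]
      have h7 := σ.injective h6
      rw [h7, h4]
    · exact h5

end Cfsg.Agent.H941.Dl
end

-- part: H153/Dl/RFi22
section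
prune_inst 0xd0100700752200000000001000000040600001020040000041400d02014920410040000082b020101100a0b04800806001100009423000000a000a0040040000000022c01024bc00310000406001180c00000000000000000000000000000000000000000
set_option linter.all false
open scoped Cfsg.Agent.FastGrp

/-!
# `Fi22` on its 3510 transpositions, for `H153.Dl.PR` (helper153)
-/

set_option autoImplicit false
set_option maxRecDepth 100000
set_option linter.constructorNameAsVariable false

namespace Cfsg.Agent.H153.Dl

open Cfsg Cfsg.Agent.Lib.PermNet Cfsg.Agent.Lib.PermNetPt Cfsg.Agent.Fischer.Fi22Perm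
open Cfsg.Agent.Fischer.Fi22Sub3510
open Cfsg.Spor.Fi22 (Gen)

instance fin22 : Finite Spor.Fi22 :=
  Nat.finite_of_card_ne_zero (by rw [Fischer.Fi22Order.card_fi22]; norm_num)

theorem φ_inj : Function.Injective φ := by
  have := Fischer.Fi22Order.isSimple
  rw [← MonoidHom.ker_eq_bot_iff]
  rcases (inferInstance : φ.ker.Normal).eq_bot_or_eq_top with h | h
  · exact h
  · exfalso
    have h1 : (PresentedGroup.of .b : Spor.Fi22) ∈ φ.ker := by rw [h]; exact Subgroup.mem_top _
    rw [MonoidHom.mem_ker] at h1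
    have h2 := φ_b
    rw [h1] at h2
    exact absurd h2 (by decide)

/-- the group element of a letter -/
noncomputable def g22 (x : Gen) : Spor.Fi22 := PresentedGroup.of x

/-- the group element of a word -/
noncomputable def w22 (l : List Gen) : Spor.Fi22 := (l.map g22).prod

theorem w22_nil : w22 [] = 1 := rfl

theorem w22_cons (x : Gen) (l : List Gen) : w22 (x :: l) = g22 x * w22 l := by
  unfold w22; rw [List.map_cons, List.prod_cons]

theorem w22_append (l l' : List Gen) : w22 (l ++ l') = w22 l * w22 l' := by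
  unfold w22; rw [List.map_append, List.prod_append]

/-- the network word -/
noncomputable def n22 (l : List Gen) : List Net :=
  List.rec (motive := fun _ => List Net) [] (fun x _ ih => net x :: ih) l

theorem n22_eq (l : List Gen) : n22 l = l.map net := by
  induction l with
  | nil => rfl
  | cons x l ih =>
    show net x :: n22 l = _
    rw [ih, List.map_cons]

theorem n22_ok (l : List Gen) : WOk (2 ^ 12) (n22 l) := by
  rw [n22_eq]
  exact Fischer.Fi22Perm.wok l

theorem φ_w22 (l : List Gen) : φ (w22 l) = wperm (n22 l) := by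
  induction l with
  | nil => exact map_one _
  | cons x l ih =>
    rw [w22_cons, map_mul, ih]
    show _ = wperm (net x :: n22 l)
    rw [wperm_cons]
    congr 1

theorem w22_eq {v w : List Gen} (h : checkEq 12 (n22 v) (n22 w) = true) : w22 v = w22 w := by
  apply φ_inj
  rw [φ_w22, φ_w22]
  exact wperm_eq_of_checkEq (n22_ok v) (n22_ok w) h

theorem g22_sq (x : Gen) : g22 x * g22 x = 1 := by
  apply φ_inj
  rw [map_mul, map_one]
  exact (congrArg₂ (· * ·) (φ_of x) (φ_of x)).trans (f_sq x)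

theorem w22_reverse (l : List Gen) : w22 l.reverse = (w22 l)⁻¹ := by
  induction l with
  | nil => rw [List.reverse_nil, w22_nil, inv_one]
  | cons x l ih =>
    rw [List.reverse_cons, w22_append, ih, w22_cons, w22_cons, w22_nil, mul_one, mul_inv_rev]
    congr 1
    exact (inv_eq_of_mul_eq_one_left (g22_sq x)).symm

/-- The letters in the order of the digits `1, …, 9`. -/
def gl22 : List Gen := [.a, .b, .c, .d, .e, .f, .g, .h, .i]

/-- The letters of the digits. -/
def gd22 (n : ℕ) : Gen := (Gen.a :: gl22).getD n .a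

theorem mem_gl22 (x : Gen) : x ∈ gl22 := by cases x <;> decide

/-- The points of the letters. -/
def pn22 : Gen → ℕ
  | .a => 0
  | .b => 2
  | .c => 6
  | .d => 16
  | .e => 40
  | .f => 88
  | .g => 154
  | .h => 43
  | .i => 92

/-- words moving the point `0` to the points of the letters -/
def gw22 : Gen → List Gen
  | .a => []
  | .b => [.a, .b]
  | .c => [.b, .c, .a, .b]
  | .d => [.c, .d, .b, .c, .a, .b]
  | .e => [.d, .e, .c, .d, .b, .c, .a, .b]
  | .f => [.e, .f, .d, .e, .c, .d, .b, .c, .a, .b]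
  | .g => [.f, .g, .e, .f, .d, .e, .c, .d, .b, .c, .a, .b]
  | .h => [.d, .h, .c, .d, .b, .c, .a, .b]
  | .i => [.h, .i, .d, .h, .c, .d, .b, .c, .a, .b]

theorem gw22_pt (x : Gen) : chkPt (n22 (gw22 x)) 0 (pn22 x) = true := by
  cases x <;> decide +kernel

theorem gw22_conj (x : Gen) : checkEq 12 (n22 (gw22 x ++ ([.a] : List Cfsg.Spor.Fi22.Gen))) (n22 ([x] ++ gw22 x)) = true := by
  cases x <;> decide +kernel

/-- The transposition `d` has the point `p`. -/
def IsPt22 (d : Spor.Fi22) (p : ℕ) : Prop := ∃ g : Spor.Fi22, φ g 0 = p ∧ g * g22 .a * g⁻¹ = d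

theorem isPt22_gen (x : Gen) : IsPt22 (g22 x) (pn22 x) := by
  refine ⟨w22 (gw22 x), ?_, ?_⟩
  · rw [φ_w22]
    exact chkPt_spec (n22_ok _) (gw22_pt x)
  · have h := w22_eq (gw22_conj x)
    rw [w22_append, w22_append, w22_cons, w22_cons, w22_nil, mul_one, mul_one] at h
    rw [h, mul_inv_cancel_right]

theorem comm_a {l : List Gen} (h : checkEq 12 (n22 (l ++ ([.a] : List Cfsg.Spor.Fi22.Gen))) (n22 (([.a] : List Cfsg.Spor.Fi22.Gen) ++ l)) = true) :
    w22 l * g22 .a = g22 .a * w22 l := by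
  have h1 := w22_eq h
  rwa [w22_append, w22_append, w22_cons, w22_nil, mul_one] at h1

/-- the word `(abcdeh)^5` -/
def u22 : List Gen := [.a, .b, .c, .d, .e, .h, .a, .b, .c, .d, .e, .h, .a, .b, .c, .d, .e, .h, .a, .b, .c, .d, .e, .h,
  .a, .b, .c, .d, .e, .h]

theorem ck_c : checkEq 12 (n22 (([.c] : List Cfsg.Spor.Fi22.Gen) ++ ([.a] : List Cfsg.Spor.Fi22.Gen))) (n22 (([.a] : List Cfsg.Spor.Fi22.Gen) ++ ([.c] : List Cfsg.Spor.Fi22.Gen))) = true := by decide +kernel
theorem ck_d : checkEq 12 (n22 (([.d] : List Cfsg.Spor.Fi22.Gen) ++ ([.a] : List Cfsg.Spor.Fi22.Gen))) (n22 (([.a] : List Cfsg.Spor.Fi22.Gen) ++ ([.d] : List Cfsg.Spor.Fi22.Gen))) = true := by decide +kernel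
theorem ck_e : checkEq 12 (n22 (([.e] : List Cfsg.Spor.Fi22.Gen) ++ ([.a] : List Cfsg.Spor.Fi22.Gen))) (n22 (([.a] : List Cfsg.Spor.Fi22.Gen) ++ ([.e] : List Cfsg.Spor.Fi22.Gen))) = true := by decide +kernel
theorem ck_f : checkEq 12 (n22 (([.f] : List Cfsg.Spor.Fi22.Gen) ++ ([.a] : List Cfsg.Spor.Fi22.Gen))) (n22 (([.a] : List Cfsg.Spor.Fi22.Gen) ++ ([.f] : List Cfsg.Spor.Fi22.Gen))) = true := by decide +kernel
theorem ck_g : checkEq 12 (n22 (([.g] : List Cfsg.Spor.Fi22.Gen) ++ ([.a] : List Cfsg.Spor.Fi22.Gen))) (n22 (([.a] : List Cfsg.Spor.Fi22.Gen) ++ ([.g] : List Cfsg.Spor.Fi22.Gen))) = true := by decide +kernel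
theorem ck_h : checkEq 12 (n22 (([.h] : List Cfsg.Spor.Fi22.Gen) ++ ([.a] : List Cfsg.Spor.Fi22.Gen))) (n22 (([.a] : List Cfsg.Spor.Fi22.Gen) ++ ([.h] : List Cfsg.Spor.Fi22.Gen))) = true := by decide +kernel
theorem ck_i : checkEq 12 (n22 (([.i] : List Cfsg.Spor.Fi22.Gen) ++ ([.a] : List Cfsg.Spor.Fi22.Gen))) (n22 (([.a] : List Cfsg.Spor.Fi22.Gen) ++ ([.i] : List Cfsg.Spor.Fi22.Gen))) = true := by decide +kernel
theorem ck_u : checkEq 12 (n22 (u22 ++ ([.a] : List Cfsg.Spor.Fi22.Gen))) (n22 (([.a] : List Cfsg.Spor.Fi22.Gen) ++ u22)) = true := by decide +kernel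

theorem comm_one {x : Gen} (h : checkEq 12 (n22 ([x] ++ ([.a] : List Cfsg.Spor.Fi22.Gen))) (n22 (([.a] : List Cfsg.Spor.Fi22.Gen) ++ [x])) = true) :
    g22 x * g22 .a = g22 .a * g22 x := by
  have h1 := comm_a h
  rwa [w22_cons, w22_nil, mul_one] at h1

theorem H_comm {h : Spor.Fi22} (hh : h ∈ H) : h * g22 .a = g22 .a * h := by
  rw [H_eq] at hh
  have hle : Subgroup.closure (q '' S) ≤ Subgroup.centralizer ({g22 .a} : Set Spor.Fi22) := by
    rw [Subgroup.closure_le]
    rintro _ ⟨x, hx, rfl⟩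
    rw [SetLike.mem_coe, Subgroup.mem_centralizer_singleton_iff]
    simp only [S, Set.mem_insert_iff, Set.mem_singleton_iff] at hx
    rcases hx with rfl | rfl | rfl | rfl | rfl | rfl | rfl | rfl | rfl
    · rfl
    · exact comm_one ck_c
    · exact comm_one ck_d
    · exact comm_one ck_e
    · exact comm_one ck_f
    · exact comm_one ck_g
    · exact comm_one ck_h
    · exact comm_one ck_i
    · have h1 := comm_a ck_u
      have h2 : w22 u22 = q ((Cfsg.Spor.Fi22.a * Cfsg.Spor.Fi22.b * Cfsg.Spor.Fi22.c *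
        Cfsg.Spor.Fi22.d * Cfsg.Spor.Fi22.e * Cfsg.Spor.Fi22.h) ^ 5) := by
        simp only [u22, w22_cons, w22_nil, mul_one, map_mul, pow_succ, pow_zero, one_mul, mul_assoc]
        rfl
      rwa [h2] at h1
  exact Subgroup.mem_centralizer_singleton_iff.1 (hle hh)

theorem IsPt22.inj {d d' : Spor.Fi22} {p : ℕ} (h : IsPt22 d p) (h' : IsPt22 d' p) : d = d' := by
  obtain ⟨g, hg, rfl⟩ := h
  obtain ⟨g', hg', rfl⟩ := h'
  have h1 : g'⁻¹ * g ∈ H := by
    rw [← main.2.1, map_mul, Equiv.Perm.mul_apply, hg, map_inv, Equiv.Perm.inv_eq_iff_eq, hg']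
  have h2 := H_comm h1
  calc g * g22 .a * g⁻¹ = g' * (g'⁻¹ * g * g22 .a) * g⁻¹ := by group
    _ = g' * (g22 .a * (g'⁻¹ * g)) * g⁻¹ := by rw [h2]
    _ = g' * g22 .a * g'⁻¹ := by group

theorem eq_one22 (g : Spor.Fi22) (h : ∀ c ∈ gl22, g * w22 [c] = w22 [c] * g) : g = 1 := by
  have hs := Fischer.Fi22Order.isSimple
  have hg : g ∈ Subgroup.center Spor.Fi22 := by
    rw [Subgroup.mem_center_iff]
    have h1 : (⊤ : Subgroup Spor.Fi22) ≤ Subgroup.centralizer ({g} : Set Spor.Fi22) := by
      rw [← PresentedGroup.closure_range_of, Subgroup.closure_le]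
      rintro _ ⟨x, rfl⟩
      rw [SetLike.mem_coe, Subgroup.mem_centralizer_singleton_iff]
      have h2 := h x (mem_gl22 x)
      rw [w22_cons, w22_nil, mul_one] at h2
      exact h2.symm
    intro k
    exact Subgroup.mem_centralizer_singleton_iff.1 (h1 (Subgroup.mem_top k))
  rcases (inferInstance : (Subgroup.center Spor.Fi22).Normal).eq_bot_or_eq_top with h1 | h1
  · rw [h1, Subgroup.mem_bot] at hg
    exact hg
  · exfalso
    -- `b` would commute with `a`, but moves the point `0`
    have h2 : g22 .b ∈ Subgroup.center Spor.Fi22 := by rw [h1]; exact Subgroup.mem_top _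
    have h3 := (isPt22_gen .a)
    have h4 : IsPt22 (g22 .a) (φ (g22 .b) 0) := ⟨g22 .b, rfl, by
      rw [← Subgroup.mem_center_iff.1 h2, mul_inv_cancel_right]⟩
    have h5 : φ (g22 .b) 0 = 1 := φ_b
    rw [h5] at h4
    -- the point of `a` is `0` : `a` fixes `0` and not `1`
    have h6 : φ (g22 .a) 1 = 1 := by
      have h7 : φ (g22 .a * g22 .b) 0 = φ (g22 .b * g22 .a) 0 := by
        rw [Subgroup.mem_center_iff.1 h2]
      rw [map_mul, map_mul, Equiv.Perm.mul_apply, Equiv.Perm.mul_apply, h5] at h7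
      have h8 : φ (g22 .a) 0 = 0 := (main.2.1 _).2 ⟨Cfsg.Spor.Fi22.a, Subgroup.subset_closure (by simp [S]), rfl⟩
      rw [h8, h5] at h7
      exact h7
    have h9 : φ (g22 .a) 1 = 2 := by
      have h10 : chkPt (n22 [.a]) 1 2 = true := by decide +kernel
      have h11 := chkPt_spec (n22_ok _) h10
      rwa [← φ_w22, w22_cons, w22_nil, mul_one] at h11
    rw [h9] at h6
    exact absurd h6 (by decide)

/-- `Fi22` on its transpositions. -/
noncomputable def R22 : PR Spor.Fi22 where
  Lt := Gen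
  N := 2 ^ 12
  nw := n22
  wok := n22_ok
  word := w22
  word_nil := w22_nil
  word_append := w22_append
  word_reverse := w22_reverse
  rho := φ
  rho_word := φ_w22
  IsPt := IsPt22
  conj := by
    rintro _ _ ⟨k, rfl, rfl⟩ g
    exact ⟨g * k, by rw [map_mul, Equiv.Perm.mul_apply], by group⟩
  inj h h' := h.inj h'
  gl := gl22
  gd := gd22
  pn := pn22
  isPt_gen c := by rw [w22_cons, w22_nil, mul_one]; exact isPt22_gen c
  U := 2 ^ 3510 - 1
  bit := by
    rintro _ p ⟨g, rfl, -⟩
    rw [Nat.testBit_two_pow_sub_one, decide_eq_true (main.2.2 g)]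
  eq_one := eq_one22

theorem cnt22 : R22.Cnt 12 where
  ok l := R22.wok l
  lt := by
    show 2 ^ 3510 - 1 < 2 ^ 2 ^ 12
    exact lt_of_lt_of_le (Nat.sub_lt (pow_pos (by norm_num) _) (by norm_num))
      (Nat.pow_le_pow_right (by norm_num) (by norm_num))
  inv := by
    intro g p hp
    have hp' : p < 3510 := by
      have h1 : (2 ^ 3510 - 1 : ℕ).testBit p = true := hp
      rw [Nat.testBit_two_pow_sub_one] at h1
      simpa using h1
    obtain ⟨x, rfl⟩ := transitive p hp'
    show (2 ^ 3510 - 1 : ℕ).testBit (φ g (φ x 0)) = true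
    rw [← Equiv.Perm.mul_apply, ← map_mul, Nat.testBit_two_pow_sub_one, decide_eq_true (main.2.2 _)]

end Cfsg.Agent.H153.Dl

private theorem dce_e76ca134bc42 : _root_.True := by
  try have : _root_.True := by simp only [_root_.Cfsg.Agent.H153.Dl.u22.eq_1]
  exact _root_.True.intro
end

-- part: H153/Dl/E22/X
section
set_option linter.all false

/-!
# An element of order 16 in `Fi22` : the words (helper153)

Generated data.
-/

set_option autoImplicit false
set_option maxRecDepth 100000
set_option Elab.async false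

namespace Cfsg.Agent.H153.Dl.E22

open Cfsg Cfsg.Agent.Lib.PermNetPt Cfsg.Agent.H153.Dl Cfsg.Agent.H153.Dl.PR
open Cfsg.Spor.Fi22 (Gen)

def xw : List Gen := [.h, .e, .a, .g, .f, .i, .d, .c, .e, .d, .b, .h, .c, .d, .i]

def u : List Gen := []

end Cfsg.Agent.H153.Dl.E22
end

-- part: H153/Dl/E22/Q0
section
set_option linter.all false

/-!
# An element of order 16 in `Fi22` : certificates 0 (helper153)

Generated data and kernel checks.
-/

set_option autoImplicit false
set_option maxRecDepth 100000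
set_option Elab.async false

namespace Cfsg.Agent.H153.Dl.E22

open Cfsg Cfsg.Agent.Lib.PermNetPt Cfsg.Agent.H153.Dl Cfsg.Agent.H153.Dl.PR
open Cfsg.Spor.Fi22 (Gen)

def q0 : List (ℕ × ℕ) := [(88, 0x6),
  (313, 0x456845984323),
  (325, 0x34567845698452),
  (1018, 0x234567843254658984321)]

theorem c0 : R22.chkL (R22.nw xw.reverse) false 3 q0 = true := by decide +kernel

def q1 : List (ℕ × ℕ) := [(0, 0x1),
  (6, 0x3),
  (4, 0x32),
  (7, 0x342),
  (28, 0x4563),
  (9, 0x23481),
  (10, 0x43),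
  (11, 0x3452),
  (12, 0x3482),
  (13, 0x234561),
  (16, 0x4),
  (17, 0x453),
  (29, 0x4583),
  (24, 0x2345841),
  (31, 0x345672),
  (32, 0x345682),
  (36, 0x23456841),
  (37, 0x23456891),
  (38, 0x23458431),
  (40, 0x5),
  (52, 0x3458432),
  (89, 0x675),
  (56, 0x234568431),
  (59, 0x234584321),
  (69, 0x456893),
  (154, 0x7),
  (73, 0x34568432),
  (74, 0x34568452),
  (92, 0x9),
  (81, 0x2345684321),
  (84, 0x2345684591),
  (85, 0x2345684981),
  (124, 0x45684593),
  (101, 0x345684352),
  (105, 0x345843982),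
  (106, 0x23456784321),
  (134, 0x3456845982),
  (130, 0x3456784982),
  (112, 0x23456843251),
  (116, 0x23456843981),
  (118, 0x23458432981),
  (131, 0x3456843542),
  (132, 0x3456843592),
  (133, 0x3456843982),
  (139, 0x234567843561),
  (170, 0x34584398452),
  (142, 0x234567845691),
  (146, 0x234568432981),
  (151, 0x234568459841),
  (160, 0x34567843562),
  (162, 0x34567843982),
  (163, 0x34567845692),
  (173, 0x2345678432591),
  (174, 0x2345678432981),
  (196, 0x4567845693),
  (208, 0x345684354982),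
  (212, 0x345843984562),
  (199, 0x345678435462),
  (211, 0x345684598432),
  (213, 0x23456784325431)]

theorem c1 : R22.chkL (R22.nw xw.reverse) true 1 q1 = true := by decide +kernel

def q2 : List (ℕ × ℕ) := [(214, 0x23456784325461),
  (254, 0x3456784356982),
  (228, 0x23456784569841),
  (262, 0x3456843598452),
  (264, 0x3456845984322),
  (243, 0x23458432984351),
  (249, 0x3456784354652),
  (259, 0x3456843548982),
  (265, 0x3458439845672),
  (266, 0x234567843254361),
  (268, 0x234567843254391),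
  (270, 0x234567843254681),
  (328, 0x34568435498432),
  (288, 0x234567845698431),
  (290, 0x234567845984321),
  (297, 0x234568432598451),
  (304, 0x234568435984351),
  (307, 0x234568459843211),
  (315, 0x34567843546592),
  (323, 0x34567843984562),
  (326, 0x34567845984322),
  (331, 0x34568435984352),
  (332, 0x34568435984562),
  (335, 0x2345678432543651),
  (398, 0x345678435465842),
  (348, 0x2345678432598431),
  (364, 0x2345678435984561),
  (396, 0x4567845984323),
  (366, 0x2345678456984321),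
  (375, 0x2345684325498451),
  (412, 0x345678456984322),
  (378, 0x2345684325984561),
  (384, 0x2345684354984321),
  (388, 0x2345684359843251),
  (409, 0x345678435984352),
  (414, 0x345678459843212),
  (421, 0x345684359843252),
  (422, 0x345684359843562),
  (428, 0x23456784325436891),
  (432, 0x23456784325438981),
  (434, 0x23456784325465841),
  (442, 0x23456784325698431),
  (443, 0x23456784325698451),
  (444, 0x23456784325984321),
  (509, 0x3456784354659842),
  (455, 0x23456784354698431),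
  (459, 0x23456784354984321),
  (465, 0x23456784359843211),
  (467, 0x23456784359843561),
  (479, 0x23456843254898451),
  (484, 0x23456843259843251),
  (515, 0x3456784354984322),
  (506, 0x3456784354658432),
  (499, 0x23456843598432151),
  (519, 0x3456784356984352),
  (501, 0x23456843598435671),
  (520, 0x3456784356984562),
  (524, 0x3456784359845672),
  (525, 0x3456784569843212),
  (530, 0x3456843548984562)]

theorem c2 : R22.chkL (R22.nw xw.reverse) true 1 q2 = true := by decide +kernel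

def q3 : List (ℕ × ℕ) := [(537, 0x3456843598432562),
  (791, 0x4567845698432543),
  (563, 0x234567843256984561),
  (659, 0x34567843569843562),
  (675, 0x34568435984325672),
  (645, 0x34567843546984322),
  (609, 0x234568432548984561),
  (613, 0x234568432549843561),
  (615, 0x234568432598432151),
  (630, 0x234568435498435461),
  (688, 0x2345678432543984561),
  (692, 0x2345678432546598451),
  (693, 0x2345678432546898431),
  (823, 0x345678435984321562),
  (709, 0x2345678432569843561),
  (714, 0x2345678432598435461),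
  (716, 0x2345678432598435671),
  (798, 0x345678435465984562),
  (747, 0x2345678435698432541),
  (749, 0x2345678435698435461),
  (815, 0x345678435498435462),
  (802, 0x345678435469843212),
  (760, 0x2345684325438984351),
  (766, 0x2345684325489843251),
  (797, 0x345678435465984352),
  (850, 0x23456784325465984351),
  (863, 0x23456784325489843561),
  (870, 0x23456784325498435671),
  (983, 0x3456784356984325462),
  (971, 0x3456784354698432542),
  (881, 0x23456784325984325671),
  (894, 0x23456784354659843541),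
  (922, 0x23456784356984325431),
  (1009, 0x234567843254389843561),
  (1021, 0x234567843254659843211),
  (1024, 0x234567843254659843561),
  (1146, 0x34567843546598435672),
  (1053, 0x234567843256984321541),
  (1090, 0x234567843546984321541),
  (1092, 0x234567843546984325431),
  (1114, 0x234567843569843254671),
  (1166, 0x2345678432543654984561),
  (1179, 0x2345678432543689843541),
  (1208, 0x2345678432546598432151),
  (1210, 0x2345678432546598432561),
  (1212, 0x2345678432546598435481),
  (1213, 0x2345678432546598435671),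
  (1302, 0x2345678435469843254361),
  (1314, 0x2345678435698432543671),
  (1410, 0x23456784325465984354651),
  (1412, 0x23456784325465984354681),
  (1461, 0x23456784325698432543841),
  (1463, 0x23456784325698432546571),
  (1469, 0x23456784325698435465891),
  (1546, 0x234567843254368984325431),
  (1601, 0x234567843254659843546571),
  (1656, 0x234567843256984325436571),
  (1659, 0x234567843256984325436841),
  (1670, 0x234567843259843215465841),
  (1732, 0x2345678432543684984325431)]

theorem c3 : R22.chkL (R22.nw xw.reverse) true 1 q3 = true := by decide +kernel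

def q4 : List (ℕ × ℕ) := [(1756, 0x2345678432543698432543891),
  (1778, 0x2345678432546584984354681),
  (1839, 0x2345678432546984325436541),
  (1858, 0x2345678432549843254658431),
  (1883, 0x2345678432598432546584321),
  (1977, 0x23456784325436984325436891),
  (2099, 0x23456784325698432543657841),
  (2455, 0x2345678432543698432154326571)]

theorem c4 : R22.chkL (R22.nw xw.reverse) true 1 q4 = true := by decide +kernel

def q5 : List (ℕ × ℕ) := [(30, 0x4893),
  (42, 0x584),
  (43, 0x8),
  (44, 0x894),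
  (71, 0x34567842),
  (72, 0x34567892),
  (144, 0x234568432541),
  (172, 0x2345678432561),
  (241, 0x23456843984561),
  (269, 0x234567843254651),
  (317, 0x34567843546982),
  (324, 0x34567845698432),
  (336, 0x2345678432543681),
  (337, 0x2345678432543691),
  (349, 0x2345678432598451),
  (377, 0x2345684325984351),
  (392, 0x2345843298435481),
  (429, 0x23456784325436981),
  (481, 0x23456843254984351),
  (562, 0x234567843256984351),
  (592, 0x234567843569843541),
  (608, 0x234568432548984351),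
  (818, 0x345678435698432542),
  (711, 0x2345678432598432151),
  (733, 0x2345678435469843541),
  (801, 0x345678435468984562),
  (951, 0x23456843254984325481),
  (993, 0x234567843254365984351),
  (1112, 0x234567843569843254361),
  (1200, 0x2345678432543984354681),
  (1315, 0x2345678435698432543681),
  (1397, 0x23456784325465849843561)]

theorem c5 : R22.chkL (R22.nw xw.reverse) true 2 q5 = true := by decide +kernel

def q6 : List (ℕ × ℕ) := [(34, 0x345892),
  (50, 0x3456842),
  (230, 0x23456843254381),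
  (293, 0x234568432543981),
  (628, 0x234568435498432541),
  (974, 0x3456784354698435482)]

theorem c6 : R22.chkL (R22.nw xw.reverse) true 7 q6 = true := by decide +kernel

end Cfsg.Agent.H153.Dl.E22
end

-- part: H153/Dl/E22/D
section
set_option linter.all false

/-!
# An element of order 16 in `Fi22` : the data (helper153)

Generated data and kernel checks.
-/

set_option autoImplicit false
set_option maxRecDepth 100000
set_option Elab.async false

namespace Cfsg.Agent.H153.Dl.E22

open Cfsg Cfsg.Agent.Lib.PermNetPt Cfsg.Agent.H153.Dl Cfsg.Agent.H153.Dl.PR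
open Cfsg.Spor.Fi22 (Gen)

/-- The data. -/
noncomputable def D : R22.Data where
  xw := xw
  c := (.b : Gen)
  u := u
  p0 := 2
  I := [1, 2, 7]
  Z := [3]
  Gs := [(false, 3, q0),
    (true, 1, q1),
    (true, 1, q2),
    (true, 1, q3),
    (true, 1, q4),
    (true, 2, q5),
    (true, 7, q6)]
  good := [2, 248]
  ws := [[rep 1 xw], [rep 2 xw], [rep 4 xw], [rep 8 xw]]
  ls := [[2, 0, 2, 0, 2, 2, 2, 0, 2, 0, 2, 2, 2],
    [],
    [2, 2, 2, 2, 2, 2, 0, 2, 2, 0, 2, 2, 2, 2, 2, 0, 2, 2, 2, 2],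
    [2, 2, 2, 0, 1, 1, 1, 1, 0, 1, 1, 0, 1, 0, 1, 1, 1, 0, 1, 1, 1, 1],
    [2, 0, 2, 2, 2, 2, 0, 2, 0, 2, 2, 2, 2, 2, 0, 2, 2, 2, 2, 2],
    [1, 0, 1, 0, 1, 0, 1, 1, 1, 0, 1, 0, 1, 1, 1],
    [1, 1, 0, 1, 0, 1, 1, 1, 0, 1, 0, 1, 1, 1],
    [1, 1, 1, 1, 1, 1, 1, 0, 1, 1, 1, 0, 2, 2, 0, 2, 2, 2, 2],
    [2, 2, 0, 2, 2, 2, 2, 2, 2, 2, 0, 2, 2, 0, 2, 2, 0, 2, 2, 2]]

theorem hu : chkPt (R22.nw u) (R22.pn D.c) D.p0 = true := by decide +kernel

theorem hI : (D.I.all fun j => cf (R22.nw D.xw.reverse) (R22.nw D.u) (R22.nw [D.c]) false j D.p0) = true := by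
  decide +kernel

theorem hZ : (D.Z.all fun j => cf (R22.nw D.xw.reverse) (R22.nw D.u) (R22.nw [D.c]) true j D.p0) = true := by
  decide +kernel

theorem gen : R22.genB (D.u ++ D.c :: D.u.reverse) D.xw D.p0 D.ls = true := by decide +kernel

theorem covering : Nat.beq (Nat.land R22.U (R22.cov D.ws (mskG D.good D.Gs))) R22.U = true := by decide +kernel

theorem hit : ∀ a ∈ D.Gs, (a.1 = true → a.2.1 ∈ D.I) ∧ (a.1 = false → a.2.1 ∈ D.Z) := by
  have key : ∀ (b : Bool) (j : ℕ) (q : List (ℕ × ℕ)), (Bool.rec (D.Z.contains j) (D.I.contains j) b : Bool) = true →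
    ((b, j, q).1 = true → (b, j, q).2.1 ∈ D.I) ∧ ((b, j, q).1 = false → (b, j, q).2.1 ∈ D.Z) := by
    intro b j q h
    refine ⟨?_, ?_⟩
    · rintro rfl
      exact List.contains_iff_mem.1 h
    · rintro rfl
      exact List.contains_iff_mem.1 h
  exact (List.forall_mem_cons.2 ⟨key _ _ _ rfl, (List.forall_mem_cons.2 ⟨key _ _ _ rfl, (List.forall_mem_cons.2 ⟨key _ _ _ rfl, (List.forall_mem_cons.2 ⟨key _ _ _ rfl, (List.forall_mem_cons.2 ⟨key _ _ _ rfl, (List.forall_mem_cons.2 ⟨key _ _ _ rfl, (List.forall_mem_cons.2 ⟨key _ _ _ rfl, (fun _ h => absurd h (by simp))⟩)⟩)⟩)⟩)⟩)⟩)⟩)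

theorem cert : ∀ a ∈ D.Gs, R22.chkL (R22.nw D.xw.reverse) a.1 a.2.1 a.2.2 = true :=
  (List.forall_mem_cons.2 ⟨c0, (List.forall_mem_cons.2 ⟨c1, (List.forall_mem_cons.2 ⟨c2, (List.forall_mem_cons.2 ⟨c3, (List.forall_mem_cons.2 ⟨c4, (List.forall_mem_cons.2 ⟨c5, (List.forall_mem_cons.2 ⟨c6, (fun _ h => absurd h (by simp))⟩)⟩)⟩)⟩)⟩)⟩)⟩)

theorem comm : ∀ s ∈ D.ws, ∀ w ∈ s, R22.word w * R22.word D.xw = R22.word D.xw * R22.word w := by
  exact (List.forall_mem_cons.2 ⟨(List.forall_mem_cons.2 ⟨R22.comm_rep 1, (fun _ h => absurd h (by simp))⟩), (List.forall_mem_cons.2 ⟨(List.forall_mem_cons.2 ⟨R22.comm_rep 2, (fun _ h => absurd h (by simp))⟩), (List.forall_mem_cons.2 ⟨(List.forall_mem_cons.2 ⟨R22.comm_rep 4, (fun _ h => absurd h (by simp))⟩), (List.forall_mem_cons.2 ⟨(List.forall_mem_cons.2 ⟨R22.comm_rep 8, (fun _ h => absurd h (by simp))⟩), (fun _ h => absurd h (by simp))⟩)⟩)⟩)⟩)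

theorem ok : D.Ok where
  hu := hu
  hI := List.all_eq_true.1 hI
  hZ := List.all_eq_true.1 hZ
  hit := hit
  cert := cert
  covering := R22.cv_of covering
  gen := gen
  comm := comm

/-- **The order of the centralizer of `x` is at most 32.** -/
theorem card_le : Nat.card (Subgroup.centralizer ({D.x} : Set _)) ≤ 32 :=
  ok.card_le

end Cfsg.Agent.H153.Dl.E22
end

-- part: H153/Dl/F22/X
section
set_option linter.all false

/-!
# An element of order 9 in `Fi22` : the words (helper153)

Generated data.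
-/

set_option autoImplicit false
set_option maxRecDepth 100000
set_option Elab.async false

namespace Cfsg.Agent.H153.Dl.F22

open Cfsg Cfsg.Agent.Lib.PermNetPt Cfsg.Agent.H153.Dl Cfsg.Agent.H153.Dl.PR
open Cfsg.Spor.Fi22 (Gen)

def xw : List Gen := [.a, .b, .c, .h, .d, .e, .f]

def y0a : List Gen := [.e, .c, .i, .h, .d, .c, .e, .d, .a, .c, .h, .b, .f, .e, .d, .c, .b, .i, .d, .h, .f, .b, .c, .e, .b, .d, .c, .b, .d, .c, .h, .i, .d, .c, .e, .d, .b, .c, .d, .a, .b, .f, .e, .h, .d, .c, .d, .h, .e, .b, .d, .a, .c, .b, .f, .i, .d, .h, .c, .e, .d, .c, .e, .h, .d, .i]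

def y0b : List Gen := [.i, .d, .h, .e, .c, .d, .e, .c, .h, .d, .i, .f, .b, .c, .a, .d, .b, .e, .h, .d, .c, .d, .h, .e, .f, .b, .a, .d, .c, .b, .d, .e, .c, .d, .i, .h, .c, .d, .b, .c, .d, .b, .e, .c, .b, .f, .h, .d, .i, .b, .c, .d, .e, .f, .b, .h, .c, .a, .d, .e, .c, .d, .h, .i, .c, .e]

def u : List Gen := [.g, .f, .d, .e, .c, .d, .h, .i, .b, .c, .d, .h, .e, .d, .c, .b]

end Cfsg.Agent.H153.Dl.F22
end

-- part: H153/Dl/F22/Q0
section
set_option linter.all false
open scoped Cfsg.Agent.FastGrp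

/-!
# An element of order 9 in `Fi22` : certificates 0 (helper153)

Generated data and kernel checks.
-/

set_option autoImplicit false
set_option maxRecDepth 100000
set_option Elab.async false

namespace Cfsg.Agent.H153.Dl.F22

open Cfsg Cfsg.Agent.Lib.PermNetPt Cfsg.Agent.H153.Dl Cfsg.Agent.H153.Dl.PR
open Cfsg.Spor.Fi22 (Gen)

def q0 : List (ℕ × ℕ) := [(44, 0x894),
  (722, 0x2345678435465849841)]

theorem c0 : R22.chkL (R22.nw xw.reverse) false 3 q0 = true := by decide +kernel

def q1 : List (ℕ × ℕ) := [(26, 0x54),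
  (31, 0x345672),
  (313, 0x456845984323),
  (208, 0x345684354982)]

theorem c1 : R22.chkL (R22.nw xw.reverse) false 4 q1 = true := by decide +kernel

def q2 : List (ℕ × ℕ) := [(0, 0x1),
  (43, 0x8),
  (16, 0x4),
  (41, 0x564),
  (92, 0x9),
  (154, 0x7),
  (70, 0x458493),
  (53, 0x3458492),
  (121, 0x567894),
  (71, 0x34567842),
  (76, 0x34584392),
  (80, 0x2345678491),
  (100, 0x345678492),
  (108, 0x23456784391),
  (110, 0x23456784591),
  (123, 0x45678493),
  (126, 0x3456784352),
  (127, 0x3456784392),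
  (129, 0x3456784592),
  (130, 0x3456784982),
  (156, 0x456784593),
  (138, 0x234567843541),
  (140, 0x234567843591),
  (157, 0x456784983),
  (161, 0x34567843592),
  (162, 0x34567843982),
  (164, 0x34567845982),
  (173, 0x2345678432591),
  (177, 0x2345678435491),
  (180, 0x2345678439841),
  (247, 0x45678459843),
  (197, 0x4567845983),
  (203, 0x345678435982),
  (206, 0x345678459842),
  (223, 0x23456784354891),
  (226, 0x23456784359841),
  (227, 0x23456784398451),
  (229, 0x23456784598431),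
  (253, 0x3456784354982),
  (255, 0x3456784359842),
  (256, 0x3456784398452),
  (265, 0x3458439845672),
  (268, 0x234567843254391),
  (272, 0x234567843254891),
  (277, 0x234567843298451),
  (316, 0x34567843546892),
  (285, 0x234567843598431),
  (306, 0x234568439845671),
  (318, 0x34567843548982),
  (319, 0x34567843549842),
  (321, 0x34567843598432),
  (326, 0x34567845984322),
  (423, 0x345684359845672),
  (399, 0x345678435465892),
  (412, 0x345678456984322),
  (348, 0x2345678432598431),
  (400, 0x345678435465982),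
  (413, 0x345678456984352),
  (406, 0x345678435698432),
  (360, 0x2345678435698431)]

theorem c2 : R22.chkL (R22.nw xw.reverse) true 1 q2 = true := by (rewrite [show @Cfsg.Agent.H153.Dl.PR.chkL = delta% @Cfsg.Agent.H153.Dl.PR.chkL from by delta Cfsg.Agent.H153.Dl.PR.chkL; rfl, show @Cfsg.Agent.H153.Dl.PR.chk1 = delta% @Cfsg.Agent.H153.Dl.PR.chk1 from by delta Cfsg.Agent.H153.Dl.PR.chk1; rfl, show @Cfsg.Agent.H153.Dl.PR.cf = delta% @Cfsg.Agent.H153.Dl.PR.cf from by delta Cfsg.Agent.H153.Dl.PR.cf; rfl, show @Cfsg.Agent.H153.Dl.PR.mvd = delta% @Cfsg.Agent.H153.Dl.PR.mvd from by delta Cfsg.Agent.H153.Dl.PR.mvd; rfl, show @Cfsg.Agent.H153.Dl.PR.itx = delta% @Cfsg.Agent.H153.Dl.PR.itx from by delta Cfsg.Agent.H153.Dl.PR.itx; rfl, Cfsg.Agent.Lib.PermNetFast.winv_fast]; decide +kernel)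

def q3 : List (ℕ × ℕ) := [(363, 0x2345678435984351),
  (381, 0x2345684329845671),
  (390, 0x2345684359845671),
  (404, 0x345678435498432),
  (405, 0x345678435498452),
  (409, 0x345678435984352),
  (433, 0x23456784325439841),
  (445, 0x23456784325984351),
  (507, 0x3456784354658492),
  (453, 0x23456784354659841),
  (535, 0x3456843549845672),
  (457, 0x23456784354898431),
  (466, 0x23456784359843251),
  (498, 0x23456843549845671),
  (501, 0x23456843598435671),
  (516, 0x3456784354984352),
  (671, 0x34568435489845672),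
  (562, 0x234567843256984351),
  (665, 0x34567845698432542),
  (566, 0x234567843259843541),
  (638, 0x34567843546584392),
  (575, 0x234567843546598431),
  (589, 0x234567843549845671),
  (645, 0x34567843546984322),
  (652, 0x34567843549843252),
  (653, 0x34567843549843542),
  (813, 0x345678435498432542),
  (703, 0x2345678432549843541),
  (712, 0x2345678432598432541),
  (825, 0x345678456984321542),
  (829, 0x23456784325436598431),
  (833, 0x23456784325436898451),
  (866, 0x23456784325498432541),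
  (1151, 0x34567843546898435482),
  (1053, 0x234567843256984321541),
  (1139, 0x34567843546589843542),
  (1316, 0x2345678435698432543841),
  (1351, 0x23456784325436589843541),
  (1369, 0x23456784325436984325431),
  (1506, 0x23456784354698432543841),
  (1551, 0x234567843254368984354891),
  (1726, 0x2345678432543659843254891),
  (1828, 0x2345678432546898435465891),
  (2035, 0x23456784325465984325465891)]

theorem c3 : R22.chkL (R22.nw xw.reverse) true 1 q3 = true := by (rewrite [show @Cfsg.Agent.H153.Dl.PR.chkL = delta% @Cfsg.Agent.H153.Dl.PR.chkL from by delta Cfsg.Agent.H153.Dl.PR.chkL; rfl, show @Cfsg.Agent.H153.Dl.PR.chk1 = delta% @Cfsg.Agent.H153.Dl.PR.chk1 from by delta Cfsg.Agent.H153.Dl.PR.chk1; rfl, show @Cfsg.Agent.H153.Dl.PR.cf = delta% @Cfsg.Agent.H153.Dl.PR.cf from by delta Cfsg.Agent.H153.Dl.PR.cf; rfl, show @Cfsg.Agent.H153.Dl.PR.mvd = delta% @Cfsg.Agent.H153.Dl.PR.mvd from by delta Cfsg.Agent.H153.Dl.PR.mvd; rfl, show @Cfsg.Agent.H153.Dl.PR.itx = delta% @Cfsg.Agent.H153.Dl.PR.itx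 from by delta Cfsg.Agent.H153.Dl.PR.itx; rfl, Cfsg.Agent.Lib.PermNetFast.winv_fast]; decide +kernel)

def q4 : List (ℕ × ℕ) := [(1, 0x21),
  (3, 0x231),
  (45, 0x45673),
  (30, 0x4893),
  (72, 0x34567892),
  (93, 0x4567843),
  (94, 0x4567893),
  (204, 0x345678439842),
  (245, 0x23458439845671),
  (258, 0x3456784598432),
  (310, 0x234584329845671),
  (312, 0x456784598433),
  (393, 0x2345843298435671),
  (526, 0x3456784569843252),
  (792, 0x4567845698435483),
  (538, 0x3456843598435672),
  (553, 0x234567843254689841),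
  (644, 0x34567843546898452),
  (781, 0x2345684325984354671),
  (1671, 0x234567843259843254658431)]

theorem c4 : R22.chkL (R22.nw xw.reverse) true 2 q4 = true := by (rewrite [show @Cfsg.Agent.H153.Dl.PR.chkL = delta% @Cfsg.Agent.H153.Dl.PR.chkL from by delta Cfsg.Agent.H153.Dl.PR.chkL; rfl, show @Cfsg.Agent.H153.Dl.PR.chk1 = delta% @Cfsg.Agent.H153.Dl.PR.chk1 from by delta Cfsg.Agent.H153.Dl.PR.chk1; rfl, show @Cfsg.Agent.H153.Dl.PR.cf = delta% @Cfsg.Agent.H153.Dl.PR.cf from by delta Cfsg.Agent.H153.Dl.PR.cf; rfl, show @Cfsg.Agent.H153.Dl.PR.mvd = delta% @Cfsg.Agent.H153.Dl.PR.mvd from by delta Cfsg.Agent.H153.Dl.PR.mvd; rfl, show @Cfsg.Agent.H153.Dl.PR.itx = delta% @Cfsg.Agent.H153.Dl.PR.itx from by delta Cfsg.Agent.H153.Dl.PR.itx; rfl, Cfsg.Agent.Lib.PermNetFast.winv_fast]; decide +kernel)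

end Cfsg.Agent.H153.Dl.F22
end

-- part: H153/Dl/F22/D
section
set_option linter.all false
open scoped Cfsg.Agent.FastGrp

/-!
# An element of order 9 in `Fi22` : the data (helper153)

Generated data and kernel checks.
-/

set_option autoImplicit false
set_option maxRecDepth 100000
set_option Elab.async false

namespace Cfsg.Agent.H153.Dl.F22

open Cfsg Cfsg.Agent.Lib.PermNetPt Cfsg.Agent.H153.Dl Cfsg.Agent.H153.Dl.PR
open Cfsg.Spor.Fi22 (Gen)

/-- The data. -/
noncomputable def D : R22.Data where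
  xw := xw
  c := (.a : Gen)
  u := u
  p0 := 502
  I := [1, 2]
  Z := [3, 4]
  Gs := [(false, 3, q0),
    (false, 4, q1),
    (true, 1, q2),
    (true, 1, q3),
    (true, 2, q4)]
  good := [502, 1050]
  ws := [[rep 1 xw, rep 2 xw], [rep 3 xw, rep 6 xw], [y0a, y0b]]
  ls := [[1, 1, 0, 1, 1, 0, 1, 1, 0, 1, 1, 1],
    [1, 1, 1, 0, 1, 1, 0, 1, 1, 0, 1, 1, 1],
    [2, 2, 2, 0, 2, 2, 0, 2, 2, 0, 2, 2, 2],
    [1, 0, 2, 2, 0, 2, 2, 0, 2, 2, 0, 2, 0, 2, 0, 2, 2, 2],
    [1, 1, 0, 2, 2, 0, 2, 2, 0, 2, 2, 0, 2, 0, 2, 0, 2, 2, 2],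
    [2, 2, 2, 0, 1, 1, 0, 1, 1, 0, 1, 1, 0, 1, 0, 1, 0, 1, 1, 1],
    [0, 1, 1, 1, 0, 2, 2, 2, 0, 2, 2, 2, 0, 2, 0, 2, 2, 2],
    [0, 2, 2, 2, 2, 0, 1, 0, 1, 1, 1, 0, 1, 1, 0, 1, 0, 1, 0, 1, 1, 1, 1],
    [1, 0, 1, 1, 1, 0, 1, 1, 1, 0, 1, 1, 0, 1, 0, 1, 0, 1, 1, 1, 1]]

theorem hu : chkPt (R22.nw u) (R22.pn D.c) D.p0 = true := by decide +kernel

theorem hI : (D.I.all fun j => cf (R22.nw D.xw.reverse) (R22.nw D.u) (R22.nw [D.c]) false j D.p0) = true := by
  decide +kernel

theorem hZ : (D.Z.all fun j => cf (R22.nw D.xw.reverse) (R22.nw D.u) (R22.nw [D.c]) true j D.p0) = true := by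
  decide +kernel

theorem gen : R22.genB (D.u ++ D.c :: D.u.reverse) D.xw D.p0 D.ls = true := by (rewrite [show @Cfsg.Agent.H153.Dl.PR.genB = delta% @Cfsg.Agent.H153.Dl.PR.genB from by delta Cfsg.Agent.H153.Dl.PR.genB; rfl, show @Cfsg.Agent.Lib.PermNetPt.chkPt = delta% @Cfsg.Agent.Lib.PermNetPt.chkPt from by delta Cfsg.Agent.Lib.PermNetPt.chkPt; rfl, Cfsg.Agent.Lib.PermNetFast.winv_fast]; decide +kernel)

theorem comm_y0a : R22.chkEq (y0a ++ xw) (xw ++ y0a) = true := by (rewrite [show @Cfsg.Agent.H153.Dl.PR.chkEq = delta% @Cfsg.Agent.H153.Dl.PR.chkEq from by delta Cfsg.Agent.H153.Dl.PR.chkEq; rfl, Cfsg.Agent.Lib.PermNetFast.winv_fast]; decide +kernel)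

theorem comm_y0b : R22.chkEq (y0b ++ xw) (xw ++ y0b) = true := by (rewrite [show @Cfsg.Agent.H153.Dl.PR.chkEq = delta% @Cfsg.Agent.H153.Dl.PR.chkEq from by delta Cfsg.Agent.H153.Dl.PR.chkEq; rfl, Cfsg.Agent.Lib.PermNetFast.winv_fast]; decide +kernel)

theorem covering : Nat.beq (Nat.land R22.U (R22.cov D.ws (mskG D.good D.Gs))) R22.U = true := by decide +kernel

theorem hit : ∀ a ∈ D.Gs, (a.1 = true → a.2.1 ∈ D.I) ∧ (a.1 = false → a.2.1 ∈ D.Z) := by
  have key : ∀ (b : Bool) (j : ℕ) (q : List (ℕ × ℕ)), (Bool.rec (D.Z.contains j) (D.I.contains j) b : Bool) = true →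
    ((b, j, q).1 = true → (b, j, q).2.1 ∈ D.I) ∧ ((b, j, q).1 = false → (b, j, q).2.1 ∈ D.Z) := by
    intro b j q h
    refine ⟨?_, ?_⟩
    · rintro rfl
      exact List.contains_iff_mem.1 h
    · rintro rfl
      exact List.contains_iff_mem.1 h
  exact (List.forall_mem_cons.2 ⟨key _ _ _ rfl, (List.forall_mem_cons.2 ⟨key _ _ _ rfl, (List.forall_mem_cons.2 ⟨key _ _ _ rfl, (List.forall_mem_cons.2 ⟨key _ _ _ rfl, (List.forall_mem_cons.2 ⟨key _ _ _ rfl, (fun _ h => absurd h (by simp))⟩)⟩)⟩)⟩)⟩)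

theorem cert : ∀ a ∈ D.Gs, R22.chkL (R22.nw D.xw.reverse) a.1 a.2.1 a.2.2 = true :=
  (List.forall_mem_cons.2 ⟨c0, (List.forall_mem_cons.2 ⟨c1, (List.forall_mem_cons.2 ⟨c2, (List.forall_mem_cons.2 ⟨c3, (List.forall_mem_cons.2 ⟨c4, (fun _ h => absurd h (by simp))⟩)⟩)⟩)⟩)⟩)

theorem comm : ∀ s ∈ D.ws, ∀ w ∈ s, R22.word w * R22.word D.xw = R22.word D.xw * R22.word w := by
  exact (List.forall_mem_cons.2 ⟨(List.forall_mem_cons.2 ⟨R22.comm_rep 1, (List.forall_mem_cons.2 ⟨R22.comm_rep 2, (fun _ h => absurd h (by simp))⟩)⟩), (List.forall_mem_cons.2 ⟨(List.forall_mem_cons.2 ⟨R22.comm_rep 3, (List.forall_mem_cons.2 ⟨R22.comm_rep 6, (fun _ h => absurd h (by simp))⟩)⟩), (List.forall_mem_cons.2 ⟨(List.forall_mem_cons.2 ⟨R22.comm_of comm_y0a, (List.forall_mem_cons.2 ⟨R22.comm_of comm_y0b, (fun _ h => absurd h (by simp))⟩)⟩), (fun _ h => absurd h (by simp))⟩)⟩)⟩)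

theorem ok : D.Ok where
  hu := hu
  hI := List.all_eq_true.1 hI
  hZ := List.all_eq_true.1 hZ
  hit := hit
  cert := cert
  covering := R22.cv_of covering
  gen := gen
  comm := comm

/-- **The order of the centralizer of `x` is at most 54.** -/
theorem card_le : Nat.card (Subgroup.centralizer ({D.x} : Set _)) ≤ 54 :=
  ok.card_le

end Cfsg.Agent.H153.Dl.F22
end

-- part: H153/Dl/RFi23
section
set_option linter.all false
open scoped Cfsg.Agent.FastGrp

/-!
# `Fi23` on its 31671 transpositions, for `H153.Dl.PR` (helper153)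
-/

set_option autoImplicit false
set_option maxRecDepth 100000

namespace Cfsg.Agent.H153.Dl

open Cfsg Cfsg.Agent.Lib.PermNet Cfsg.Agent.Lib.PermNetPt Cfsg.Agent.LThreeFi23 Cfsg.Agent.Fischer.Fi23Hom
open Cfsg.Spor (Fi23)

/-- The letters in the order of the digits `1, …, 11`. -/
def gl23 : List LThreeFi23.Lt := [.a, .b, .c, .d, .e, .f, .g, .h, .i, .j, .z]

/-- The letters of the digits. -/
def gd23 (n : ℕ) : LThreeFi23.Lt := (LThreeFi23.Lt.z :: gl23).getD n .z

theorem mem_gl23 (x : LThreeFi23.Lt) : x ∈ gl23 := by cases x <;> decide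

/-- `Fi23` on its transpositions. -/
noncomputable def R23 : PR Fi23 where
  Lt := LThreeFi23.Lt
  N := 2 ^ 15
  nw := ntw
  wok := ntw_ok
  word := elw
  word_nil := elw_nil
  word_append := elw_append
  word_reverse := elw_reverse
  rho := rho
  rho_word := rho_elw
  IsPt d p := p < 31671 ∧ T p = d
  conj := by
    rintro _ p ⟨hp, rfl⟩ g
    exact ⟨act_lt g hp, T_act g hp⟩
  inj := by
    rintro _ _ p ⟨_, rfl⟩ ⟨_, rfl⟩
    rfl
  gl := gl23
  gd := gd23
  pn := pt
  isPt_gen c := ⟨pt_lt c, by rw [T_pt, elw_cons, elw_nil, mul_one]⟩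
  U := 2 ^ 31671 - 1
  bit := by
    rintro _ p ⟨hp, -⟩
    rw [Nat.testBit_two_pow_sub_one, decide_eq_true hp]
  eq_one g h := eq_one_of_comm fun c => by
    have h1 := h c (mem_gl23 c)
    rwa [elw_cons, elw_nil, mul_one] at h1

end Cfsg.Agent.H153.Dl
end

-- part: H153/Dl/C23/X
section
set_option linter.all false

/-!
# An element of order 16 in `Fi23` : the words (helper153)

Generated data.
-/

set_option autoImplicit false
set_option maxRecDepth 100000
set_option Elab.async false

namespace Cfsg.Agent.H153.Dl.C23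

open Cfsg Cfsg.Agent.Lib.PermNetPt Cfsg.Agent.H153.Dl Cfsg.Agent.H153.Dl.PR

def xw : List LThreeFi23.Lt := [.i, .e, .h, .c, .a, .f, .i, .d, .e, .d, .h, .c, .b, .d, .g, .f, .c, .h, .d]

def u : List LThreeFi23.Lt := [.e, .f, .g, .j, .f, .d, .e, .b, .c, .d, .h, .i, .f, .d, .e, .b, .c, .d, .h, .g, .f, .e, .d, .c, .b]

end Cfsg.Agent.H153.Dl.C23
end

-- part: H153/Dl/C23/D
section
set_option linter.all false

/-!
# An element of order 16 in `Fi23` : the data (helper153; two levels, helper59)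

Generated data and kernel checks.
-/

set_option autoImplicit false
set_option maxRecDepth 100000
set_option Elab.async false

namespace Cfsg.Agent.H153.Dl.C23

open Cfsg Cfsg.Agent.Lib.PermNet Cfsg.Agent.Lib.PermNetPt Cfsg.Agent.H153.Dl Cfsg.Agent.H153.Dl.PR


/-- The data. -/
noncomputable def D : R23.Data where
  xw := xw
  c := (.j : LThreeFi23.Lt)
  u := ([] : List LThreeFi23.Lt)
  p0 := 8006
  I := []
  Z := []
  Gs := [(false, 1, [(228, 0xa765432845698432b), (229, 0xa765432845698435b), (330, 0x453498675645a238), (331, 0x453498675643a238), (6604,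
    0xa765432184325436549843215489b), (6921, 0xa765432184325436849843215489b), (8017, 0x45634523487a6123498432154898), (8353,
    0x4563452347a65123498432154898)]), (false, 2, [(2, 0xa7b), (822, 0xa7654321843546598435b), (832, 0xa7654321843546898432b), (1028,
    0xa76543218432543698432b), (1029, 0xa76543218432543698435b), (1145, 0x45634523487a61984328), (1163, 0x4563452347a651984358), (2557,
    0x4563452347a6123984328), (2558, 0x4563452347a6123984358), (6531, 0xa7), (6945, 0xa765432184325436898432154384b), (8161,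
    0x45634523487a6123984321543848)]), (true, 3, [(821, 0xa7654321843546598432b), (833, 0xa7654321843546898435b), (1146, 0x45634523487a61984358), (1162,
    0x4563452347a651984328), (1410, 0xa765432184325436798432b), (1411, 0xa765432184325436798435b), (1904, 0x4563452347a67123984328), (1905,
    0x4563452347a67123984358)])]
  good := [1, 6756, 8006, 8377]
  ws := [[rep 1 xw], [rep 2 xw], [rep 4 xw]]
  ls := []

private def reps : List (ℕ × ℕ) := [(0, 0xb), (5688, 0x453423129848), (6292, 0x453423198458), (7999, 0x8), (1606, 0x4563452347651984328)]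

private def GA : List (Bool × ℕ × List (ℕ × ℕ)) := [(true, 1, [(743, 0x4563452348128), (256, 0xa76543218432567a9b), (305, 0x45634523476598), (522, 0x45634523487128), (1042, 0x456345234128), (648,
    0x456345234876598458), (1987, 0x456345234761298458), (2016, 0x45634523476512984568), (2079, 0x45349867564523124358), (4282, 0x4563452347123984568),
    (6574, 0x45342312984536754653248), (3129, 0x45349867542312458), (7660, 0x45349867564231245346588), (6129, 0x4534986756423124534658), (5912,
    0x45634523487651298432546588), (5393, 0x456345234876123984325488)]), (true, 2, [(744, 0x4563452347128), (4109, 0x4534986542312458), (727,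
    0x45634523476512398), (6511, 0x4534986754321324358458)])]

private noncomputable def tv : ℕ := asm [nat_lit 0xffbbdef73ff5fff3dffdffff7ffdff7e6843fffeffffff3fe1afbffe9ffccbfdcf8ff3fbf7fefffffbf7bd93e3cffdf3fff7fffffffdfbffeffdf9bffbfffffdfff7feb3ffdbaffdbffffcf7fdf9fffffbfbff77ffd83c7fffffffe76f65ffef4e5df73fffef7f7fffffff8e2ffffffebffff13fceff49ef3dffffffffedf4fffffdefffffffcffffdbb89f7feddfe7f13bfe3ffdd7f7ffcefff7fffffffed77dffffdeffefbfdff76f737efffffffbef3f7ff7dfdbffdbc7ff7eeffff92feff98e4ffebf7dd7fbff69ffefffbfffffffffe5bfffffafebff9ffff7f1feffffffffddfffffffbfdffff7bffe2fffffffde7fefffffd4fffffffffff67ffd9fdff7fffdb08dffeff7fffffbbfe7ffbfffe5fcfc9fffffdfffffffffdeffffffffff7fc7fffffbfb7ffff7fdbf5eff7ffeffbffffffffffb3fffff1fdffffb2efffffff5fefdfffffdb7ffeffff9defff3f7fffffffffffffffffe7fffff7fffffffffeefffffdfbfdffffbffffffff7fffdff3bfffffffffffffffffff7fbffffe3effefffff7ffffffffffffffffffa3ffffdeffffffbffffffff5cf7fffffeffffffe7fff7fffffffffffffeffffeffeeffffffffffffffff7dff7fff7df8fffffffffcfff7fffcff7ffffffffffffffefd77fffffffffffdfdffff7ffffffefdf7fffffffffffffffffffffbdffffffffffbbffffffffffffffffffffffffe,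
  nat_lit 0xbbf7b35c7fefca544403cebf47eff880da0a8f4b7bfd70c8008fd49e3e64ff8ae6bfdfa8fffffe5febf7ecfffbe7dd70eca918fefa4c17efe4eff7f672fecf3a950807fefb7fffdfbb77ef4fe75fe47d6fc7cfebfda7cd7e1dbfff7efffdffeffffffbfff9bc9d7e787f82e3f5ffdfaf5ffffdbfc1fbfffe9fddeeff79fe038a7d7eef3fd1dd7fd1fdffcfffbdfffef4ffad7cff7e1affff7f73d75c7fffc9feff7ff5e2cff8fdbff43321801ff083679fdf8aefefe7fcd2ff3ffcfb1072ffa7dffbe7b90d5e42fffeaf17f9b9b6576c23441edfcdfefcfafdd6bbf7fdeeaeffffffe5dfffff6ffffe15ffcf4f4f6f4fefddaeebbf6f17bef6ffbf9fbbffd7b0c6a1fffeaf9dfaffbf7eddfdff9cefefdfddeffffdffff7f3bfffff2ea26e9ef0bfeffff777bfe3ffff8feffdfffe542b7ff97fdfffb7fb53affeffbfffefeaffcfffff2fff6c9779fbebdfcfbeffe73ff2a5c7f3d3afeef7777cc34ffbd52ffffafb77adf47dff9b67e85ed7db946ecb4ffffffffffd7f99dbefdff735befffeffee3e4affffffffcff7ffae7757fbafdd6f3bb77f5df7f7bffbfef7efbef39bdd5cd93ffef97dbfffd7dfff5ffffffdff77ffff7fffcfa8afc7fffdfbff3fffcffefbd5d6bfbbeff6e97bffbf5bf77ffefffffeffc33efbfff6efeffe43fcffffe4ff92ffe47febbe7ffb7fcfab1ef7ed7fffffb8afbfbffdadceb2793dfff,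
  nat_lit 0x443b7c16e4d3efb39afdf6a439a14d4463c6af0aa0500418e88a8ee30e1b000ed72805e14b7ab9decf004f7f0ffded655faf1db96eed93eb1542c37f3fac1c23a40c253042bfe84660dbfc7e14216322608148e9244826d7e3d151edbdb1326615a287f9dc460d7751ffdc9ae0826f617ec787ac847e5ed376e3da5bfa07f4f745bafb7b472fbfee150c9db25667fafc4ecb7bffc25feffeb97dbefdebdf6d778edcbbfd399d68135450edd90b60fb766a76d62fdcf7dd7ed9d7afb7e5434e599b383bfde94ddf5fd6b989d696f0260ffdfd82c2ea846d78d5fb7deffb9dfff9fdd77dbbb3effb7cffbe9974c8bc9afb73183557ccdbffa7eedde7dafbf7f47f2243720ff777afdff2f5f49db48a98a7a50c11af811f33bb08074fc3dc9977f6f6dff9ff5efff634feffc233e996bf7f570a03408b9e2e41fe60006a176ac5bdac01e9327c357afc9c57a1fdfc95fc6f76ffda8143482edb7b18d6debfe4c2c85f3d9fdb8a4296fbc20edfa6d487dffeaaf4bde2fecdfee23fd6ef4cbea9fee4f8fb408e78d17d7ffd6d5fe577dffbfff5bfebfd7ff51faaf1f8bef3460f877bfb5759c5777fd7ff7e6f1a06dfc7ffcbeffdff7fbb0fb68bc0df3fbbeb85248777b59a7ffbbef7dabeb5efbff63fb870ddbfdeff75f5bfc762e6ebffed5dfb7dfeff387c88e6ffcb7df5efc45ebb20cc023f782eae602fd9def671f5fbf7fbf7,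
  nat_lit 0xbb43a23cb0414513f8ae3a9d0c85cce428c139a7ff6e872e18b84af3d09e5e961f01f4fde4f6ef81e890844aa936c00b07dac173a867fb59d086ec601000439c9550065f7403848bc9b79ae113ff539332e522ebfedaef81bad313ff15ebaccf07dbaff5df5b32160ffef7938f4aa727dd4bebbb7c205fe7acdc9dafc52a5ddd121a21540820259f7fd1b392eed6d8cdff3e7ae7a4402fdf7fe79dec6226de5577dda03ebfdeff4bfef2d53a0f181103c16b06b7d1b0d9faffbe21ffecdedd41c923e765ed618df3a633270907de43f9fbbf8b749a09ecc7d6f7773dbf9d2726dbbd6bb5efff9b53ecc15c09486e67281bc523952ff738535efb8eb0066b9106e1140680d40c00883dd523460443100003fdee80728cb48a7558e7f918019369fc9f6fffda61ff8f627da73be99f7956d14edfc1da3c171305000a2927762a06c3fffc23e60a60405f65eedd3e00bc602030004fdca980be6c63d3c178724c0fe3d1fc127c9329668ffe9da942a337dedb75b7ebf9b86e5a397e7c1faffbe6bf61a8ef74ec8dcddfedbeb77fde4297c3e2bcba7db7a53df5e10340505670e705007f3ef744e6966d971f6f7eaa23bfa7f2cdbd389ff9fdb233d80bffff99ce9ba6ebdf8f68c1400e6517e867a95ba4e1cfef5bfd7dee967f767d81ed6f9f62f3fd77a850fb47deec177dcf309a49c6df38bfe26b7dfd32f7ff3ed7ff68bf80c1,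
  nat_lit 0x44423c60000010001180000200646d7855f0aa2047e5e5ee61d416b303d25b8009065c82900c50f71c11f539652188301ba00383c3c104c71c0000000e5d980f203ac4c33c5a6fe01accd690b3f740687bf606bc7001ed66c7dd66ada59d569df9e6d0c7f6e7575bd3e09963b476ff35250010000236add42cc5304f5d39fc63c68a1cee17b17be00a60032b364879a97960646be08e46000adb20bb5f3c062db698d04712f89bcecbc23f92bb06ccf164dd86724a89cb88bd9384c1c0e96f80430996b120efa4c7dfc2fc9fb74f43afb92c8ffa4d67d553d3795bfb307743e54043f54c2983b19f8483e1300000002000410001200490400067f0811b96c8af2003ede4cd793f1ad4ee722011d520501dfd98796746522c8dd8301e998060b1e05c86b776c00080520047180913df7ad4c4b400209d43b0807b5886b8e1d110fb8a7edfefdf99f6c89f56883fe21f37f0cfbdaf4d499c76dc7f5b293e4642f7ba7e534d8e2addfafe9b9f08ab9c30600010001be247bff559346c3279c78dcdfebb8d085fbc46bc3819d91568c8e7bc05e6bbdd2c6fb38f28300076b6e03ad9f03e2abc7b6e713c4190c22ecb7b91f314124ee6454d604962f00304ea1d71c7804d93cafc522fdf587323f97ab7a943e7faafb62d98b80de42baa037ef0e39a28868a33fb182aed38cb6f40a3e01820404320400880003e114940920a3001d7,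
  nat_lit 0x580002ef2446b620923003ea1cd0180426025c61840904480485b70332c028011000070c07e16905580041c00bdc00443110204455202086000f9dbc080121409180080034721864844e04506160004ece451158da8772a202008202000113620900581cd0072822584245220c5069277423cd21c56001c0109284423088802280c16e21972010bd0228000449c2580c508c52f9230201000da00485aae027024a1f7c5a061bd1802210440b0c064244c1114873002caba3002cc08a58a40027a52e81246d0c5110d942332280108e04040f206f99215246173b308448012000a82001402b38402614907b360080280e8463ed0986264662b9c1e50068020ce00049927c384000484021f44c5714b2474c81432e3fe66e8ad28a2cf49e6940c379d50d0c89c1430622a548015aabffd636c81180201800000021000033fd0218a1880f269cfba2001061f06c9d49c839e66004827ad36007d70d0c9a00c180ba0198180239c000008a1d033310d88c3b0c00d394043ebd84c9b4007fec5a838cb2876d7394bb0f49102d400cd5af3b360800023ff406c090998747812a78c982214936b0f84506c60f0513e594034f6b8663018e69ecfb865f58c1158a250fc6362813090c7d1c276478b250ca104434ed353569b3087defe202028e9a9df8c6dd2b0be77de2dc1bd2bef4e1bacd7e3f1a1b31c6b45801c6691cf4ada5fa1e6,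
  nat_lit 0xc40010223e1029842008100040000104008800000010054000480d200002400000604a200011810053100000010400002090c0000c001000000020000800101002602020290d000200080004000200000030400000010014020806080180480000100040004002008100910200d28003000050000000210024106400021211d00104300000304083001848c0000010012110c000150c17020850240204022c0010400004000800008030008400300300020380000000c080004000024350602250804000f00206010210004002004b014201080040005000128280044420010208528000020205410010022001a0004001414000100061a00290001001021100200000001300008e804100801830a16020040049010000010010236a80002014002000400029000000880002a84000c000084080b8070494d00a20000c004e2002409c8400511150020009a0000481004882c0940a05012c005041000000071600101800003044c61020050108001058101211b32076900000a4409468100062082881a8024a0020807e85408c4b40104019019704008200000090d6c0a01020001001511414082084c800900090040068c0101c2590115c29e800080010000a8ab14200150ac0037010310800190b6008aa94130bd83241dc5a0418041021245162a4180a0081881b0160c0810180426a000016020440641308805000101001,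
  nat_lit 0x20000000000000000042000000000008000000002040000080000000000000010000000001000000000000000000100000001000000000000000088000000040020000400280000000000000000000000000000008004001b00000000000000000000000041000000404000000400000010000000001010000002000000000000400008000000100010040000000000000014850000000000a008000840080040200000000000000000048000004000080000000000000080000200000204000241140000000004a00000350000000000200100000a89120001c080808800002006424000102005042040000000010820000008040040242000008000200041003018820800000001000800108000308200010000001000c08a40100700000006000280000002014010000080c40000000820000800000180a80040004130002140a00000000440288e33d9000100100a014a4000102480400047]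

private def pat : List Bool := [false, false, true, false, true, true, false, false]

private def es : List (ℕ × ℕ × List ℕ) := [(5, 8006, [2, 0, 1, 1]), (6, 8001, [0, 2, 0, 2, 2, 0, 1, 2, 1, 2, 2, 0, 2, 0, 2]), (7, 8006, [0, 2, 4]), (8, 8005, [4, 4]), (1, 7999, [6, 2, 5, 5]),
    (4, 11589, [7, 3, 0, 6]), (9, 7999, [2, 0, 5, 7, 0]), (3, 7999, [1, 3, 0, 9]), (2, 8002, [0, 10]), (11, 7999, [9, 6, 7, 8, 3, 1, 0, 5, 3, 1, 8, 3, 7,
    8, 6, 7, 9, 6, 5, 3, 1, 0, 8, 3, 1, 7, 8, 3])]

private theorem k1 : chkPt (R23.nw D.u) (R23.pn D.c) D.p0 = true := by decide +kernel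

private theorem k2 : R23.genC es [D.u ++ D.c :: D.u.reverse, D.xw, D.xw.reverse] [D.p0] = true := by decide +kernel

theorem pw : R23.chkEq (rep 16 xw) [] = true := pow_gen D k1 k2 (by decide +kernel)

private theorem k3 : R23.chkG (R23.nw D.xw.reverse) D.p0 0xa D.Gs = true := by decide +kernel

private theorem k4 : R23.chkG (R23.nw D.xw.reverse) 7999 0x8 GA = true := by decide +kernel

private theorem k5 : chkPt (R23.nw (rep 8 D.xw)) 7999 7999 = true := by decide +kernel

private theorem k6 : R23.covA (R23.nw (rep 8 D.xw)) tv 1 D.ws (mskG (reps.map Prod.fst) GA) = true := by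
  decide +kernel

private theorem k7 : andR (R23.isC 7999 0x8)
    (tb (cellM (R23.nw D.xw) pat (R23.mvC 15 0x8) R23.U) D.p0) = true := by decide +kernel

private theorem k8 : allLs (R23.cell1 15 (R23.nw D.xw) pat (mskG D.good D.Gs)) reps = true := by decide +kernel

/-- **The order of the centralizer of `x` is at most 32.** -/
theorem card_le : Nat.card (Subgroup.centralizer ({D.x} : Set _)) ≤ 32 :=
  card_le2 LThreeFi23.ntw_ok D k1 k2 (List.forall_mem_cons.2 ⟨List.forall_mem_cons.2 ⟨R23.comm_rep 1, fun _ h => nomatch h⟩, List.forall_mem_cons.2 ⟨List.forall_mem_cons.2 ⟨R23.comm_rep 2,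
    fun _ h => nomatch h⟩, List.forall_mem_cons.2 ⟨List.forall_mem_cons.2 ⟨R23.comm_rep 4, fun _ h => nomatch h⟩, fun _ h => nomatch h⟩⟩⟩) k3 k4 k5 k6 k7 (allLs_spec k8)

end Cfsg.Agent.H153.Dl.C23
end

-- part: H153/Dl/D23/X
section
set_option linter.all false

/-!
# An element of order 27 in `Fi23` : the words (helper153)

Generated data.
-/

set_option autoImplicit false
set_option maxRecDepth 100000
set_option Elab.async false

namespace Cfsg.Agent.H153.Dl.D23

open Cfsg Cfsg.Agent.Lib.PermNetPt Cfsg.Agent.H153.Dl Cfsg.Agent.H153.Dl.PR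

def xw : List LThreeFi23.Lt := [.e, .g, .h, .d, .j, .f, .h, .c, .e, .i, .b, .a, .f, .c, .d, .c]

def u : List LThreeFi23.Lt := [.f, .e]

end Cfsg.Agent.H153.Dl.D23
end

-- part: H153/Dl/D23/D
section
set_option linter.all false

/-!
# An element of order 27 in `Fi23` : the data (helper153; two levels, helper59)

Generated data and kernel checks.
-/

set_option autoImplicit false
set_option maxRecDepth 100000
set_option Elab.async false

namespace Cfsg.Agent.H153.Dl.D23

open Cfsg Cfsg.Agent.Lib.PermNet Cfsg.Agent.Lib.PermNetPt Cfsg.Agent.H153.Dl Cfsg.Agent.H153.Dl.PR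


/-- The data. -/
noncomputable def D : R23.Data where
  xw := xw
  c := (.j : LThreeFi23.Lt)
  u := ([] : List LThreeFi23.Lt)
  p0 := 8006
  I := []
  Z := []
  Gs := [(true, 2, [(6664, 0x45634523487a1239843254678), (20245, 0x45634237a1298435674568324354658498), (30360, 0x4563452347a9843546576123435678435698432568),
    (3977, 0x4563452347a6519843254368), (9124, 0xa7654321843254679843254367a89b), (25507, 0xa7654321843254698432543654768456984321b), (679,
    0xa765432843567984356b), (5187, 0xa7654321843567984567abb), (22985, 0xa7654321843254689843254365476a845984b)]), (true, 4, [(9139,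
    0xa7654321843254679843254658432b), (16650, 0x4563452347a651239843254657684328), (30178, 0xa765432184325436798432543657684354689843254b), (17892,
    0xa76543218432546984325436576843546b), (25317, 0xa7654321843254659843254365768456798432b), (26816, 0x4563452347a67123984325436576a8435698458)]),
    (false, 5, [(3559, 0x4563452348761298435678), (12177, 0x4563452347a6512349843215465898), (24440, 0x4563452347a67123984325436547658435988), (6206,
    0xa76543218432567984354658439b), (15314, 0x45634523476512984325436548438), (25534, 0xa7654321843254698432543657684325679843b), (5010,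
    0x456345234761984325468), (17878, 0xa76543218432546984325436576a84329b), (18250, 0x4563452347a6712398432543657684328)])]
  good := [8006, 8568, 9977]
  ws := [[rep 1 xw, rep 2 xw], [rep 3 xw, rep 6 xw]]
  ls := []

private def reps : List (ℕ × ℕ) := [(431, 0x4563452348798), (200, 0xa765432184598432b), (399, 0x45634523487651988), (1621, 0xa765432184354679843256b), (1746, 0x4563452348769843548),
    (2985, 0x456345234765198432158), (1821, 0x453423984567ab5483658), (1863, 0x453498675423458), (2021, 0x4563452348765129845678), (2519, 0x4534986218),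
    (4224, 0xa76543218432548984567abb), (6520, 0x45349867543a213243845678), (5720, 0x4563452348712984354658), (4778, 0xa7654321843254698435465789b),
    (5613, 0xa76543218432543698432546584b), (7696, 0x45349867564a2312453465848), (6263, 0xa76543218432569843546584398b), (8469,
    0x453423984567ab12354653214898), (7309, 0xa765432184325465984325438456b), (10310, 0x453423984567ab1254365423898), (8365,
    0x456345237a6712984354657ab8), (10953, 0x453498675643213452348436568), (16024, 0x4563452347612398432543657848), (12615,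
    0xa7654321843254369843254657a8432b), (12956, 0xa765432184325465984321546584321b), (18142, 0x4563452347a6123984325436576a898), (27173,
    0x453498675643a21345234843546548765984328)]

private def GA : List (Bool × ℕ × List (ℕ × ℕ)) := [(true, 3, [(401, 0xa76543218435467984b), (1210, 0xa76543218435698432156b), (5312, 0x45634237a12984356748), (6272, 0xa76543218432598432154658432b),
    (6679, 0x45634523476123984354898), (7533, 0xa765432184325469843215467a89b), (9052, 0x4563452347a65129843215436788), (11467,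
    0xa76543218432567984325465768432b), (18150, 0x4563452347a61239843254365784398)])]

private noncomputable def tv : ℕ := asm [nat_lit 0xb3fffcdeddfe7f7bbdbefd65cffff6fdf73efb6eff5fdf7ff7eee7db7ff7c7be9dff9fede64485677bfffd33df5bed7fffddffc3bafddffff7fffdfffb7a9dffffffbfffffffebbfadfffa66b7c7dde6fc4f7ff69def9e5beffff52fbef7ffcffbfffdd7ffe3ffefffeddfe9ff7fdf3f7f6f7ffffffffeff9f7deee5cf7bfa9ffebdffdffbcffdbf8dfffdb77f3dff7ffffdfbdffdfaf7b37fa7b9dfdebbf7affbfbeb57e6f793c6bffff7fbfbfbffffffdffffefcfe8f5cfffbfbfbeffbffffdfffdf9fff7fefffff9dffffefffeffffffffffffe7ffdffffffffefffff7f72fffff77efff7ffffaffdffffffffffffffff7ffdffeff77ffdffbbbfbfffffdffffbff9fffdfeffdfffdf7bf5bffffffbfefd6ff7fffff7dffffbfbfcfffdffffebff7fd77f9dfffffffffffffffef7fffff7fbfefcffffffffffffffff9ff5f7fefffffbf7f7f7fffffffffffffffffffffdffffffff7f7fdfe75ffff7ff3ffffffffffffff7fefbbffeffeffffdfeffdfffadffffd77effbffffffffffffffffbffffffffbeffffffffffffffffffffffff7effffffe7feeffffffbbf3f77f7fffffdfffffffffffbfefffffffffe7fffffffffffffffffffffd7ffffffffffffffffeffffffffffff7fffdffd7ffffffffffdfffffffffdffbfffeffffffffffffffffffffeffdffffdfffffffffffbffffffffffffffffffffffffffffff,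
  nat_lit 0x76fcbf7eee2f2bebfd7e9c3a39cfed67a7da7b60cab136e71b65a0858e517602d0601ff4e917d2572890f7effd6ee1f3d9ad47c9c182043c33b2f2dca36a7edb7c29b3fbe9d1e2fc6bf9f77ce6f3a7fffeba56464a70869bd84371defefcf137d74db3d86f63fdf9baae897df7fb4705a6e7c7dac15ffdf7be8dffbfe7efcd73b2f5d4f56adeb9c3cfff75be02ffefebfded75ebc8b5cf4f073770dbd6d7df7e0d15dcf83f27b3ebf6563e66fdaaee63efa71739e7543377ef561ce3ea08ffc0f3fc3dfdc0e2d5fee03de7be67b1dfe85e6ff37df6bbbdc56a7ddffb4f3ecf69d37f4daecf069b7feffddff3fcd7e0d2d76feb6f6ecc960fff5dbfca9efe5cf3c3d7ff44fe26f1f6ede3beffebfe85dacadfdec5feffde7a7d1f5de8fb1fcffdcddf8f7a9a9ffdc93bf773b7dfdefffbdeff9f5f7cff3f1f735feee39adfff4febfd91ffd5ffb3ebadf43ece39bfb3edabeaf7ffff6ff70eee0defedfdb6e6ffbfeedf97cf92fffe7bfd4fcd59fa9fefde7d1f35fad5dc217ad7f7fbddecdffffd7fcbbf7bd67f8fdcffffd7faaf3efdb3ddfc37affe7137fc4b0dd53e7dffef4ee48af3e7b7babeb7e36b7fbd8b5ce759767ff7fbfdd9ffbfedfff44bd7e7dcfd7cff39fdeffbdf5ffffffcffffadebdbc7ff1fb59eeeb362d9d77ffe3d339ad3f5f99bfbff77a3efdd91fffbedff2efdf9dd79fdf9fffffffffffedfbffbdf,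
  nat_lit 0x1a4f3da47a9a8fd90dc0316792b46898220201007048b9862a288401a24e50a2309182724f480096609080372801cd4df01572e8a003f04908138cfb12505e10417280f2ef188029004248c341c72fc0a1cb366671012229083b8108c051000780a015380e1e1242002b9330e4e8640101aab104a412d81009480994250892c27524302330991067f5045c9860844292c8a970d27c22114cba64305130f68cb1b4200e4c3d093471287de5c368449b7f83d20b2989b11690ad274500b0b97be220b86aea1e36896a76032779cd5404d41911d10d9c8604d10e0c02c33df91435ea54cd14a4a25aecc0c45a0890704b0909da206078a998090cebd3123d889bcc8867f6d9f8a051419a41b1ebb7e8036d20277e86e27d88bbb093e37b009200101010d85e837b005af120180a020118b202449c069e6c3026accbbf9478084254deb5785031a9a25c130acc9e2cd50668a725ba2591e98cf81c6138c528262687029b224ee736473295a4cfffe99d74fd4148a52b7e9fcf8aafb1c5b11a0849b9c56944b024bca9fddde9dacff6c58e0b758b292201747b512d723abfcc4a066ed050174a31268e65f22f8ffeab37eed71e776ed554b87cba326ef7dfcffa9ea94d4ff285bd6d10c46be9996365bb04d22876adcaefbcfc4ceec15a24d30abf3478195071ee27d1f5877b8c51b3d6f2e4565f58bd8e1375ef19df22dfecdde089,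
  nat_lit 0x204021204084480081104160a028101831412a01018c4530060020102c18a8153709c4c0002a1202a629582000e26c032820c20802100042085840064294020200a818a40400eaa164080000500420004ed1a0412ba02800303828500a208e840a4880001e8c040d510481960e74846420901009d2508191a808af028900c02230702222400000080e580251118516a32400810001245021030040950461421ce213a9400410144c40aa1c08040b001000d280008182600c02d29d00220d10012405488022b496252080b10704001200004086422458910122011011421912272400207e82d8e152506f430803498b56d84c5934819f8097f0241683c30a0610d0130140e07220debb012004560412204635802804247185908314682d67d002522b000440208288110180cc3d840521c14c0b869fe10809814008cc8444462421980900912927401012121a004a02700fb02441d1681090b4200a4150e82220b0011802d01020080023c9dc650905052065200ca20400000526492651e1fd07aa1463258641010d00544180a21a240694204890a0858329421115d3bf02181042240c7400e20d2ad00002000001406f2108a5ba03c6d9d3da20474030eb36b48dd01dee02fb8c52de370124a310000104200040f3699f080578001a510c2a06202ef6900001d6800554086a2004c80bac21184c7b4546eb30561d404f0a4553,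
  nat_lit 0x1400010400110448000020080010010840080000040000090042101011004000818280921028084005280040098800440000000dc20020800800801000000011002000040080141080088010800004000000102000a1442010000101040084040890100800080100430080844000005080100060208a000100882000a000004000001000002945b004000004230010000e800606090520000000090408400040120800002248001400800088800a008000006000030160008020cc1080088126100a520211219040041ce3060c00010800108680030000902042340004028598028003084024070200012044800c0038a00a8401c2800000400020004000440038080c00010180200400100084a1c06808306c1040a0004168014022114289027c0c8100848418081800080000c400000120c101222401004080001800a64420003400000024c0a0001680030104910402804b6a5600504000050080a2000000040128080000898000208001511204c44a8c4a28483a90400020201030080100040a0040400800010040407000800a190050c08c40226084c10230101422008324501180046001043000000008c1000df26002085022410700015238121d40d200038000104020148a01c0210143088100005004002c78003000a82890a202002038100090b07a000500a086211400a841a82502006004c0204009401680,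
  nat_lit 0x100000000000000000000000000000000000000000000000082000001000002001000000000000100000042000000000000020000000400080000400000000000000000080000000000010000000180000000000080410800002000000000200000000244000024800840000248100000000000000000000000020800000000021100810200000001000000000000800000808840000000002000000208000000200000400400000000000000400040400000100000000000020000000080000020000000000004000000000002000000000000008400200000008000000008400820000211441006000082020000400000900000000404000200042000000000000010042005082100004030048100080000040000000100000000080000102000200000008202000091000002000200410004200000002000210080000002018000000c400100400008000000200004040141000000009406000209040082804100002000000400000000400000028000400000020000400800000800002008000900020001401004000800000800200009002448300004000800000c0000000401001000050040000100003008810000000100200040004000000004004000108000000000000100000000000488002080481020018902098000102000000000080000002010000020000000101100210000008800180802000008040c01,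
  nat_lit 0x10000000000000000000000000800000000000000000000000202000000000000000000000000000000000000000000000000000000000000000000000000000000000000000000000000210000004000000200000000000000000000040000000000000008000000080000000000000000000000000000000800000000000000000000000000000000000000000000000000000000020000001000000000020000280000000000000040000000000800000000000000000000000000000000000000000010000000000000081000000001004000000000000000000000000008000800000000000000000000000000000040100000000000000000000000001000000000000100000008000000000001001000000000000200400000000000000000000000042000000000000000000000000800000000001013000004000000000000000002000000000000000000000005000000000200000008000000000000000000200000100000000000000000000000000000000000000000004000010000200000000000000400000000020000000000000000000000000000080820000000000020000000000008000000400000000000040420002000400000040000000000000000000000002000008000000008000000000000000400000000000000004000000000000000000100000000000000,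
  nat_lit 0x1000000000004000000000000000000000000000000000000000000000000000000000000000000000000000000000000000000000000000000000010000000000000000008000000000000000800000000000000000000000000000000000000000000000000040000000000000000000000000000000000000000000000000000000000]

private def pat : List Bool := [false, false, true, false, true, false, false, true, true]

private def es : List (ℕ × ℕ × List ℕ) := [(7, 8006, [0, 1]), (6, 8005, [2, 1, 2, 2, 1, 2, 0, 2, 0, 2, 0, 2, 2, 2, 1]), (5, 8002, [0, 3, 2, 1]), (1, 8001, [4, 0, 4, 1]), (4, 8001, [5, 0, 5,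
    2]), (2, 8000, [6]), (8, 8002, [1, 7]), (3, 11589, [2, 1, 9]), (9, 7999, [1, 9, 0, 3]), (11, 7999, [9, 8, 7, 6, 4, 1, 3, 2, 4, 1, 6, 4, 7, 6, 8, 7, 9,
    8, 2, 4, 1, 3, 6, 4, 1, 7, 6, 4])]

private theorem k1 : chkPt (R23.nw D.u) (R23.pn D.c) D.p0 = true := by decide +kernel

private theorem k2 : R23.genC es [D.u ++ D.c :: D.u.reverse, D.xw, D.xw.reverse] [D.p0] = true := by decide +kernel

theorem pw : R23.chkEq (rep 27 xw) [] = true := pow_gen D k1 k2 (by decide +kernel)

private theorem k3 : R23.chkG (R23.nw D.xw.reverse) D.p0 0xa D.Gs = true := by decide +kernel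

private theorem k4 : R23.chkG (R23.nw D.xw.reverse) 200 0xa765432184598432b GA = true := by decide +kernel

private theorem k5 : chkPt (R23.nw (rep 9 D.xw)) 200 200 = true := by decide +kernel

private theorem k6 : R23.covA (R23.nw (rep 9 D.xw)) tv 2 D.ws (mskG (reps.map Prod.fst) GA) = true := by
  decide +kernel

private theorem k7 : andR (R23.isC 200 0xa765432184598432b)
    (tb (cellM (R23.nw D.xw) pat (R23.mvC 15 0xa765432184598432b) R23.U) D.p0) = true := by decide +kernel

private theorem k8 : allLs (R23.cell1 15 (R23.nw D.xw) pat (mskG D.good D.Gs)) reps = true := by decide +kernel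

/-- **The order of the centralizer of `x` is at most 27.** -/
theorem card_le : Nat.card (Subgroup.centralizer ({D.x} : Set _)) ≤ 27 :=
  card_le2 LThreeFi23.ntw_ok D k1 k2 (List.forall_mem_cons.2 ⟨List.forall_mem_cons.2 ⟨R23.comm_rep 1, List.forall_mem_cons.2 ⟨R23.comm_rep 2, fun _ h => nomatch h⟩⟩, List.forall_mem_cons.2
    ⟨List.forall_mem_cons.2 ⟨R23.comm_rep 3, List.forall_mem_cons.2 ⟨R23.comm_rep 6, fun _ h => nomatch h⟩⟩, fun _ h => nomatch h⟩⟩) k3 k4 k5 k6 k7 (allLs_spec k8)

end Cfsg.Agent.H153.Dl.D23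
end

-- part: H669/Dl/J4Count
section
prune_inst 0xc0100200612200000000001002000040400001020040000041400d02010920410000080082b020109100a8a04002806001100109021000000000020040040000000062c01224bc00310000406001180c00000000000000000000000000000000000000000
set_option linter.all false
open scoped Cfsg.Agent.FastGrp

/-!
# Elements of order 16 in `2^11:M24` (helper669, task 2519)

`card_le` : the centralizer in `2^11:M24` of an element of order 16 has at most 32 elements.
-/

set_option autoImplicit false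
set_option maxRecDepth 100000

namespace Cfsg.Agent.H669.Dl.J4

open Cfsg Cfsg.Agent.H860.Act Cfsg.Agent.H860.Orb Cfsg.Agent.H860.OrbThm Cfsg.Agent.H860.OrbData
open Cfsg.Agent.J4.ClassesAbs (Hyp exists_mul_of_mem_sup eq_one_of_mem)
open Cfsg.Agent.J4.Beta Cfsg.Agent.J4.M24Hom Cfsg.Agent.J4.GroupLemmas
open Cfsg.Agent.SporadicStructure.M24El Cfsg.Agent.SporadicA.GolayPerm
open Cfsg.Agent.H860.Two24 Cfsg.Agent.H860.Two24Data Cfsg.Agent.H860.TwoElem
open Cfsg.Agent.H860.PairGroup Cfsg.Agent.H729.Trans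
open Cfsg.Agent.SporadicA.GolayBase (idx pt)

/-- the packed element of order 8 -/
def P6 : ℕ := rp.getD 6 idP

theorem ok6 : ok P6 = true := ok_getD rp_ok 6

/-- description of the points -/
def wd : List (ℕ × ℕ) := [(0, 0), (3, 0), (0, 4), (2, 0), (4, 0), (3, 1), (0, 7), (2, 3), (0, 3), (1, 0), (1, 3),
  (1, 6), (1, 7), (0, 1), (2, 2), (1, 5), (1, 2), (0, 6), (5, 0), (1, 4), (2, 1), (0, 5), (1, 1), (0, 2)]

/-- the stages of the search -/
def sts : List (ℕ × List ℕ × List (List (ℕ × ℕ))) := [(0, List.range 24, []),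
  (9, List.range 24, [[(0, 0), (0, 7), (1, 0), (1, 3), (1, 6), (0, 1), (1, 5), (0, 6)]]),
  (3, List.range 24, [[(0, 4), (2, 3), (1, 0), (1, 3), (1, 7), (0, 1), (2, 2), (1, 5)]]),
  (1, List.range 24, [[(0, 0), (3, 1), (2, 3), (0, 3), (1, 3), (1, 6), (1, 7), (0, 1)]]),
  (4, List.range 24, [[(0, 0), (3, 0), (0, 4), (2, 0), (4, 0), (2, 3), (1, 3), (1, 7)]]),
  (18, List.range 24, [])]

theorem pre6 : pre 8 P6 wd sts = true := by decide +kernel

/-- the centralizer of `el P6` -/
def L6 : List ℕ := tl 8 P6 P6 wd sts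

theorem mem_L6 {m : M24} (h : m * el P6 = el P6 * m) : packOf (m : Equiv.Perm GolayPt) ∈ L6 := by
  refine packOf_mem_tl pre6 ok6 m h ?_
  have h1 : (sts.all fun st => decide (st.2.1 = List.range 24)) = true := by decide +kernel
  intro st hst
  have h2 := List.all_eq_true.1 h1 st hst
  rw [decide_eq_true_eq] at h2
  rw [h2, List.mem_range]
  exact im_lt m _

/-- the solutions -/
def sol (v : ℕ) : List (ℕ × ℕ) := L6.flatMap fun P =>
  ((List.range 2048).filter fun w => Nat.beq (Nat.xor w (lin (AP P) v)) (Nat.xor v (lin A6 w))).map fun w => (P, w)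

private noncomputable def _root_.Cfsg.Agent.KOc62dedb.k0 : ((x0 : Prop) → ((@Decidable @x0) → @Bool)) := @(fun (x0 : Prop) (x1 : @Decidable @x0) => @Decidable.rec.{1} @x0 @(fun (x2 : @Decidable @x0) => @Bool) @(fun (x2 : @Not @x0) => @Bool.false) @(fun (x2 : x0) => @Bool.true) @x1)
private theorem _root_.Cfsg.Agent.KOc62dedb.e0 : @Decidable.decide = @_root_.Cfsg.Agent.KOc62dedb.k0 := by delta _root_.Cfsg.Agent.KOc62dedb.k0; rfl'
private theorem _root_.Cfsg.Agent.KOc62dedb.e1.{ku, kv} {α : Type kv} {M : List α → Sort ku} (φ : ∀ l, M l) {z : M List.nil} {s : ∀ a l, M l → M (List.cons a l)} (h0 : φ List.nil = z) (hs : ∀ a l, φ (List.cons a l) = s a l (φ l)) (l : List α) : φ l = @List.rec α M z s l := List.rec h0 (fun a l ih => (hs a l).trans (congrArg (s a l) ih)) l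
private noncomputable def _root_.Cfsg.Agent.KOc62dedb.k2.{ku0} : ((x0 : Sort (ku0+1)) → ((@List.{ku0} @x0) → @Nat)) := @(fun (x0 : Sort (ku0+1)) (x1 : @List.{ku0} @x0) => @List.rec.{1, ku0} @x0 @(fun (x2 : @List.{ku0} @x0) => @Nat) (nat_lit 0) @(fun (x2 : x0) (x3 : @List.{ku0} @x0) (x4 : @Nat) => @Nat.add @x4 (nat_lit 1)) @x1)
private theorem _root_.Cfsg.Agent.KOc62dedb.e2.{ku0} : @List.length.{ku0} = @_root_.Cfsg.Agent.KOc62dedb.k2.{ku0} := by delta _root_.Cfsg.Agent.KOc62dedb.k2; funext a0 a1; refine (_root_.Cfsg.Agent.KOc62dedb.e1 (fun a1 => @List.length.{ku0} a0 a1) ?_ (fun c0 c1 => ?_) a1 :) <;> (rfl')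
private noncomputable def _root_.Cfsg.Agent.KOc62dedb.k3.{ku0} : ((x0 : Sort (ku0+1)) → ((@List.{ku0} @x0) → ((@List.{ku0} @x0) → @List.{ku0} @x0))) := @(fun (x0 : Sort (ku0+1)) (x1 : @List.{ku0} @x0) (x2 : @List.{ku0} @x0) => @List.rec.{(ku0+1), ku0} @x0 @(fun (x3 : @List.{ku0} @x0) => ((@List.{ku0} @x0) → @List.{ku0} @x0)) @(fun (x3 : @List.{ku0} @x0) => x3) @(fun (x3 : x0) (x4 : @List.{ku0} @x0) (x5 : ((@List.{ku0} @x0) → @List.{ku0} @x0)) (x6 : @List.{ku0} @x0) => @List.cons.{ku0} @x0 @x3 (@x5 @x6)) @x1 @x2)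
private theorem _root_.Cfsg.Agent.KOc62dedb.e3.{ku0} : @List.append.{ku0} = @_root_.Cfsg.Agent.KOc62dedb.k3.{ku0} := by delta _root_.Cfsg.Agent.KOc62dedb.k3; funext a0 a1 a2; refine (congrFun (_root_.Cfsg.Agent.KOc62dedb.e1 (fun a1 a2 => @List.append.{ku0} a0 a1 a2) ?_ (fun c0 c1 => ?_) a1) a2 :) <;> (rfl')
private noncomputable def _root_.Cfsg.Agent.KOc62dedb.k4.{ku0} : ((x0 : Sort (ku0+1)) → ((@List.{ku0} (@List.{ku0} @x0)) → @List.{ku0} @x0)) := @(fun (x0 : Sort (ku0+1)) (x1 : @List.{ku0} (@List.{ku0} @x0)) => @List.rec.{(ku0+1), ku0} (@List.{ku0} @x0) @(fun (x2 : @List.{ku0} (@List.{ku0} @x0)) => @List.{ku0} @x0) (@List.nil.{ku0} @x0) @(fun (x2 : @List.{ku0} @x0) (x3 : @List.{ku0} (@List.{ku0} @x0)) (x4 : @List.{ku0} @x0) => @Cfsg.Agent.KOc62dedb.k3.{ku0} @x0 @x2 @x4) @x1)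
private theorem _root_.Cfsg.Agent.KOc62dedb.e4.{ku0} : @List.flatten.{ku0} = @_root_.Cfsg.Agent.KOc62dedb.k4.{ku0} := by delta _root_.Cfsg.Agent.KOc62dedb.k4; rewrite [← Cfsg.Agent.KOc62dedb.e3.{ku0}]; funext a0 a1; refine (_root_.Cfsg.Agent.KOc62dedb.e1 (fun a1 => @List.flatten.{ku0} a0 a1) ?_ (fun c0 c1 => ?_) a1 :) <;> (rfl')
private noncomputable def _root_.Cfsg.Agent.KOc62dedb.k5.{ku0, ku1} : ((x0 : Sort (ku0+1)) → ((x1 : Sort (ku1+1)) → ((x0 → x1) → ((@List.{ku0} @x0) → @List.{ku1} @x1)))) := @(fun (x0 : Sort (ku0+1)) (x1 : Sort (ku1+1)) (x2 : (x0 → x1)) (x3 : @List.{ku0} @x0) => @List.rec.{(ku1+1), ku0} @x0 @(fun (x4 : @List.{ku0} @x0) => @List.{ku1} @x1) (@List.nil.{ku1} @x1) @(fun (x4 : x0) (x5 : @List.{ku0} @x0) (x6 : @List.{ku1} @x1) => @List.cons.{ku1} @x1 (@x2 @x4) @x6) @x3)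
private theorem _root_.Cfsg.Agent.KOc62dedb.e5.{ku0, ku1} : @List.map.{ku0, ku1} = @_root_.Cfsg.Agent.KOc62dedb.k5.{ku0, ku1} := by delta _root_.Cfsg.Agent.KOc62dedb.k5; funext a0 a1 a2 a3; refine (_root_.Cfsg.Agent.KOc62dedb.e1 (fun a3 => @List.map.{ku0, ku1} a0 a1 a2 a3) ?_ (fun c0 c1 => ?_) a3 :) <;> (rfl')
private noncomputable def _root_.Cfsg.Agent.KOc62dedb.k6.{ku0} : ((x0 : Sort (ku0+1)) → ((x0 → @Bool) → ((@List.{ku0} @x0) → @List.{ku0} @x0))) := @(fun (x0 : Sort (ku0+1)) (x1 : (x0 → @Bool)) (x2 : @List.{ku0} @x0) => @List.rec.{(ku0+1), ku0} @x0 @(fun (x3 : @List.{ku0} @x0) => @List.{ku0} @x0) (@List.nil.{ku0} @x0) @(fun (x3 : x0) (x4 : @List.{ku0} @x0) (x5 : @List.{ku0} @x0) => @Bool.rec.{(ku0+1)} @(fun (x6 : @Bool) => @List.{ku0} @x0) @x5 (@List.cons.{ku0} @x0 @x3 @x5) (@x1 @x3)) @x2)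
private theorem _root_.Cfsg.Agent.KOc62dedb.e6.{ku0} : @List.filter.{ku0} = @_root_.Cfsg.Agent.KOc62dedb.k6.{ku0} := by delta _root_.Cfsg.Agent.KOc62dedb.k6; funext a0 a1 a2; refine (_root_.Cfsg.Agent.KOc62dedb.e1 (fun a2 => @List.filter.{ku0} a0 a1 a2) ?_ (fun c0 c1 => ?_) a2 :) <;> (rfl')
private noncomputable def _root_.Cfsg.Agent.KOc62dedb.k7 : (by first | exact type_of% @Cfsg.Agent.J4.Beta.lin | exact Unit : Sort _) := by first | (refine @Subtype.val _ (fun g => @Cfsg.Agent.J4.Beta.lin = @g) (@Subtype.mk _ _ (@(fun (x0 : @List.{0} @Nat) => @List.rec.{1, 0} @Nat @(fun (x1 : @List.{0} @Nat) => (@Nat → @Nat)) @(fun (x1 : @Nat) => nat_lit 0) @(fun (x1 : @Nat) (x2 : @List.{0} @Nat) (x3 : (@Nat → @Nat)) (x4 : @Nat) => @Bool.rec.{1} @(fun (x5 : @Bool) => @Nat) (@x3 (@Nat.div @x4 (nat_lit 2))) (@Nat.xor @x1 (@x3 (@Nat.div @x4 (nat_lit 2)))) (@Nat.beq (@Nat.mod @x4 (nat_lit 2)) (nat_lit 1))) @x0)) ?_); rfl') | exact @Cfsg.Agent.J4.Beta.lin | exact ()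
private theorem _root_.Cfsg.Agent.KOc62dedb.e7 : (by first | exact @Cfsg.Agent.J4.Beta.lin = @_root_.Cfsg.Agent.KOc62dedb.k7 | exact True : Prop) := by first | (delta _root_.Cfsg.Agent.KOc62dedb.k7; exact @Subtype.property _ (fun g => @Cfsg.Agent.J4.Beta.lin = @g) _) | rfl | trivial
private noncomputable def _root_.Cfsg.Agent.KOc62dedb.k9.{ku0} : ((x0 : Sort (ku0+1)) → ((@List.{ku0} @x0) → (@Nat → @Option.{ku0} @x0))) := @(fun (x0 : Sort (ku0+1)) (x1 : @List.{ku0} @x0) (x2 : @Nat) => @List.rec.{(ku0+1), ku0} @x0 @(fun (x3 : @List.{ku0} @x0) => (@Nat → @Option.{ku0} @x0)) @(fun (x3 : @Nat) => @Option.none.{ku0} @x0) @(fun (x3 : x0) (x4 : @List.{ku0} @x0) (x5 : (@Nat → @Option.{ku0} @x0)) (x6 : @Nat) => @Nat.rec.{(ku0+1)} @(fun (x7 : @Nat) => @Option.{ku0} @x0) (@Option.some.{ku0} @x0 @x3) @(fun (x7 : @Nat) (x8 : @Option.{ku0} @x0) => @x5 @x7) @x6) @x1 @x2)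
private theorem _root_.Cfsg.Agent.KOc62dedb.e9.{ku0} : @List.get?Internal.{ku0} = @_root_.Cfsg.Agent.KOc62dedb.k9.{ku0} := by delta _root_.Cfsg.Agent.KOc62dedb.k9; funext a0 a1 a2; refine (congrFun (_root_.Cfsg.Agent.KOc62dedb.e1 (fun a1 a2 => @List.get?Internal.{ku0} a0 a1 a2) ?_ (fun c0 c1 => ?_) a1) a2 :) <;> [(funext b0; (rfl')); (funext b0; (cases b0 with | @zero  => (rfl') | @succ b0_0 => (rfl')))]
private noncomputable def _root_.Cfsg.Agent.KOc62dedb.k10 : (by first | exact type_of% @Cfsg.Agent.SporadicA.GolayPerm.papp | exact Unit : Sort _) := by first | (refine @Subtype.val _ (fun g => @Cfsg.Agent.SporadicA.GolayPerm.papp = @g) (@Subtype.mk _ _ (@(fun (x0 : @Nat) (x1 : @Nat) => @Nat.mod (@Nat.shiftRight @x0 (@Nat.mul (nat_lit 5) @x1)) (nat_lit 32))) ?_); rfl') | exact @Cfsg.Agent.SporadicA.GolayPerm.papp | exact ()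
private theorem _root_.Cfsg.Agent.KOc62dedb.e10 : (by first | exact @Cfsg.Agent.SporadicA.GolayPerm.papp = @_root_.Cfsg.Agent.KOc62dedb.k10 | exact True : Prop) := by first | (delta _root_.Cfsg.Agent.KOc62dedb.k10; exact @Subtype.property _ (fun g => @Cfsg.Agent.SporadicA.GolayPerm.papp = @g) _) | rfl | trivial
private noncomputable def _root_.Cfsg.Agent.KOc62dedb.k11 : (by first | exact type_of% @Cfsg.Agent.H860.Act.im | exact Unit : Sort _) := by first | (refine @Subtype.val _ (fun g => @Cfsg.Agent.H860.Act.im = @g) (@Subtype.mk _ _ (@(fun (x0 : @Nat) (x1 : @Prod.{0, 0} @Nat (@Prod.{0, 0} @Nat @Nat)) => @Nat.xor (@Nat.xor (@Option.rec.{1, 0} @Nat @(fun (x2 : @Option.{0} @Nat) => @Nat) (nat_lit 0) @(fun (x2 : @Nat) => x2) (@Cfsg.Agent.KOc62dedb.k9.{0} @Nat @Cfsg.Agent.H860.Act.dl (@Cfsg.Agent.KOc62dedb.k10 @x0 (@Prod.fst.{0, 0} @Nat (@Prod.{0, 0} @Nat @Nat) @x1)))) (@Option.rec.{1, 0} @Nat @(fun (x2 : @Option.{0} @Nat) => @Nat) (nat_lit 0) @(fun (x2 : @Nat) => x2) (@Cfsg.Agent.KOc62dedb.k9.{0}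 @Nat @Cfsg.Agent.H860.Act.dl (@Cfsg.Agent.KOc62dedb.k10 @x0 (@Prod.fst.{0, 0} @Nat @Nat (@Prod.snd.{0, 0} @Nat (@Prod.{0, 0} @Nat @Nat) @x1)))))) (@Nat.xor (@Option.rec.{1, 0} @Nat @(fun (x2 : @Option.{0} @Nat) => @Nat) (nat_lit 0) @(fun (x2 : @Nat) => x2) (@Cfsg.Agent.KOc62dedb.k9.{0} @Nat @Cfsg.Agent.H860.Act.dl (@Cfsg.Agent.KOc62dedb.k10 @x0 (@Prod.snd.{0, 0} @Nat @Nat (@Prod.snd.{0, 0} @Nat (@Prod.{0, 0} @Nat @Nat) @x1))))) (@Option.rec.{1, 0} @Nat @(fun (x2 : @Option.{0} @Nat) => @Nat) (nat_lit 0) @(fun (x2 : @Nat) => x2) (@Cfsg.Agent.KOc62dedb.k9.{0} @Nat @Cfsg.Agent.H860.Act.dl (@Cfsg.Agent.KOc62dedb.k10 @x0 (nat_lit 23))))))) ?_); rewrite [← Cfsg.Agent.KOc62dedb.e9.{0}, ← Cfsg.Agent.KOc62dedb.e10]; (try delta Cfsg.Agent.H860.Act.im Cfsg.Agent.H860.Act.D); (try generalize @Cfsg.Agent.H860.Act.dl = g0); (try generalize @Cfsg.Agent.SporadicA.GolayPerm.papp = g1); rfl') | exact @Cfsg.Agent.H860.Act.im | exact ()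
private theorem _root_.Cfsg.Agent.KOc62dedb.e11 : (by first | exact @Cfsg.Agent.H860.Act.im = @_root_.Cfsg.Agent.KOc62dedb.k11 | exact True : Prop) := by first | (delta _root_.Cfsg.Agent.KOc62dedb.k11; exact @Subtype.property _ (fun g => @Cfsg.Agent.H860.Act.im = @g) _) | rfl | trivial
private theorem _root_.Cfsg.Agent.KOc62dedb.e12.{ku} {M : Nat → Sort ku} (φ : ∀ n, M n) {z : M Nat.zero} {s : ∀ n, M n → M (Nat.succ n)} (h0 : φ Nat.zero = z) (hs : ∀ n, φ (Nat.succ n) = s n (φ n)) (n : Nat) : φ n = @Nat.rec M z s n := Nat.rec h0 (fun n ih => (hs n).trans (congrArg (s n) ih)) n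
private noncomputable def _root_.Cfsg.Agent.KOc62dedb.k13 : (@Nat → ((@List.{0} @Nat) → @List.{0} @Nat)) := @(fun (x0 : @Nat) (x1 : @List.{0} @Nat) => @Nat.rec.{1} @(fun (x2 : @Nat) => ((@List.{0} @Nat) → @List.{0} @Nat)) @(fun (x2 : @List.{0} @Nat) => x2) @(fun (x2 : @Nat) (x3 : ((@List.{0} @Nat) → @List.{0} @Nat)) (x4 : @List.{0} @Nat) => @x3 (@List.cons.{0} @Nat @x2 @x4)) @x0 @x1)
private theorem _root_.Cfsg.Agent.KOc62dedb.e13 : @List.range.loop = @_root_.Cfsg.Agent.KOc62dedb.k13 := by delta _root_.Cfsg.Agent.KOc62dedb.k13; funext a0 a1; refine (congrFun (_root_.Cfsg.Agent.KOc62dedb.e12 (fun a0 a1 => @List.range.loop a0 a1) ?_ (fun c0 => ?_) a0) a1 :) <;> (rfl')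
private noncomputable def _root_.Cfsg.Agent.KOc62dedb.k14 : (by first | exact type_of% @Cfsg.Agent.H669.Dl.J4.sol | exact Unit : Sort _) := by first | (refine @Subtype.val _ (fun g => @Cfsg.Agent.H669.Dl.J4.sol = @g) (@Subtype.mk _ _ (@(fun (x0 : @Nat) => @Cfsg.Agent.KOc62dedb.k4.{0} (@Prod.{0, 0} @Nat @Nat) (@Cfsg.Agent.KOc62dedb.k5.{0, 0} @Nat (@List.{0} (@Prod.{0, 0} @Nat @Nat)) @(fun (x1 : @Nat) => @Cfsg.Agent.KOc62dedb.k5.{0, 0} @Nat (@Prod.{0, 0} @Nat @Nat) @(fun (x2 : @Nat) => @Prod.mk.{0, 0} @Nat @Nat @x1 @x2) (@Cfsg.Agent.KOc62dedb.k6.{0} @Nat @(fun (x2 : @Nat) => @Nat.beq (@Nat.xor @x2 (@Cfsg.Agent.KOc62dedb.k7 (@Cfsg.Agent.KOc62dedb.k5.{0, 0} (@Prod.{0, 0} @Nat (@Prod.{0, 0} @Nat @Nat)) @Nat (@Cfsg.Agent.KOc62dedb.k11 @x1) @Cfsg.Agent.H860.Act.SK) @x0)) (@Nat.xor @x0 (@Cfsg.Agent.KOc62dedb.k7 @Cfsg.Agent.H860.OrbData.A6 @x2))) (@Cfsg.Agent.KOc62dedb.k13 (nat_lit 2048) (@List.nil.{0} @Nat)))) @Cfsg.Agent.H669.Dl.J4.L6))) ?_); rewrite [← Cfsg.Agent.KOc62dedb.e4.{0},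 ← Cfsg.Agent.KOc62dedb.e5.{0, 0}, ← Cfsg.Agent.KOc62dedb.e6.{0}, ← Cfsg.Agent.KOc62dedb.e7, ← Cfsg.Agent.KOc62dedb.e11, ← Cfsg.Agent.KOc62dedb.e13]; (try delta Cfsg.Agent.H669.Dl.J4.sol Cfsg.Agent.H860.Act.AP); (try generalize @Cfsg.Agent.J4.Beta.lin = g0); (try generalize @Cfsg.Agent.H860.Act.im = g1); (try generalize @Cfsg.Agent.H860.Act.SK = g2); (try generalize @Cfsg.Agent.H860.OrbData.A6 = g3); (try generalize @Cfsg.Agent.H669.Dl.J4.L6 = g4); rfl') | exact @Cfsg.Agent.H669.Dl.J4.sol | exact ()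
private theorem _root_.Cfsg.Agent.KOc62dedb.e14 : (by first | exact @Cfsg.Agent.H669.Dl.J4.sol = @_root_.Cfsg.Agent.KOc62dedb.k14 | exact True : Prop) := by first | (delta _root_.Cfsg.Agent.KOc62dedb.k14; exact @Subtype.property _ (fun g => @Cfsg.Agent.H669.Dl.J4.sol = @g) _) | rfl | trivial
private noncomputable def _root_.Cfsg.Agent.KOc62dedb.k15.{ku0} : ((x0 : Sort ku0) → ((x1 : @Bool) → ((x2 : @Bool) → ((@Eq.{1} @Bool @x1 @x2) → @Bool.noConfusionType.{ku0} @x0 @x1 @x2)))) := @(fun (x0 : Sort ku0) (x1 : @Bool) (x2 : @Bool) (x3 : @Eq.{1} @Bool @x1 @x2) => @Eq.rec.{ku0, 1} @Bool @x1 @(fun (x4 : @Bool) (x5 : @Eq.{1} @Bool @x1 @x4) => @Bool.noConfusionType.{ku0} @x0 @x1 @x4) (@Bool.rec.{ku0} @(fun (x4 : @Bool) => @Bool.noConfusionType.{ku0} @x0 @x4 @x4) @(fun (x4 : x0) => x4) @(fun (x4 : x0) => x4) @x1) @x2 @x3)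
private theorem _root_.Cfsg.Agent.KOc62dedb.e15.{ku0} : @Bool.noConfusion.{ku0} = @_root_.Cfsg.Agent.KOc62dedb.k15.{ku0} := by delta _root_.Cfsg.Agent.KOc62dedb.k15; rfl'
private noncomputable def _root_.Cfsg.Agent.KOc62dedb.k16 : ((x0 : @Bool) → ((x1 : @Bool) → @Decidable (@Eq.{1} @Bool @x0 @x1))) := @(fun (x0 : @Bool) (x1 : @Bool) => @Bool.rec.{1} @(fun (x2 : @Bool) => @Decidable (@Eq.{1} @Bool @x2 @x1)) (@Bool.rec.{1} @(fun (x2 : @Bool) => @Decidable (@Eq.{1} @Bool @Bool.false @x2)) (@Decidable.isTrue (@Eq.{1} @Bool @Bool.false @Bool.false) (@rfl.{1} @Bool @Bool.false)) (@Decidable.isFalse (@Eq.{1} @Bool @Bool.false @Bool.true) @(fun (x2 : @Eq.{1} @Bool @Bool.false @Bool.true) => @Cfsg.Agent.KOc62dedb.k15.{0} @False @Bool.false @Bool.true @x2)) @x1) (@Bool.rec.{1} @(fun (x2 : @Bool) => @Decidable (@Eq.{1} @Bool @Bool.true @x2)) (@Decidable.isFalse (@Eq.{1} @Bool @Bool.true @Bool.false) @(fun (x2 : @Eq.{1} @Bool @Bool.true @Bool.false) => @Cfsg.Agent.KOc62dedb.k15.{0} @False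 @Bool.true @Bool.false @x2)) (@Decidable.isTrue (@Eq.{1} @Bool @Bool.true @Bool.true) (@rfl.{1} @Bool @Bool.true)) @x1) @x0)
private theorem _root_.Cfsg.Agent.KOc62dedb.e16 : @Bool.decEq = @_root_.Cfsg.Agent.KOc62dedb.k16 := by delta _root_.Cfsg.Agent.KOc62dedb.k16; rewrite [← Cfsg.Agent.KOc62dedb.e15.{0}]; rfl'
private noncomputable def _root_.Cfsg.Agent.KOc62dedb.k17 : ((x0 : @Nat) → ((x1 : @Nat) → @Decidable (@LE.le.{0} @Nat @instLENat @x0 @x1))) := @(fun (x0 : @Nat) (x1 : @Nat) => @Decidable.rec.{1} (@Eq.{1} @Bool (@Nat.ble @x0 @x1) @Bool.true) @(fun (x2 : @Decidable (@Eq.{1} @Bool (@Nat.ble @x0 @x1) @Bool.true)) => @Decidable (@LE.le.{0} @Nat @instLENat @x0 @x1)) @(fun (x2 : @Not (@Eq.{1} @Bool (@Nat.ble @x0 @x1) @Bool.true)) => @Decidable.isFalse (@LE.le.{0} @Nat @instLENat @x0 @x1) (@Nat.not_le_of_not_ble_eq_true @x0 @x1 @x2)) @(fun (x2 : @Eq.{1} @Bool (@Nat.ble @x0 @x1) @Bool.true) => @Decidable.isTrue (@LE.le.{0} @Nat @instLENat @x0 @x1) (@Nat.le_of_ble_eq_true @x0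 @x1 @x2)) (@Cfsg.Agent.KOc62dedb.k16 (@Nat.ble @x0 @x1) @Bool.true))
private theorem _root_.Cfsg.Agent.KOc62dedb.e17 : @Nat.decLe = @_root_.Cfsg.Agent.KOc62dedb.k17 := by delta _root_.Cfsg.Agent.KOc62dedb.k17; rewrite [← Cfsg.Agent.KOc62dedb.e16]; rfl'

theorem sol1 : (sol 1).length ≤ 32 := by (first | (refine of_decide_eq_true ?_; rewrite [Cfsg.Agent.KOc62dedb.e0, Cfsg.Agent.KOc62dedb.e2.{0}, Cfsg.Agent.KOc62dedb.e14, Cfsg.Agent.KOc62dedb.e17]; decide +kernel) | decide +kernel)

theorem sol16 : (sol 16).length ≤ 32 := by (first | (refine of_decide_eq_true ?_; rewrite [Cfsg.Agent.KOc62dedb.e0, Cfsg.Agent.KOc62dedb.e2.{0}, Cfsg.Agent.KOc62dedb.e14, Cfsg.Agent.KOc62dedb.e17]; decide +kernel) | decide +kernel)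

theorem small_pow : ∀ j < 6, pcomp (pcomp (rp.getD j idP) (rp.getD j idP))
    (pcomp (rp.getD j idP) (rp.getD j idP)) = idP := by decide +kernel

/-- the matrix of the translations -/
def BB : List ℕ := [0, 524, 717, 541, 0, 533, 611, 200, 184, 26, 596]

private noncomputable def _root_.Cfsg.Agent.KOc62dedb.k18l (n : Nat) (P : ∀ k, k < n → Prop) (H : ∀ k h, Decidable (P k h)) (m : Nat) : m ≤ n → Bool := @Nat.rec (fun m => m ≤ n → Bool) (fun _ => true) (fun k ih h => @Decidable.rec (P k h) (fun _ => Bool) (fun _ => false) (fun _ => ih (Nat.le_of_succ_le h)) (H k h)) m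
private theorem _root_.Cfsg.Agent.KOc62dedb.k18ls (n : Nat) (P : ∀ k, k < n → Prop) (H : ∀ k h, Decidable (P k h)) (m : Nat) : ∀ h : m ≤ n, _root_.Cfsg.Agent.KOc62dedb.k18l n P H m h = true ↔ ∀ k (g : k < m), P k (Nat.lt_of_lt_of_le g h) := by induction m with | zero => exact fun _ => ⟨fun _ _ g => absurd g (Nat.not_lt_zero _), fun _ => rfl⟩ | succ m ih => intro h; show @Decidable.rec (P m h) (fun _ => Bool) (fun _ => false) (fun _ => _root_.Cfsg.Agent.KOc62dedb.k18l n P H m (Nat.le_of_succ_le h)) (H m h) = true ↔ _; cases H m h with | isFalse q => exact ⟨fun g => absurd g Bool.false_ne_true, fun g => absurd (g m (Nat.lt_succ_self m)) q⟩ | isTrue q => exact ⟨fun g k hk => (Nat.lt_succ_iff_lt_or_eq.1 hk).elim ((ih _).1 g k) fun e => by subst e; exact q, fun g => (ih _).2 fun k hk => g k (Nat.lt_succ_of_lt hk)⟩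
private noncomputable def _root_.Cfsg.Agent.KOc62dedb.k18 (n : Nat) (P : ∀ k, k < n → Prop) (H : ∀ k h, Decidable (P k h)) : Decidable (∀ k h, P k h) := @Bool.rec (fun b => _root_.Cfsg.Agent.KOc62dedb.k18l n P H n (Nat.le_refl n) = b → Decidable (∀ k h, P k h)) (fun g => isFalse fun q => Bool.false_ne_true (g.symm.trans ((_root_.Cfsg.Agent.KOc62dedb.k18ls n P H n _).2 fun k h => q k h))) (fun g => isTrue fun k h => (_root_.Cfsg.Agent.KOc62dedb.k18ls n P H n _).1 g k h) (_root_.Cfsg.Agent.KOc62dedb.k18l n P H n (Nat.le_refl n)) rfl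
private theorem _root_.Cfsg.Agent.KOc62dedb.e18 : @Nat.decidableBallLT = @_root_.Cfsg.Agent.KOc62dedb.k18 := funext fun _ => funext fun _ => funext fun _ => Subsingleton.elim _ _
private noncomputable def _root_.Cfsg.Agent.KOc62dedb.k19 : ((x0 : Prop) → ((x1 : Prop) → ((@Decidable @x0) → ((@Decidable @x1) → @Decidable (@Or @x0 @x1))))) := @(fun (x0 : Prop) (x1 : Prop) (x2 : @Decidable @x0) (x3 : @Decidable @x1) => @Decidable.rec.{1} @x0 @(fun (x4 : @Decidable @x0) => @Decidable (@Or @x0 @x1)) @(fun (x4 : @Not @x0) => @Decidable.rec.{1} @x1 @(fun (x5 : @Decidable @x1) => @Decidable (@Or @x0 @x1)) @(fun (x5 : @Not @x1) => @Decidable.isFalse (@Or @x0 @x1) (@instDecidableOr._proof_1 @x0 @x1 @x4 @x5)) @(fun (x5 : x1) => @Decidable.isTrue (@Or @x0 @x1) (@Or.inr @x0 @x1 @x5)) @x3) @(fun (x4 : x0) => @Decidable.isTrue (@Or @x0 @x1) (@Or.inl @x0 @x1 @x4)) @x2)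
private theorem _root_.Cfsg.Agent.KOc62dedb.e19 : @instDecidableOr = @_root_.Cfsg.Agent.KOc62dedb.k19 := by delta _root_.Cfsg.Agent.KOc62dedb.k19; rfl'
private noncomputable def _root_.Cfsg.Agent.KOc62dedb.k20 : ((x0 : @Nat) → ((x1 : @Nat) → @Decidable (@Eq.{1} @Nat @x0 @x1))) := @(fun (x0 : @Nat) (x1 : @Nat) => @Bool.rec.{1} @(fun (x2 : @Bool) => ((@Eq.{1} @Bool (@Nat.beq @x0 @x1) @x2) → @Decidable (@Eq.{1} @Nat @x0 @x1))) @(fun (x2 : @Eq.{1} @Bool (@Nat.beq @x0 @x1) @Bool.false) => @Decidable.isFalse (@Eq.{1} @Nat @x0 @x1) (@Nat.ne_of_beq_eq_false @x0 @x1 @x2)) @(fun (x2 : @Eq.{1} @Bool (@Nat.beq @x0 @x1) @Bool.true) => @Decidable.isTrue (@Eq.{1} @Nat @x0 @x1) (@Nat.eq_of_beq_eq_true @x0 @x1 @x2)) (@Nat.beq @x0 @x1) (@Eq.refl.{1} @Bool (@Nat.beq @x0 @x1)))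
private theorem _root_.Cfsg.Agent.KOc62dedb.e20 : @Nat.decEq = @_root_.Cfsg.Agent.KOc62dedb.k20 := by delta _root_.Cfsg.Agent.KOc62dedb.k20; rfl'
private noncomputable def _root_.Cfsg.Agent.KOc62dedb.k21 : @DecidableEq.{1} @Nat := @Cfsg.Agent.KOc62dedb.k20
private theorem _root_.Cfsg.Agent.KOc62dedb.e21 : @instDecidableEqNat = @_root_.Cfsg.Agent.KOc62dedb.k21 := by delta _root_.Cfsg.Agent.KOc62dedb.k21; rewrite [← Cfsg.Agent.KOc62dedb.e20]; rfl'

theorem red : ∀ v < 2048, (fun r => r = 0 ∨ r = 17 ∨ r = 1 ∨ r = 16)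
    (v ^^^ (lin BB v ^^^ lin A6 (lin BB v))) := by (first | (refine of_decide_eq_true ?_; rewrite [Cfsg.Agent.KOc62dedb.e0, Cfsg.Agent.KOc62dedb.e7, Cfsg.Agent.KOc62dedb.e18, Cfsg.Agent.KOc62dedb.e19, Cfsg.Agent.KOc62dedb.e21]; decide +kernel) | decide +kernel)

theorem pw0 : Tab.pw (0, P6) 8 = (0, idP) := by decide +kernel

theorem pw17 : Tab.pw (17, P6) 8 = (0, idP) := by decide +kernel

section

variable {G : Type*} [Group G] {R : Subgroup G} {l : List G} {phi : M24 →* G}

/-- the group `2^11:M24` -/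
def NN (l : List G) (phi : M24 →* G) : Subgroup G := Subgroup.closure {q | q ∈ l} ⊔ phi.range

theorem beta_mem_Q (v : ℕ) : beta l v ∈ Subgroup.closure {q | q ∈ l} :=
  beta_mem _ l (fun _ ha => Subgroup.subset_closure ha) v

theorem beta_mem_NN (v : ℕ) : beta l v ∈ NN l phi := Subgroup.mem_sup_left (beta_mem_Q v)

theorem phi_mem_NN (m : M24) : phi m ∈ NN l phi := Subgroup.mem_sup_right ⟨m, rfl⟩

theorem exists_form (H : Hyp R l phi) {s : G} (hs : s ∈ NN l phi) :
    ∃ w < 2048, ∃ m : M24, s = beta l w * phi m := by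
  obtain ⟨q, hq, _, ⟨m, rfl⟩, rfl⟩ := exists_mul_of_mem_sup H.norm hs
  obtain ⟨w, hw, rfl⟩ := exists_beta H.sq H.comm hq
  rw [H.len] at hw
  exact ⟨w, hw, m, rfl⟩

theorem beta_inv (H : Hyp R l phi) (v : ℕ) : (beta l v)⁻¹ = beta l v :=
  inv_eq_of_mul_eq_one_left (beta_sq l H.sq H.comm v)

variable [Finite G]

theorem inter (H : Hyp R l phi) (m : M24) (h : phi m ∈ Subgroup.closure {q | q ∈ l}) : m = 1 := by
  have : IsSimpleGroup M24 := Cfsg.Agent.S0365.result
  exact eq_one_of_mem _ (two_group l H.sq H.comm H.ind).1 phi H.inj not_two H.norm m h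

/-- elements commuting with `beta v * phi P6` -/
theorem comm_sol (H : Hyp R l phi) {v w : ℕ} (hv : v < 2048) (hw : w < 2048) {m : M24}
    (h : (beta l w * phi m) * (beta l v * phi (el P6)) = (beta l v * phi (el P6)) * (beta l w * phi m)) :
    (packOf (m : Equiv.Perm GolayPt), w) ∈ sol v := by
  have e1 : phi m * beta l v * (phi m)⁻¹ = beta l (lin (AP (packOf (m : Equiv.Perm GolayPt))) v) := by
    have := act_el H (ok_packOf m) v
    rwa [el_packOf] at this
  have e2 : phi (el P6) * beta l w * (phi (el P6))⁻¹ = beta l (lin A6 w) := by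
    rw [mA6]
    exact act_el H ok6 w
  set a := lin (AP (packOf (m : Equiv.Perm GolayPt))) v with ha
  set b := lin A6 w with hb
  have h1 : beta l (w ^^^ a) * phi (m * el P6) = beta l (v ^^^ b) * phi (el P6 * m) := by
    rw [beta_xor l H.sq H.comm, beta_xor l H.sq H.comm, ← e1, ← e2, map_mul, map_mul]
    have h3 : beta l w * (phi m * beta l v * (phi m)⁻¹) * (phi m * phi (el P6)) =
        (beta l w * phi m) * (beta l v * phi (el P6)) := by group
    have h4 : beta l v * (phi (el P6) * beta l w * (phi (el P6))⁻¹) * (phi (el P6) * phi m) =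
        (beta l v * phi (el P6)) * (beta l w * phi m) := by group
    rw [h3, h4, h]
  have h2 : phi (m * el P6 * (el P6 * m)⁻¹) ∈ Subgroup.closure {q | q ∈ l} := by
    have h3 : phi (m * el P6 * (el P6 * m)⁻¹) = (beta l (w ^^^ a))⁻¹ * beta l (v ^^^ b) := by
      rw [map_mul, map_inv]
      have h4 : phi (m * el P6) = (beta l (w ^^^ a))⁻¹ * (beta l (v ^^^ b) * phi (el P6 * m)) := by
        rw [← h1]; group
      rw [h4]
      group
    rw [h3]
    exact Subgroup.mul_mem _ (Subgroup.inv_mem _ (beta_mem_Q _)) (beta_mem_Q _)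
  have h3 : m * el P6 = el P6 * m := by
    have h4 := inter H _ h2
    rwa [mul_inv_eq_one] at h4
  rw [h3] at h1
  have h4 := mul_right_cancel h1
  have ha2 : a < 2048 := lin_lt (AP_lt _) v
  have hb2 : b < 2048 := by
    rw [hb, mA6]
    exact lin_lt (AP_lt _) w
  have h5 : w ^^^ a = v ^^^ b := beta_inj H.sq H.comm H.ind
    (by rw [H.len]; exact Nat.xor_lt_two_pow hw ha2) (by rw [H.len]; exact Nat.xor_lt_two_pow hv hb2) h4
  unfold sol
  rw [List.mem_flatMap]
  refine ⟨_, mem_L6 h3, ?_⟩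
  rw [List.mem_map]
  refine ⟨w, ?_, rfl⟩
  rw [List.mem_filter, List.mem_range]
  refine ⟨hw, ?_⟩
  rw [Nat.beq_eq]
  exact h5

theorem card_le_sol (H : Hyp R l phi) {v : ℕ} (hv : v < 2048) :
    Nat.card {s : G // s ∈ NN l phi ∧ s * (beta l v * phi (el P6)) = (beta l v * phi (el P6)) * s} ≤
      (sol v).length := by
  classical
  choose w hw m hm using fun s : {s : G // s ∈ NN l phi ∧
    s * (beta l v * phi (el P6)) = (beta l v * phi (el P6)) * s} => exists_form H s.2.1
  have hmem : ∀ s, (packOf ((m s : M24) : Equiv.Perm GolayPt), w s) ∈ (sol v).toFinset := by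
    intro s
    rw [List.mem_toFinset]
    refine comm_sol H hv (hw s) ?_
    rw [← hm s]
    exact s.2.2
  have h1 := Nat.card_le_card_of_injective
    (fun s => (⟨_, hmem s⟩ : {x // x ∈ (sol v).toFinset})) (by
      intro s s' hs
      have h2 := congrArg Subtype.val hs
      simp only [Prod.mk.injEq] at h2
      apply Subtype.ext
      rw [hm s, hm s', h2.2, packOf_inj h2.1])
  rw [Nat.card_eq_fintype_card (α := {x // x ∈ (sol v).toFinset}), Fintype.card_coe] at h1
  exact h1.trans (List.toFinset_card_le _)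

theorem el_pow_four (j : ℕ) (hj : j ≠ 6) : el (rp.getD j idP) ^ 4 = 1 := by
  by_cases h : j < 6
  · have h1 := small_pow j h
    have h2 := ok_getD rp_ok j
    have h3 := congrArg el h1
    rw [el_pcomp (ok_pcomp h2 h2) (ok_pcomp h2 h2), el_pcomp h2 h2, el_idP] at h3
    rw [← h3, show (4 : ℕ) = 2 + 2 from rfl, pow_add, pow_two]
  · have h3 : rp.length ≤ j := by
      have : rp.length = 7 := rfl
      omega
    rw [List.getD_eq_getElem?_getD, List.getElem?_eq_none h3]
    show el idP ^ 4 = 1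
    rw [el_idP, one_pow]

/-- the elements of order 16 up to conjugation -/
theorem exists_red (H : Hyp R l phi) {u : G} (hu : u ∈ NN l phi) (h16 : orderOf u = 16) :
    ∃ n ∈ NN l phi, ∃ v, (v = 1 ∨ v = 16) ∧ n * u * n⁻¹ = beta l v * phi (el P6) := by
  obtain ⟨w, hw, m, rfl⟩ := exists_form H hu
  have hm : m ^ 2 ^ 4 = 1 := pow_eq_one H (beta_mem_Q w) (by
    rw [show 2 ^ 4 = 16 from rfl, ← h16, pow_orderOf_eq_one])
  obtain ⟨c, j, hcj⟩ := two_conj hm
  have hq : phi c * beta l w * (phi c)⁻¹ ∈ Subgroup.closure {q | q ∈ l} :=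
    (Subgroup.mem_normalizer_iff.mp (H.norm ⟨c, rfl⟩) _).mp (beta_mem_Q w)
  obtain ⟨v, hv, hv'⟩ := exists_beta H.sq H.comm hq
  rw [H.len] at hv
  have h1 : phi c * (beta l w * phi m) * (phi c)⁻¹ = beta l v * phi (el (rp.getD j idP)) := by
    rw [← hv', ← hcj, map_mul, map_mul, map_inv]
    group
  have hord : ∀ {n y : G}, n * (beta l w * phi m) * n⁻¹ = y → ¬ y ^ 8 = 1 := by
    rintro n y rfl h
    rw [conj_pow] at h
    have h2 : (beta l w * phi m) ^ 8 = 1 := by
      have h3 : (beta l w * phi m) ^ 8 = n⁻¹ * (n * (beta l w * phi m) ^ 8 * n⁻¹) * n := by group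
      rw [h3, h]
      group
    have h4 := orderOf_dvd_of_pow_eq_one h2
    rw [h16] at h4
    norm_num at h4
  have hj : j = 6 := by
    by_contra hj
    apply hord h1
    have hn : phi (el (rp.getD j idP)) ∈ Subgroup.normalizer ((Subgroup.closure {q | q ∈ l} : Subgroup G) : Set G) :=
      H.norm ⟨_, rfl⟩
    obtain ⟨q', hq', h2⟩ := mul_pow_mem hn (beta_mem_Q v) 4
    rw [← map_pow, el_pow_four j hj, map_one, mul_one] at h2
    obtain ⟨v', -, rfl⟩ := exists_beta H.sq H.comm hq'
    rw [show (8 : ℕ) = 4 * 2 from rfl, pow_mul, h2, pow_two, beta_sq l H.sq H.comm]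
  subst hj
  change phi c * (beta l w * phi m) * (phi c)⁻¹ = beta l v * phi (el P6) at h1
  set e := lin BB v with he
  have e2 : phi (el P6) * beta l e * (phi (el P6))⁻¹ = beta l (lin A6 e) := by
    rw [mA6]
    exact act_el H ok6 e
  have h2 : (beta l e * phi c) * (beta l w * phi m) * (beta l e * phi c)⁻¹ =
      beta l (v ^^^ (e ^^^ lin A6 e)) * phi (el P6) := by
    have h3 : (beta l e * phi c) * (beta l w * phi m) * (beta l e * phi c)⁻¹ =
        beta l e * (phi c * (beta l w * phi m) * (phi c)⁻¹) * (beta l e)⁻¹ := by group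
    rw [h3, h1, beta_xor l H.sq H.comm, beta_xor l H.sq H.comm, ← e2, beta_inv H e]
    have h4 : beta l e * beta l v = beta l v * beta l e := by
      rw [← beta_xor l H.sq H.comm, Nat.xor_comm, beta_xor l H.sq H.comm]
    calc beta l e * (beta l v * phi (el P6)) * beta l e = (beta l e * beta l v) * phi (el P6) * beta l e := by group
      _ = (beta l v * beta l e) * phi (el P6) * beta l e := by rw [h4]
      _ = beta l v * (beta l e * (phi (el P6) * beta l e * (phi (el P6))⁻¹)) * phi (el P6) := by group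
  refine ⟨beta l e * phi c, Subgroup.mul_mem _ (beta_mem_NN e) (phi_mem_NN c), _, ?_, h2⟩
  have h17 : ∀ k : ℕ, Tab.pw (k, P6) 8 = (0, idP) → ¬ (v ^^^ (e ^^^ lin A6 e)) = k := by
    intro k hk hv2
    apply hord h2
    rw [hv2]
    have h3 := (Tab.E_pw H (a := (k, P6)) ok6 8).2
    rw [hk, E_one] at h3
    exact h3.symm
  rcases red v hv with h3 | h3 | h3 | h3
  · exact absurd h3 (h17 0 pw0)
  · exact absurd h3 (h17 17 pw17)
  · exact Or.inl h3
  · exact Or.inr h3

/-- **The centralizer in `2^11:M24` of an element of order 16.** -/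
theorem card_le (H : Hyp R l phi) {u : G} (hu : u ∈ NN l phi) (h16 : orderOf u = 16) :
    Nat.card {s : G // s ∈ NN l phi ∧ s * u = u * s} ≤ 32 := by
  obtain ⟨n, hn, v, hv, h⟩ := exists_red H hu h16
  have h1 : Nat.card {s : G // s ∈ NN l phi ∧
      s * (beta l v * phi (el P6)) = (beta l v * phi (el P6)) * s} ≤ 32 := by
    rcases hv with rfl | rfl
    · exact (card_le_sol H (by norm_num)).trans sol1
    · exact (card_le_sol H (by norm_num)).trans sol16
  have key : ∀ s : {s : G // s ∈ NN l phi ∧ s * u = u * s}, n * s.1 * n⁻¹ ∈ NN l phi ∧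
      n * s.1 * n⁻¹ * (beta l v * phi (el P6)) = (beta l v * phi (el P6)) * (n * s.1 * n⁻¹) := by
    intro s
    refine ⟨Subgroup.mul_mem _ (Subgroup.mul_mem _ hn s.2.1) (Subgroup.inv_mem _ hn), ?_⟩
    rw [← h]
    calc n * s.1 * n⁻¹ * (n * u * n⁻¹) = n * (s.1 * u) * n⁻¹ := by group
      _ = n * (u * s.1) * n⁻¹ := by rw [s.2.2]
      _ = n * u * n⁻¹ * (n * s.1 * n⁻¹) := by group
  refine le_trans (Nat.card_le_card_of_injective (fun s => (⟨n * s.1 * n⁻¹, key s⟩ :
    {s : G // s ∈ NN l phi ∧ s * (beta l v * phi (el P6)) = (beta l v * phi (el P6)) * s})) ?_) h1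
  intro s s' hs
  have h2 := congrArg Subtype.val hs
  exact Subtype.ext (mul_left_cancel (mul_right_cancel h2))

end

end Cfsg.Agent.H669.Dl.J4
end

-- part: H633/Dl/SpSeven3
section
prune_inst 0xd010070075220000001800100200004020000102004000002040010201480040a041080182702010008438c07800006001100000422000000a003000000600000004400012000e00280000400000000000000000000000000000000000000000000000000
set_option linter.all false
open scoped Cfsg.Agent.FastGrp

/-!
# No element of order three of `Sp₆(2)` commutes with an element of order seven (helper633)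
-/

set_option autoImplicit false

namespace Cfsg.Agent.H633.Dl.SpSeven3

open Subgroup Cfsg.Agent.SporRec.TwoSp6.Sp Cfsg.Agent.H555.TwoSp.SpSeven Cfsg.Agent.H771.KSp6

/-- fixed points of a map with `f³ = 1` -/
theorem card_modEq3 {α : Type*} [Finite α] {f : α → α} (hf : ∀ a, f (f (f a)) = a) :
    Nat.card α ≡ Nat.card {a // f a = a} [MOD 3] := by
  classical
  let _ : Fintype α := Fintype.ofFinite α
  have : Fact (Nat.Prime 3) := ⟨by norm_num⟩
  let F : Function.End α := f
  have h1 : F ^ 3 ^ 1 = 1 := by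
    funext a
    exact hf a
  have h2 := Equiv.Perm.card_fixedPoints_modEq h1
  rw [← Nat.card_eq_fintype_card, ← Nat.card_eq_fintype_card] at h2
  exact h2

section

variable {g : S} (hg : orderOf g = 7)
include hg

/-- an element of order three is trivial on an invariant subgroup of order 1 or 8 -/
theorem triv3 {h : S} (hh : h * h * h = 1) (hc : g * h = h * g) (W : AddSubgroup V) (hW : ∀ w ∈ W, na g w ∈ W)
    (hW2 : ∀ w ∈ W, na h w ∈ W) (h64 : Nat.card W ≠ 64) : ∀ w ∈ W, na h w = w := by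
  have hcv : ∀ v, na g (na h v) = na h (na g v) := by
    intro v
    rw [na_apply, na_apply, na_apply, na_apply, ← act_mul, ← act_mul, hc]
  have hhv : ∀ v, na h (na h (na h v)) = v := by
    intro v
    rw [na_apply, na_apply, na_apply, ← act_mul, ← act_mul, hh, act_one]
  let W' : AddSubgroup V :=
    { carrier := {w | w ∈ W ∧ na h w = w}
      add_mem' := fun {a b} ha hb => ⟨W.add_mem ha.1 hb.1, by rw [map_add, ha.2, hb.2]⟩
      zero_mem' := ⟨W.zero_mem, map_zero _⟩
      neg_mem' := fun {a} ha => ⟨W.neg_mem ha.1, by rw [map_neg, ha.2]⟩ }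
  have hW'W : W' ≤ W := fun w hw => hw.1
  have hW'g : ∀ w ∈ W', na g w ∈ W' := fun w hw => ⟨hW w hw.1, by rw [← hcv, hw.2]⟩
  have hle : Nat.card W' ≤ Nat.card W := AddSubgroup.card_le_of_le hW'W
  intro w hw
  by_cases hw0 : w = 0
  · rw [hw0, map_zero]
  have hW1 : Nat.card W ≠ 1 := by
    intro h1
    have h2 : W = ⊥ := AddSubgroup.card_eq_one.mp h1
    rw [h2, AddSubgroup.mem_bot] at hw
    exact hw0 hw
  have hne : Nat.card W' ≠ 1 := by
    intro h1
    have h2 : W' = ⊥ := AddSubgroup.card_eq_one.mp h1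
    have h3 := card_modEq3 (α := W) (f := fun w => ⟨na h w, hW2 w w.2⟩) (fun w => Subtype.ext (hhv w))
    have h4 : Nat.card {w : W // (⟨na h w, hW2 w w.2⟩ : W) = w} = 1 := by
      rw [Nat.card_eq_one_iff_unique]
      refine ⟨⟨fun a b => ?_⟩, ⟨⟨0, Subtype.ext (map_zero _)⟩⟩⟩
      have key : ∀ a : {w : W // (⟨na h w, hW2 w w.2⟩ : W) = w}, (a.1 : V) = 0 := by
        intro a
        have h5 : (a.1 : V) ∈ W' := ⟨a.1.2, congrArg Subtype.val a.2⟩
        rw [h2, AddSubgroup.mem_bot] at h5
        exact h5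
      exact Subtype.ext (Subtype.ext ((key a).trans (key b).symm))
    rw [h4] at h3
    rcases card_inv hg W hW with h | h | h
    · exact hW1 h
    · rw [h] at h3
      revert h3
      decide
    · exact h64 h
  have h8 : Nat.card W' = Nat.card W := by
    rcases card_inv hg W hW with h | h | h <;> rcases card_inv hg W' hW'g with h' | h' | h' <;> (clear * - h h' hle hne h64 hW1; omega)
  have h9 : W' = W := AddSubgroup.eq_of_le_of_card_ge hW'W (by omega)
  rw [← h9] at hw
  exact hw.2

/-- **No element of order three commutes with an element of order seven.** -/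
theorem no_three {h : S} (hh : h * h * h = 1) (hc : g * h = h * g) : h = 1 := by
  have hcv : ∀ v, na g (na h v) = na h (na g v) := by
    intro v
    rw [na_apply, na_apply, na_apply, na_apply, ← act_mul, ← act_mul, hc]
  have hA : ∀ w ∈ (opA g).ker, na h w = w := by
    refine triv3 hg hh hc _ (fun w hw => A_mem hg w hw) (fun w hw => ?_) (fun h64 => ?_)
    · have h1 : opA g w = 0 := hw
      change opA g (na h w) = 0
      rw [opA_apply] at h1 ⊢
      rw [hcv, hcv, hcv, ← map_add, ← map_add, h1, map_zero]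
    · exact not_A hg fun v => eq_top_of_card hg h64 v
  have hB : ∀ w ∈ (opB g).ker, na h w = w := by
    refine triv3 hg hh hc _ (fun w hw => B_mem hg w hw) (fun w hw => ?_) (fun h64 => ?_)
    · have h1 : opB g w = 0 := hw
      change opB g (na h w) = 0
      rw [opB_apply] at h1 ⊢
      rw [hcv, hcv, hcv, ← map_add, ← map_add, h1, map_zero]
    · exact not_B hg fun v => eq_top_of_card hg h64 v
  apply act_ext
  intro v
  rw [act_one]
  change na h v = v
  have h1 := bezout g v
  have h2 : na g (opA g v) ∈ (opB g).ker := B_mem hg _ (BA hg v)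
  have h3 : na g (opB g v) + opB g v ∈ (opA g).ker := by
    have h4 : opB g v ∈ (opA g).ker := AB hg v
    exact (opA g).ker.add_mem (A_mem hg _ h4) h4
  rw [h1, map_add, hB _ h2, hA _ h3]

end

/-! ### A Frobenius group of order 21 -/

/-- the element of order seven -/
def wc : List (Fin 7) := [0, 3, 5, 2, 4, 6]

/-- the element of order three -/
def w3 : List (Fin 7) := [4, 5, 3, 4, 0, 2, 3, 0, 2, 0]

theorem ev_append' (v w : List (Fin 7)) : ev (v ++ w) = ev v * ev w := by
  unfold ev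
  rw [List.map_append, List.prod_append]

theorem w3_conj : ev w3 * ev wc = ev wc * ev wc * ev w3 := by
  rw [← ev_append', ← ev_append', ← ev_append']
  apply act_ext
  intro x
  obtain ⟨c, hc, rfl⟩ := exists_enc x
  rw [act_ev, act_ev]
  have key : ((List.range 64).all fun c => Nat.beq (run (w3 ++ wc) c) (run (wc ++ wc ++ w3) c)) = true := by
    decide +kernel
  rw [List.all_eq_true] at key
  rw [Nat.eq_of_beq_eq_true (key c (List.mem_range.2 hc))]

end Cfsg.Agent.H633.Dl.SpSeven3
end
end
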