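import Cfsg.Agent.H71.Dl.Height
import Cfsg.Prelude.Def_LieTwisted
import Cfsg.Agent.H492.FactsHN
import Cfsg.Agent.H759.Dl.Small
import Mathlib
import Cfsg.Agent.Nodes.LeviDec
import Cfsg.Agent.H211.Dl.Perm
import Cfsg.Agent.KFacts.RgdDiag
import Cfsg.Agent.KFacts.RgdSyl
import Cfsg.Agent.H454.Dl.Crit
import Cfsg.Agent.H152.PS.Deg
import Cfsg.Agent.H362.Dl.SixtyFour
import Cfsg.Agent.H651.Two.Count
import Cfsg.Agent.H669.Dl.A12_m3
import Cfsg.Agent.CpAutHN.Second
import Cfsg.Agent.H153.Dl.K24.O3_m3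
import Cfsg.Agent.Lib.PermNetFast
import Cfsg.Agent.H870.IMFiTwentyThree
import Cfsg.Agent.S2080
import Cfsg.Agent.H996.Deg.GThree
import Cfsg.Agent.SignalizersComponents.DihedralIso
import Cfsg.Agent.H996.Eight.Interval
import Cfsg.Agent.H996.Deg.TwFFour
import Cfsg.Agent.LieRecognition.CoxForm
import Cfsg.Agent.H949.SubInv
import Cfsg.Agent.KFacts.TwF4.AutNorm
import Cfsg.Agent.H870.IMFiTwentyTwo
import Cfsg.Agent.S2079
import Cfsg.Agent.OddHalf.D4.Spor.Fi22
import Cfsg.Agent.H877.IMJ4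
import Cfsg.Agent.H860.Sixty
import Cfsg.Agent.H860.PartFiveSeven
import Cfsg.Agent.H865.RhoEleven
import Cfsg.Agent.H419.TwoTrans_m3
import Cfsg.Agent.S2068
import Cfsg.Agent.H430.CfChevTab
import Cfsg.Agent.H115.ChevPar
import Cfsg.Agent.H783.CGTable
import Cfsg.Agent.H396.CommTab4
import Cfsg.Prelude.Def_LieTypeChar
import Cfsg.Agent.H498.LinDerived
import Cfsg.Agent.ChevalleyStructure.Ree.Data
import Cfsg.Agent.LieRecognition.ReeSylowThree
import Cfsg.Agent.H223.PMinRgd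
import Cfsg.Agent.H742.PanU_m3
import Cfsg.Agent.H674.Dl.OrthMinus
import Cfsg.Agent.H168.GLFour
import Cfsg.Agent.H492.IMPair_m3
import Cfsg.Agent.H593.IMRank
import Cfsg.Agent.H55.OutGen
import Cfsg.Agent.H648.Loc.Value_m3
import Cfsg.Agent.H511.Ore.WRow_m3
import Cfsg.Agent.S0886
import Cfsg.Agent.S0906
import Cfsg.Agent.S0908
import Cfsg.Agent.S0917
import Cfsg.Agent.H947.PQ.Own_m3
import Cfsg.Agent.H648.Loc.RowB
import Cfsg.Agent.H716.SplitAb
import Cfsg.Agent.S0165
import Cfsg.Agent.Blocks.LocalRing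
import Cfsg.Agent.Blocks.Basic
import Cfsg.Agent.H321.Dl.PslMany
import Cfsg.Agent.H755.Dl.Lin
import Cfsg.Agent.H477.HC.Arith_m3
import Cfsg.Agent.H246.Dl.KFix_m3
import Cfsg.Agent.H246.Dl.KTypeMJ_m3
import Cfsg.Agent.H519.Dl.WittTor
import Cfsg.Agent.KFacts.RgdFilt
import Cfsg.Agent.H519.Dl.Deg
import Cfsg.Agent.H64.Dl.ExcK
import Cfsg.Agent.H362.Dl.SpSmall
import Cfsg.Agent.Characters.CCBasic
import Cfsg.Agent.H279.Dl.Two
import Cfsg.Agent.S0775
import Cfsg.Agent.KFacts.RgdFld.Two_m3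
import Cfsg.Agent.H158.DlRows_m3
import Cfsg.Agent.S1163
import Cfsg.Agent.H419.Count_m3
import Cfsg.Agent.H771.KJ2
import Cfsg.Agent.H771.KJ3
import Cfsg.Agent.S2066
import Cfsg.Agent.Lib.PermCode
import Cfsg.Agent.H648.Loc.RowM
import Cfsg.Agent.H816.IMM
import Cfsg.Agent.Blocks.ExistsModular
import Cfsg.Agent.S2085
import Cfsg.Prelude.Def_Local
import Cfsg.Agent.Lib.Cores
import Cfsg.Agent.Lib.PSolvable
import Cfsg.Agent.SuzukiRankOne.M1Average
import Cfsg.Agent.S0942
import Cfsg.Agent.H593.IMMon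
import Cfsg.Agent.H717.Two.SevenEight_m3
import Cfsg.Agent.H710.R4.Sph_m3
import Cfsg.Agent.Nodes.RGDTwE6
import Cfsg.Agent.H35.ExcIdxTw_m3
import Cfsg.Agent.H979.LieSplit
import Cfsg.Agent.H400.LieLocal
import Cfsg.Agent.BiChar.SmallCard
import Cfsg.Agent.H868.Dl.Ly
import Cfsg.Agent.S1719
import Cfsg.Agent.S5389
import Cfsg.Agent.H603.SporElim
import Cfsg.Agent.SuzThree.Final
import Cfsg.Agent.H573.Spor.Suz
import Cfsg.Agent.H633.Dl.Co2
import Cfsg.Agent.H970.Sep.Co3Seven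
import Cfsg.Agent.H769.PB.CoThreeTwo
import Cfsg.Agent.H843.IMC.RowsB
import Cfsg.Agent.FastGrp
import Cfsg.Agent.Prune
set_option linter.all false

section
prune_inst 0x7fb8b8f808a821dfdfff7e3fae91dff811804fffe6def943ffe0699fab9f230009c56b850de010fe0e96c01410b87803fb7eceffe06bdc7ffffd1fb41ffbec0fa5e6b10811d080200e240ffe03e077086f3ffff7ffffffffffffffffffffffbeffbfebbeffff

-- part: H71/Dl/HeightRows
section
set_option linter.all false
open scoped Cfsg.Agent.FastGrp

/-!
# The derived length of the Sylow `r`-subgroups of the exceptional groups in characteristic `r` (S4769, DL-HEIGHT)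

`K` is a finite field of characteristic `r`.

* `dl_chevG2` (3), `dl_chevG2_three` (2, `r = 3`), `dl_chevD4` (3), `dl_chevF4` (4), `dl_chevE6` (4), `dl_chevE7` (5),
  `dl_chevE8` (5), `dl_twistedE6` (4), `dl_twistedD4` (3), `dl_twistedF4` (4);
* `dl_eq_G2`, `dl_eq_G2_three`, `dl_eq_F4`, `dl_eq_E6`, `dl_eq_E7`, `dl_eq_E8`, `dl_eq_2E6`, `dl_eq_3D4`, `dl_eq_2F4` : the
  same for a group `S` isomorphic to the group;
* `dl_tits` : the Tits group (4).
-/

set_option autoImplicit false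
set_option linter.unusedSectionVars false

namespace Cfsg.Agent.H71.Dl

open Cfsg Cfsg.Lie Cfsg.Agent.ChevalleyStructure.CoxeterGeomTypes
open Cfsg.Agent.Nodes.RGDChev Cfsg.Agent.H246.Dl

universe u

theorem htG2 : HtLt chevG2 2 (2 ^ 3) := by decide +kernel
theorem htD4 : HtLt chevD4 4 (2 ^ 3) := by decide +kernel
theorem htF4 : HtLt chevF4 4 (2 ^ 4) := by decide +kernel
theorem htE6 : HtLt chevE6 6 (2 ^ 4) := by decide +kernel
theorem htE7 : HtLt chevE7 7 (2 ^ 5) := by decide +kernel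
theorem htE8 : HtLt chevE8 8 (2 ^ 5) := by decide +kernel
theorem trivG2 : CommTriv chevG2 2 3 := by decide +kernel

theorem hpG2 : IsType chevG2 2 CoxeterMatrix.G₂ := by simp [IsType, typeList]
theorem hpD4 : IsType chevD4 4 coxeterD4 := by simp [IsType, typeList]
theorem hpF4 : IsType chevF4 4 CoxeterMatrix.F₄ := by simp [IsType, typeList]
theorem hpE6 : IsType chevE6 6 CoxeterMatrix.E₆ := by simp [IsType, typeList]
theorem hpE7 : IsType chevE7 7 CoxeterMatrix.E₇ := by simp [IsType, typeList]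
theorem hpE8 : IsType chevE8 8 CoxeterMatrix.E₈ := by simp [IsType, typeList]

section Chev

variable (K : Type u) [Field K] [Finite K] (r : ℕ) [Fact r.Prime] [CharP K r]

theorem dl_chevG2 : DlLe r 3 ↥(chevG2.group K) := dlLe_chev hpG2 K r htG2
theorem dl_chevD4 : DlLe r 3 ↥(chevD4.group K) := dlLe_chev hpD4 K r htD4
theorem dl_chevF4 : DlLe r 4 ↥(chevF4.group K) := dlLe_chev hpF4 K r htF4
theorem dl_chevE6 : DlLe r 4 ↥(chevE6.group K) := dlLe_chev hpE6 K r htE6
theorem dl_chevE7 : DlLe r 5 ↥(chevE7.group K) := dlLe_chev hpE7 K r htE7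
theorem dl_chevE8 : DlLe r 5 ↥(chevE8.group K) := dlLe_chev hpE8 K r htE8

theorem dl_twistedE6 (q : ℕ) : DlLe r 4 ↥(twistedE6 K q) :=
  dlLe_of_le (genSubgroup_le_group hpE6 _) (dl_chevE6 K r)

theorem dl_twistedD4 (q : ℕ) : DlLe r 3 ↥(twistedD4 K q) :=
  dlLe_of_le (genSubgroup_le_group hpD4 _) (dl_chevD4 K r)

theorem dl_twistedF4 (e : ℕ) : DlLe r 4 ↥(twistedF4 K e) :=
  dlLe_of_le (genSubgroup_le_group hpF4 _) (dl_chevF4 K r)

end Chev

theorem dl_chevG2_three (K : Type u) [Field K] [Finite K] [CharP K 3] : DlLe 3 2 ↥(chevG2.group K) := by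
  have : Fact (Nat.Prime 3) := ⟨Nat.prime_three⟩
  exact dlLe_two_chev hpG2 K 3 trivG2

/-! ### Groups isomorphic to these groups -/

section Iso

variable {S : Type*} [Group S] [Finite S] {K : Type u} [Field K] [Finite K] {r : ℕ} [Fact r.Prime] [CharP K r]

theorem dl_eq_G2 (e : S ≃* ↥(chevG2.group K)) : DlLe r 3 S := (dl_chevG2 K r).of_equiv e
theorem dl_eq_F4 (e : S ≃* ↥(chevF4.group K)) : DlLe r 4 S := (dl_chevF4 K r).of_equiv e
theorem dl_eq_E6 (e : S ≃* ↥(chevE6.group K)) : DlLe r 4 S := (dl_chevE6 K r).of_equiv e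
theorem dl_eq_E7 (e : S ≃* ↥(chevE7.group K)) : DlLe r 5 S := (dl_chevE7 K r).of_equiv e
theorem dl_eq_E8 (e : S ≃* ↥(chevE8.group K)) : DlLe r 5 S := (dl_chevE8 K r).of_equiv e
theorem dl_eq_2E6 {q : ℕ} (e : S ≃* ↥(twistedE6 K q)) : DlLe r 4 S := (dl_twistedE6 K r q).of_equiv e
theorem dl_eq_3D4 {q : ℕ} (e : S ≃* ↥(twistedD4 K q)) : DlLe r 3 S := (dl_twistedD4 K r q).of_equiv e

omit [Fact r.Prime] [CharP K r] in
theorem dl_eq_G2_three [CharP K 3] (e : S ≃* ↥(chevG2.group K)) : DlLe 3 2 S := by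
  have : Fact (Nat.Prime 3) := ⟨Nat.prime_three⟩
  exact (dl_chevG2_three K).of_equiv e

end Iso

theorem charP_two_of_card {K : Type*} [Field K] [Fintype K] {m : ℕ} (h : Fintype.card K = 2 ^ m) : CharP K 2 := by
  obtain ⟨p, hp⟩ := CharP.exists K
  obtain ⟨n, hpr, hn⟩ := FiniteField.card K p
  have h1 : p ∣ 2 ^ m := by
    rw [← h, hn]
    exact dvd_pow_self p n.ne_zero
  have h2 : p = 2 := (Nat.prime_dvd_prime_iff_eq hpr Nat.prime_two).1 (hpr.dvd_of_dvd_pow h1)
  rw [← h2]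
  exact hp

theorem dl_eq_2F4 {S : Type*} [Group S] [Finite S] (h : Lie.Iso2F4 S) : DlLe 2 4 S := by
  have : Fact (Nat.Prime 2) := ⟨Nat.prime_two⟩
  obtain ⟨K, _, _, m, -, hK, ⟨e⟩⟩ := h
  have := charP_two_of_card hK
  exact (dl_twistedF4 K 2 (2 ^ m)).of_equiv e

end Cfsg.Agent.H71.Dl
end

-- part: H669/Dl/HNDeg
section
prune_inst 0x8000000000000000000000000000014410000
set_option linter.all false
open scoped Cfsg.Agent.FastGrp

/-!
# Irreducible characters of degrees 214016, 267520, 16929 of the Harada–Norton group (task 2519)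

As in `H492.IMHN`.
-/

set_option autoImplicit false
set_option linter.style.longLine false

namespace Cfsg.Agent.H669.Dl.HN

open Cfsg Cfsg.Agent.HN Cfsg.Agent.HN.Pres Cfsg.Agent.HN.DCover Cfsg.Agent.HN.NormalH Cfsg.Agent.HN.DSem
open Cfsg.Agent.HN.Index Cfsg.Agent.H492.IMSph Cfsg.Agent.H33 Cfsg.Agent.H492.IMHN

/-- the eigenvector for the eigenvalue `-47` -/
def vC : Fin 9 → ℚ := ![1, -47/1408, -1/44, 5/704, 1/352, -1/704, 0, 0, 0]

theorem uC (x : Fin 9 → ℂ) (h : ∀ i, ∑ j, (kk i j : ℂ) * x j = ((-47 : ℚ) : ℂ) * x i) (i : Fin 9) :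
    x i = x 0 * ((vC i : ℚ) : ℂ) := by
  have e := rows x (-47) (by push_cast at h ⊢; exact h)
  obtain ⟨h0, h1, h2, h3, h4, h5, h6, h7, h8⟩ := e
  unfold vC
  fin_cases i
  · show x 0 = x 0 * (((1 : ℚ)) : ℂ)
    simp
  · show x 1 = x 0 * (((-47/1408 : ℚ)) : ℂ)
    push_cast
    linear_combination (1/1408) * h0
  · show x 2 = x 0 * (((-1/44 : ℚ)) : ℂ)
    push_cast
    linear_combination (3021671/2079817740) * h0 + (-2153408/47268585) * h1 + (-392729/47268585) * h2 + (827744/9453717) * h3 + (289376/964665) * h4 + (-3424/64311) * h6 + (6848/2250885) * h7 + (-1792/6305) * h8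
  · show x 3 = x 0 * (((5/704 : ℚ)) : ℂ)
    push_cast
    linear_combination (-61642703/166385419200) * h0 + (2436779/236342925) * h1 + (12248/9453717) * h2 + (-4668211/236342925) * h3 + (-235526/4823325) * h4 + (464/18915) * h6 + (-928/662025) * h7 + (18704/535925) * h8
  · show x 4 = x 0 * (((1/352 : ℚ)) : ℂ)
    push_cast
    linear_combination (-60715157/582348967200) * h0 + (3406852/1654400475) * h1 + (492788/330880095) * h2 + (-4910648/1654400475) * h3 + (-450403/33763275) * h4 + (-7816/2250885) * h6 + (15632/78780975) * h7 + (9016/535925) * h8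
  · show x 5 = x 0 * (((-1/704 : ℚ)) : ℂ)
    push_cast
    linear_combination (16511503/139763752128) * h0 + (-6562643/1588224456) * h1 + (-63845/46712484) * h2 + (8743649/794112228) * h3 + (374419/16206372) * h4 + (-19190/1350531) * h6 + (7676/9453717) * h7 + (-314/21437) * h8
  · show x 6 = x 0 * (((0 : ℚ)) : ℂ)
    push_cast
    linear_combination (-1919/141805755) * h0 + (90193/141805755) * h1 + (14696/28361151) * h2 + (-314102/141805755) * h3 + (-15382/2893995) * h4 + (1163/192933) * h6 + (-2326/6752655) * h7 + (448/321555) * h8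
  · show x 7 = x 0 * (((0 : ℚ)) : ℂ)
    push_cast
    linear_combination (491264/4963201425) * h0 + (-23089408/4963201425) * h1 + (-3762176/992640285) * h2 + (80410112/4963201425) * h3 + (3937792/101289825) * h4 + (-297728/6752655) * h6 + (1945987/236342925) * h7 + (-16384/1607775) * h8
  · show x 8 = x 0 * (((0 : ℚ)) : ℂ)
    push_cast
    linear_combination (-1256/33763275) * h0 + (59032/33763275) * h1 + (-2672/6752655) * h2 + (-164368/33763275) * h3 + (-8912/1607775) * h4 + (3584/964665) * h6 + (-1024/4823325) * h7 + (10097/1607775) * h8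

theorem eigC (i : Fin 9) : ∑ j, (kk i j : ℚ) * vC j = -47 * vC i := by
  revert i; decide +kernel

theorem normC : (∑ i, (ss i : ℚ) * vC i ^ 2 : ℚ) = 1539000 / 214016 := by decide +kernel

/-- an irreducible character of degree 214016 -/
theorem exists_214016 : ∃ χ : IrrCharacter Cfsg.Spor.HN, (χ : Cfsg.Spor.HN → ℂ) 1 = (214016 : ℕ) := by
  obtain ⟨χ, hχ⟩ := main vC (-47) rfl eigC uC
  refine ⟨χ, ?_⟩
  rw [normC] at hχ
  push_cast at hχ ⊢
  linear_combination (214016 / 1539000 : ℂ) * hχ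

/-- the eigenvector for the eigenvalue `28` -/
def vD : Fin 9 → ℚ := ![1, 7/352, -1/44, -1/704, -1/1232, 1/896, -5/4928, 1/77, 1/616]

theorem uD (x : Fin 9 → ℂ) (h : ∀ i, ∑ j, (kk i j : ℂ) * x j = ((28 : ℚ) : ℂ) * x i) (i : Fin 9) :
    x i = x 0 * ((vD i : ℚ) : ℂ) := by
  have e := rows x (28) (by push_cast at h ⊢; exact h)
  obtain ⟨h0, h1, h2, h3, h4, h5, h6, h7, h8⟩ := e
  unfold vD
  fin_cases i
  · show x 0 = x 0 * (((1 : ℚ)) : ℂ)
    simp
  · show x 1 = x 0 * (((7/352 : ℚ)) : ℂ)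
    push_cast
    linear_combination (1/1408) * h0
  · show x 2 = x 0 * (((-1/44 : ℚ)) : ℂ)
    push_cast
    linear_combination (-75083/68310000) * h0 + (-3124/388125) * h1 + (-331/62100) * h2 + (38/621) * h3 + (2338/15525) * h4 + (4648/43125) * h5 + (-70/207) * h6 + (7/207) * h7
  · show x 3 = x 0 * (((-1/704 : ℚ)) : ℂ)
    push_cast
    linear_combination (95033/5464800000) * h0 + (7403/3881250) * h1 + (-149/310500) * h2 + (-131/31050) * h3 + (-1897/310500) * h4 + (4697/215625) * h5 + (-14/1035) * h6 + (7/5175) * h7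
  · show x 4 = x 0 * (((-1/1232 : ℚ)) : ℂ)
    push_cast
    linear_combination (-134999/9563400000) * h0 + (5657/13584375) * h1 + (3113/2173500) * h2 + (-59/108675) * h3 + (-173/310500) * h4 + (-2627/215625) * h5 + (14/1035) * h6 + (-7/5175) * h7
  · show x 5 = x 0 * (((1/896 : ℚ)) : ℂ)
    push_cast
    linear_combination (18943/278208000) * h0 + (859/1086750) * h1 + (-13/347760) * h2 + (-67/34776) * h3 + (-113/12420) * h4 + (-187/8625) * h5 + (5/138) * h6 + (-1/276) * h7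
  · show x 6 = x 0 * (((-5/4928 : ℚ)) : ℂ)
    push_cast
    linear_combination (-1522421/22952160000) * h0 + (-6868/8150625) * h1 + (-187/1304100) * h2 + (859/260820) * h3 + (1327/186300) * h4 + (2023/129375) * h5 + (-67/2484) * h6 + (67/24840) * h7
  · show x 7 = x 0 * (((1/77 : ℚ)) : ℂ)
    push_cast
    linear_combination (1522421/1793137500) * h0 + (439552/40753125) * h1 + (2992/1630125) * h2 + (-13744/326025) * h3 + (-21232/232875) * h4 + (-129472/646875) * h5 + (1072/3105) * h6 + (-1523/62100) * h7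
  · show x 8 = x 0 * (((1/616 : ℚ)) : ℂ)
    push_cast
    linear_combination (1142041/14345100000) * h0 + (49373/81506250) * h1 + (-359/6520500) * h2 + (-6487/1304100) * h3 + (-2393/465750) * h4 + (-9953/1293750) * h5 + (247/12420) * h6 + (-247/124200) * h7

theorem eigD (i : Fin 9) : ∑ j, (kk i j : ℚ) * vD j = 28 * vD i := by
  revert i; decide +kernel

theorem normD : (∑ i, (ss i : ℚ) * vD i ^ 2 : ℚ) = 1539000 / 267520 := by decide +kernel

/-- an irreducible character of degree 267520 -/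
theorem exists_267520 : ∃ χ : IrrCharacter Cfsg.Spor.HN, (χ : Cfsg.Spor.HN → ℂ) 1 = (267520 : ℕ) := by
  obtain ⟨χ, hχ⟩ := main vD (28) rfl eigD uD
  refine ⟨χ, ?_⟩
  rw [normD] at hχ
  push_cast at hχ ⊢
  linear_combination (267520 / 1539000 : ℂ) * hχ

/-- the eigenvector for the eigenvalue `128` -/
def vE : Fin 9 → ℚ := ![1, 1/11, 1/11, 0, 1/77, -1/154, 0, 5/77, 0]

theorem uE (x : Fin 9 → ℂ) (h : ∀ i, ∑ j, (kk i j : ℂ) * x j = ((128 : ℚ) : ℂ) * x i) (i : Fin 9) :
    x i = x 0 * ((vE i : ℚ) : ℂ) := by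
  have e := rows x (128) (by push_cast at h ⊢; exact h)
  obtain ⟨h0, h1, h2, h3, h4, h5, h6, h7, h8⟩ := e
  unfold vE
  fin_cases i
  · show x 0 = x 0 * (((1 : ℚ)) : ℂ)
    simp
  · show x 1 = x 0 * (((1/11 : ℚ)) : ℂ)
    push_cast
    linear_combination (1/1408) * h0
  · show x 2 = x 0 * (((1/11 : ℚ)) : ℂ)
    push_cast
    linear_combination (2669/3696000) * h0 + (4/2625) * h1 + (-67/6720) * h2 + (-11/420) * h3 + (-1/40) * h4 + (-3/500) * h5 + (21/320) * h8
  · show x 3 = x 0 * (((0 : ℚ)) : ℂ)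
    push_cast
    linear_combination (173/16800000) * h0 + (173/131250) * h1 + (71/168000) * h2 + (13/4200) * h3 + (-3/2000) * h4 + (33/3125) * h5 + (-21/1600) * h8
  · show x 4 = x 0 * (((1/77 : ℚ)) : ℂ)
    push_cast
    linear_combination (34061/323400000) * h0 + (227/459375) * h1 + (-17/1176000) * h2 + (-151/29400) * h3 + (-19/14000) * h4 + (-141/21875) * h5 + (21/1600) * h8
  · show x 5 = x 0 * (((-1/154 : ℚ)) : ℂ)
    push_cast
    linear_combination (-4997/103488000) * h0 + (23/73500) * h1 + (39/62720) * h2 + (1/294) * h3 + (1/210) * h4 + (-61/14000) * h5 + (-1/256) * h8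
  · show x 6 = x 0 * (((0 : ℚ)) : ℂ)
    push_cast
    linear_combination (-1/480000) * h0 + (-1/3750) * h1 + (-1/2400) * h2 + (-1/300) * h4 + (3/625) * h5
  · show x 7 = x 0 * (((5/77 : ℚ)) : ℂ)
    push_cast
    linear_combination (79801/161700000) * h0 + (-811/459375) * h1 + (-437/98000) * h2 + (-173/7350) * h3 + (-139/2625) * h4 + (-537/21875) * h5 + (1/10) * h6 + (3/400) * h8
  · show x 8 = x 0 * (((0 : ℚ)) : ℂ)
    push_cast
    linear_combination (-1/2400000) * h0 + (-1/18750) * h1 + (7/16000) * h2 + (-1/600) * h3 + (31/6000) * h4 + (-101/25000) * h5 + (3/3200) * h8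

theorem eigE (i : Fin 9) : ∑ j, (kk i j : ℚ) * vE j = 128 * vE i := by
  revert i; decide +kernel

theorem normE : (∑ i, (ss i : ℚ) * vE i ^ 2 : ℚ) = 1539000 / 16929 := by decide +kernel

/-- an irreducible character of degree 16929 -/
theorem exists_16929 : ∃ χ : IrrCharacter Cfsg.Spor.HN, (χ : Cfsg.Spor.HN → ℂ) 1 = (16929 : ℕ) := by
  obtain ⟨χ, hχ⟩ := main vE (128) rfl eigE uE
  refine ⟨χ, ?_⟩
  rw [normE] at hχ
  push_cast at hχ ⊢
  linear_combination (16929 / 1539000 : ℂ) * hχ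

end Cfsg.Agent.H669.Dl.HN
end

-- part: H211/Dl/ThetaRgd
section
prune_inst 0x54701f705cc0020000180504e0005e06ba00000210488000186204000c8ede60294128215400191612388440083500081210008040000000040404000025040190e05680f3c9e11da6001981308b780c00008000000000000000000000041004010400000
set_option linter.all false
open scoped Cfsg.Agent.FastGrp

-- part: H211/Dl/Weyl
section
/-!
# The permutation characters of the parabolic subgroups of a Weyl group (for S4769)

* `coord` : `W_J` changes only the coordinates in `J`;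
* `card_le` : if a product of the simple reflections of `K` is conjugate to an element of `W_J`, then `|K| ≤ |J|`;
* `fixW`, `indep` : the functions `∑_{|J| = j} 1_{W_J}^W`, `0 ≤ j ≤ |I|`, are linearly independent.
-/

set_option autoImplicit false
set_option linter.unusedSectionVars false
set_option linter.style.haveILetI false

namespace Cfsg.Agent.H211.Dl

open CoxeterSystem Cfsg.Agent.ChevalleyStructure.CoxeterGeom Cfsg.Agent.Tits.Roots Cfsg.Agent.Tits.Core
  Cfsg.Agent.Tits.Exchange Cfsg.Agent.Nodes.Reps Cfsg.Agent.Nodes.BNOf Cfsg.Agent.Nodes.StabComb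
  Cfsg.Agent.Nodes.Bruhat Cfsg.Agent.Nodes.OppDec Cfsg.Agent.Nodes.LeviDec

variable {I W : Type*} [Fintype I] [DecidableEq I] [Group W] {M : CoxeterMatrix I}
  {cs : CoxeterSystem M W} {A : I → I → ℤ} {h : IsCartan M A}

/-- `W_J` changes only the coordinates in `J`. -/
theorem coord {J : Set I} {w : W} (hw : w ∈ WJ cs J) (x : I → ℤ) {k : I} (hk : k ∉ J) :
    rep cs h w x k = x k := by
  obtain ⟨ω, hω, rfl⟩ := exists_word_of_mem_WJ cs hw
  clear hw
  induction ω with
  | nil => rw [wordProd_nil, map_one, Module.End.one_apply]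
  | cons i ω ih =>
    rw [wordProd_cons, rep_mul_apply, rep_simple_apply cs h i _ k
      (by rintro rfl; exact hk (hω _ (by simp)))]
    exact ih fun j hj => hω j (by simp [hj])

include h in
theorem mem_of_simple_mem {J : Set I} {k : I} (hk : cs.simple k ∈ WJ cs J) : k ∈ J := by
  by_contra hcon
  have h1 := coord (h := h) hk (sr k) hcon
  rw [rep_simple_sr, Pi.neg_apply, sr_self] at h1
  exact absurd h1 (by decide)

/-- The product of the simple reflections of a list. -/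
theorem wordProd_mem {J : Set I} {ω : List I} (hω : ∀ i ∈ ω, i ∈ J) : cs.wordProd ω ∈ WJ cs J := by
  induction ω with
  | nil => rw [wordProd_nil]; exact one_mem _
  | cons i ω ih =>
    rw [wordProd_cons]
    exact mul_mem (simple_mem_WJ cs (hω i (by simp))) (ih fun j hj => hω j (by simp [hj]))

/-- A vector fixed by the product of the reflections of a list without repetitions is fixed by each of them. -/
theorem pairing_eq_zero {x : I → ℤ} : ∀ {ω : List I}, ω.Nodup → rep cs h (cs.wordProd ω) x = x →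
    ∀ k ∈ ω, pairing A k x = 0
  | [], _, _ => by simp
  | i :: ω, hnd, hx => by
    rw [List.nodup_cons] at hnd
    have h1 : rep cs h (cs.wordProd ω) x = rep cs h (cs.simple i) x := by
      rw [wordProd_cons, rep_mul_apply] at hx
      have h2 := congrArg (rep cs h (cs.simple i)) hx
      rw [← rep_mul_apply, simple_mul_simple_self, map_one, Module.End.one_apply] at h2
      exact h2
    have h2 : pairing A i x = 0 := by
      have h3 := congrFun h1 i
      rw [coord (h := h) (wordProd_mem (cs := cs) (J := {j | j ∈ ω}) (fun j hj => hj)) x hnd.1,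
        rep_simple_apply_self] at h3
      omega
    have h3 : rep cs h (cs.wordProd ω) x = x := by
      rw [h1, rep_simple_eq, h2, zero_smul, sub_zero]
    intro k hk
    rcases List.mem_cons.1 hk with rfl | hk
    · exact h2
    · exact pairing_eq_zero hnd.2 h3 k hk

/-- A vector in the span of the simple roots of `K` orthogonal to all of them is zero. -/
theorem eq_zero_of_pairing [Finite W] (cs : CoxeterSystem M W) (h : IsCartan M A) {K : Set I} {x : I → ℤ}
    (hx : ∀ k, k ∉ K → x k = 0) (h0 : ∀ k ∈ K, pairing A k x = 0) : x = 0 := by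
  haveI : Fintype W := Fintype.ofFinite W
  by_contra hne
  have h1 := form_pos cs h hne
  rw [form_eq_sum] at h1
  refine h1.ne' (Finset.sum_eq_zero fun k _ => ?_)
  by_cases hk : k ∈ K
  · have h2 := two_form cs h k x
    rw [h0 k hk, zero_mul] at h2
    have h3 : form cs h x (sr k) = 0 := by omega
    rw [h3, mul_zero]
  · rw [hx k hk, zero_mul]

/-- Extension by zero. -/
noncomputable def ext0 (K : Finset I) : (K → ℤ) →ₗ[ℤ] (I → ℤ) where
  toFun y := fun k => if hk : k ∈ K then y ⟨k, hk⟩ else 0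
  map_add' y z := by
    funext k
    rw [Pi.add_apply]
    split_ifs <;> simp
  map_smul' c y := by
    funext k
    rw [Pi.smul_apply]
    split_ifs <;> simp

theorem ext0_apply_mem {K : Finset I} (y : K → ℤ) {k : I} (hk : k ∈ K) : ext0 K y k = y ⟨k, hk⟩ := dif_pos hk

theorem ext0_apply_notMem {K : Finset I} (y : K → ℤ) {k : I} (hk : k ∉ K) : ext0 K y k = 0 := dif_neg hk

include h in
/-- **The rank.** If the product of the simple reflections of `K` is conjugate to an element of `W_J` then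
`|K| ≤ |J|`. -/
theorem card_le [Finite W] {J K : Finset I} {v : W} (hv : v⁻¹ * cs.wordProd K.toList * v ∈ WJ cs (J : Set I)) :
    K.card ≤ J.card := by
  let f : (K → ℤ) →ₗ[ℤ] (J → ℤ) :=
    (LinearMap.funLeft ℤ ℤ (fun j : J => (j : I))).comp
      ((rep cs h v⁻¹ : (I → ℤ) →ₗ[ℤ] (I → ℤ)).comp
        ((rep cs h (cs.wordProd K.toList) - LinearMap.id : (I → ℤ) →ₗ[ℤ] (I → ℤ)).comp (ext0 K)))
  have hf : ∀ y (j : J), f y j =
      rep cs h v⁻¹ (rep cs h (cs.wordProd K.toList) (ext0 K y) - ext0 K y) j := fun y j => rfl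
  have hinj : Function.Injective f := by
    rw [← LinearMap.ker_eq_bot, LinearMap.ker_eq_bot']
    intro y hy
    set x := ext0 K y with hx
    -- `v⁻¹ (c x - x)` is supported on `J`
    have h1 : rep cs h v⁻¹ (rep cs h (cs.wordProd K.toList) x - x) =
        rep cs h (v⁻¹ * cs.wordProd K.toList * v) (rep cs h v⁻¹ x) - rep cs h v⁻¹ x := by
      rw [map_sub, ← rep_mul_apply, ← rep_mul_apply]
      congr 3
      group
    have h2 : rep cs h v⁻¹ (rep cs h (cs.wordProd K.toList) x - x) = 0 := by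
      funext j
      by_cases hj : j ∈ J
      · have h3 := congrFun hy ⟨j, hj⟩
        rw [hf] at h3
        exact h3
      · rw [h1, Pi.sub_apply, coord (h := h) hv _ (by simpa using hj), sub_self]
        rfl
    have h3 : rep cs h (cs.wordProd K.toList) x - x = 0 := by
      have h4 := congrArg (rep cs h v) h2
      rwa [rep_apply_inv, map_zero] at h4
    have h4 := pairing_eq_zero (cs := cs) (h := h) K.nodup_toList (sub_eq_zero.1 h3)
    have h5 : x = 0 := eq_zero_of_pairing cs h (K := (K : Set I)) (fun k hk => ext0_apply_notMem y (by simpa using hk))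
      fun k hk => h4 k (Finset.mem_toList.2 (by simpa using hk))
    funext k
    have h6 := congrFun h5 k
    rw [hx, ext0_apply_mem y k.2] at h6
    exact h6
  have h1 := card_le_of_injective ℤ f hinj
  rwa [Fintype.card_coe, Fintype.card_coe] at h1

/-! ### the functions `∑_{|J| = j} 1_{W_J}^W` -/

include h in
theorem fixN_cox_eq_zero [Finite W] {J K : Finset I} (hJK : J.card < K.card) :
    fixN (WJ cs (J : Set I)) (cs.wordProd K.toList) = 0 :=
  fixN_eq_zero fun _ hv => absurd (card_le (h := h) hv) (not_le.2 hJK)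

theorem fixN_cox_pos [Finite W] (K : Finset I) : 0 < fixN (WJ cs (K : Set I)) (cs.wordProd K.toList) :=
  fixN_pos_of_mem (wordProd_mem fun i hi => by simpa using hi)

include h in
/-- **Independence on the Weyl group.** -/
theorem eq_zero_of_relation [Finite W] (b : ℕ → ℂ)
    (hb : ∀ w : W, ∑ J : Finset I, b J.card * (fixN (WJ cs (J : Set I)) w : ℂ) = 0) :
    ∀ k ≤ Fintype.card I, b k = 0 := by
  classical
  have key : ∀ m k, k + m = Fintype.card I → b k = 0 := by
    intro m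
    induction m using Nat.strong_induction_on with
    | _ m ih =>
    intro k hk
    obtain ⟨K, -, hK⟩ := Finset.exists_subset_card_eq (s := (Finset.univ : Finset I)) (n := k)
      (by rw [Finset.card_univ]; omega)
    have h1 := hb (cs.wordProd K.toList)
    have h2 : ∀ J : Finset I, b J.card * (fixN (WJ cs (J : Set I)) (cs.wordProd K.toList) : ℂ) =
        b k * (if J.card = k then (fixN (WJ cs (J : Set I)) (cs.wordProd K.toList) : ℂ) else 0) := by
      intro J
      rcases lt_trichotomy J.card k with h3 | h3 | h3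
      · rw [fixN_cox_eq_zero (h := h) (by omega), if_neg h3.ne]
        simp
      · rw [if_pos h3, h3]
      · have h4 : J.card ≤ Fintype.card I := by
          rw [← Finset.card_univ]
          exact Finset.card_le_card (Finset.subset_univ J)
        rw [if_neg h3.ne', ih (Fintype.card I - J.card) (by omega) J.card (by omega)]
        simp
    rw [Finset.sum_congr rfl fun J _ => h2 J, ← Finset.mul_sum, mul_eq_zero] at h1
    refine h1.resolve_right ?_
    have h3 : (∑ J : Finset I, if J.card = k then (fixN (WJ cs (J : Set I)) (cs.wordProd K.toList) : ℂ) else 0) =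
        ((∑ J : Finset I, if J.card = k then fixN (WJ cs (J : Set I)) (cs.wordProd K.toList) else 0 : ℕ) : ℂ) := by
      push_cast
      rfl
    rw [h3, Nat.cast_eq_zero]
    refine (lt_of_lt_of_le (fixN_cox_pos (cs := cs) K) ?_).ne'
    refine le_trans (le_of_eq ?_) (Finset.single_le_sum (f := fun J : Finset I =>
      if J.card = k then fixN (WJ cs (J : Set I)) (cs.wordProd K.toList) else 0) (fun _ _ => Nat.zero_le _)
      (Finset.mem_univ K))
    rw [if_pos hK]
  exact fun k hk => key (Fintype.card I - k) k (by omega)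

end Cfsg.Agent.H211.Dl
end

-- part: H211/Dl/Mack
section
/-!
# Double cosets of parabolic subgroups (for S4769)

* `cell_mul` : `P_J (cell of w) ⊆ ⋃_{u ∈ W_J} (cell of u w)`;
* `orb_PJ` : `|P_J \ Y / P_K| = |W_J \ W / W_K|`;
* `relation` : the linear relations between the permutation characters on the cosets of the `P_J` hold for the
  permutation characters on the cosets of the `W_J`.
-/

set_option autoImplicit false
set_option linter.unusedSectionVars false
set_option linter.style.haveILetI false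

namespace Cfsg.Agent.H211.Dl

open CoxeterSystem Cfsg.Agent.ChevalleyStructure.CoxeterGeom Cfsg.Agent.Tits.Roots Cfsg.Agent.Tits.Core
  Cfsg.Agent.Tits.Exchange Cfsg.Agent.Nodes.Reps Cfsg.Agent.Nodes.BNOf Cfsg.Agent.Nodes.StabComb
  Cfsg.Agent.Nodes.Bruhat Cfsg.Agent.Nodes.OppDec Cfsg.Agent.Nodes.LeviDec

variable {I W Y : Type*} [Fintype I] [DecidableEq I] [Group W] [Group Y] {M : CoxeterMatrix I}
  {cs : CoxeterSystem M W} {A : I → I → ℤ} {h : IsCartan M A} {p : ℕ} {T : Subgroup Y} {n : I → Y}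
  {X : (I → ℤ) → Subgroup Y}

section

variable (R : RGD cs h p T n X)

include R

theorem cell_mul {J : Set I} {w : W} {g : Y} (hg : Cell R.nsys cs h X w g) {v : W} (hv : v ∈ WJ cs J) {a : Y}
    (ha : Cell R.nsys cs h X v a) : ∃ u ∈ WJ cs J, Cell R.nsys cs h X (u * w) (a * g) := by
  obtain ⟨ω, hω, rfl⟩ := exists_word_of_mem_WJ cs hv
  clear hv
  induction ω generalizing a with
  | nil =>
    rw [wordProd_nil] at ha
    exact ⟨1, one_mem _, by rw [one_mul]; exact hg.mul_left ha.mem_of_one⟩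
  | cons i ω ih =>
    have hω' : ∀ j ∈ ω, j ∈ J := fun j hj => hω j (by simp [hj])
    rw [wordProd_cons] at ha
    obtain ⟨b₁, hb₁, k, hk, b₂, hb₂, rfl⟩ := ha
    have h1 : Rp cs R.nsys (cs.wordProd ω) ((n i)⁻¹ * k) := by
      have := (rp_simple cs R.nsys i).inv.mul hk
      rwa [inv_mul_cancel_left] at this
    obtain ⟨u, hu, hc⟩ := ih hω' ((cell_of_rp h1).mul_right hb₂)
    have h2 : Cell R.nsys cs h X (cs.simple i) (b₁ * n i) := (cell_of_rp (rp_simple cs R.nsys i)).mul_left hb₁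
    have e : b₁ * k * b₂ * g = b₁ * n i * ((n i)⁻¹ * k * b₂ * g) := by group
    rw [e]
    rcases Cell.simple_mul R h2 hc with h3 | ⟨-, h3⟩
    · exact ⟨cs.simple i * u, mul_mem (simple_mem_WJ cs (hω i (by simp))) hu, by rwa [mul_assoc]⟩
    · exact ⟨u, hu, h3⟩

theorem cell_mul' {J : Set I} {w : W} {g : Y} (hg : Cell R.nsys cs h X w g) {v : W} (hv : v ∈ WJ cs J) {a : Y}
    (ha : Cell R.nsys cs h X v a) : ∃ u ∈ WJ cs J, Cell R.nsys cs h X (w * u) (g * a) := by
  obtain ⟨u, hu, hc⟩ := cell_mul R hg.inv (inv_mem hv) ha.inv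
  refine ⟨u⁻¹, inv_mem hu, ?_⟩
  have := hc.inv
  rwa [mul_inv_rev, mul_inv_rev, inv_inv, inv_inv, inv_inv] at this

/-- **Double cosets.** -/
theorem orb_PJ [Finite W] (hG : GG cs h T X = ⊤) (J K : Set I) :
    orb (PJ cs h T X J) (PJ cs h T X K) = orb (WJ cs J) (WJ cs K) := by
  choose k hk using fun w : W => exists_rp cs R.nsys w
  refine orb_eq k (fun w : W => w) ?_ ?_ ?_
  · intro g
    obtain ⟨w, b₁, hb₁, k', hk', b₂, hb₂, e⟩ := (mem_GG R).1 (show g ∈ GG cs h T X by rw [hG]; exact Subgroup.mem_top _)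
    refine ⟨w, b₁, B_le_PJ hb₁, (k w)⁻¹ * k' * b₂, mul_mem (B_le_PJ (RGD.T_le_B ((hk w).unique hk'))) (B_le_PJ hb₂), ?_⟩
    rw [e]
    group
  · intro g
    exact ⟨g, 1, one_mem _, 1, one_mem _, by group⟩
  · intro v w
    constructor
    · rintro ⟨a, ha, b, hb, e⟩
      obtain ⟨u, hu, hcu⟩ := (mem_PJ_iff_cell R).1 ha
      obtain ⟨x, hx, hcx⟩ := (mem_PJ_iff_cell R).1 hb
      obtain ⟨u', hu', h1⟩ := cell_mul R (cell_of_rp (X := X) (h := h) (hk v)) hu hcu
      obtain ⟨x', hx', h2⟩ := cell_mul' R h1 hx hcx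
      rw [← e] at h2
      exact ⟨u', hu', x', hx', Cell.unique R (cell_of_rp (hk w)) h2⟩
    · rintro ⟨a, ha, b, hb, e⟩
      obtain ⟨ka, hka⟩ := exists_rp cs R.nsys a
      obtain ⟨kb, hkb⟩ := exists_rp cs R.nsys b
      have h1 := (hka.mul (hk v)).mul hkb
      rw [← e] at h1
      refine ⟨ka, LJ_le_PJ (rp_mem_LJ R ha hka), kb * ((ka * k v * kb)⁻¹ * k w),
        mul_mem (LJ_le_PJ (rp_mem_LJ R hb hkb)) (B_le_PJ (RGD.T_le_B (h1.unique (hk w)))), ?_⟩
      group

/-- **Relations on `Y` give relations on `W`.** -/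
theorem relation [Finite W] [Finite Y] (hG : GG cs h T X = ⊤) (a : Finset I → ℂ)
    (ha : ∀ g : Y, ∑ J : Finset I, a J * (fixN (PJ cs h T X (J : Set I)) g : ℂ) = 0) (w : W) :
    ∑ J : Finset I, a J * (fixN (WJ cs (J : Set I)) w : ℂ) = 0 :=
  relation_iff (fun J : Finset I => PJ cs h T X (J : Set I)) (fun J : Finset I => WJ cs (J : Set I))
    (fun J K => orb_PJ R hG _ _) a ha w

end

end Cfsg.Agent.H211.Dl
end

-- part: H211/Dl/Theta
section
/-!
# `Aut`-invariant combinations of the permutation characters on the parabolic subgroups (S4769, DL-THETA)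

* `exists_perm_fixN` : an automorphism `σ` of `Y` induces a permutation `τ` of the nodes with
  `1_{P_τJ}^Y (σ g) = 1_{P_J}^Y (g)`;
* `many_rank_of` : `Many p Y (Fintype.card I)`;
* `many_classes_of` : `Many p Y 3` for rank two, `m_ij` even, if the automorphisms fix the classes of parabolic
  subgroups.
-/

set_option autoImplicit false
set_option linter.unusedSectionVars false
set_option linter.style.haveILetI false

open Cfsg

namespace Cfsg.Agent.H211.Dl

open CoxeterSystem Cfsg.Agent.ChevalleyStructure.CoxeterGeom Cfsg.Agent.Tits.Roots Cfsg.Agent.Tits.Core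
  Cfsg.Agent.Tits.Exchange Cfsg.Agent.Nodes.Reps Cfsg.Agent.Nodes.BNOf Cfsg.Agent.Nodes.StabComb
  Cfsg.Agent.Nodes.Bruhat Cfsg.Agent.Nodes.OppDec Cfsg.Agent.Nodes.LeviDec Cfsg.Agent.KFacts.RgdAut
  Cfsg.Agent.KFacts.RgdDiag
open Cfsg.Agent.Characters.Core Cfsg.Agent.H246.Dl

variable {I W Y : Type*} [Fintype I] [DecidableEq I] [Group W] [Group Y] {M : CoxeterMatrix I}
  {cs : CoxeterSystem M W} {A : I → I → ℤ} {h : IsCartan M A} {p : ℕ} {T : Subgroup Y} {n : I → Y}
  {X : (I → ℤ) → Subgroup Y}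

section

variable (R : RGD cs h p T n X)

include R

theorem exists_sylow_eq [Finite Y] [Fact p.Prime] [Finite W] (hG : GG cs h T X = ⊤) :
    ∃ P : Sylow p Y, (P : Subgroup Y) = RGD.Sup X (RGD.Pos cs h) := by
  have h1 := KFacts.RgdSyl.not_dvd_relIndex R
  rw [hG, Subgroup.relIndex_top_right] at h1
  exact ⟨R.isPGroup_Upos.toSylow h1, rfl⟩

/-- An automorphism composed with an inner one fixes `U`. -/
theorem exists_conj_fix [Finite Y] [Fact p.Prime] [Finite W] (hG : GG cs h T X = ⊤) (σ : MulAut Y) :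
    ∃ y : Y, Fix (MulAut.conj y * σ) (RGD.Sup X (RGD.Pos cs h)) := by
  obtain ⟨P, hP⟩ := exists_sylow_eq R hG
  obtain ⟨y, hy⟩ := MulAction.exists_smul_eq Y (σ • P) P
  refine ⟨y, ?_⟩
  have h1 : (MulAut.conj y * σ) • P = P := by
    rw [mul_smul]
    exact hy
  rw [← hP, fix_iff]
  exact congrArg (fun P : Sylow p Y => (P : Subgroup Y)) h1

/-- An automorphism fixing `B` permutes the parabolic subgroups. -/
theorem exists_perm_PJ [Finite W] (hG : GG cs h T X = ⊤) {β : MulAut Y} (hB : Fix β (RGD.B cs h T X)) :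
    ∃ τ : Equiv.Perm I, ∀ (J : Set I) x, β x ∈ PJ cs h T X (τ '' J) ↔ x ∈ PJ cs h T X J := by
  obtain ⟨τ, hτ⟩ := exists_perm R hG hB
  refine ⟨τ, fun J x => ?_⟩
  obtain ⟨P, hP⟩ : ∃ P : Subgroup Y, ∀ x, x ∈ P ↔ β x ∈ PJ cs h T X (τ '' J) :=
    ⟨(PJ cs h T X (τ '' J)).comap β.toMonoidHom, fun x => Iff.rfl⟩
  have hPB : RGD.B cs h T X ≤ P := fun x hx => (hP x).2 (B_le_PJ ((hB x).2 hx))
  have h1 := inf_eq_PJ R hPB
  rw [hG, inf_top_eq] at h1
  have h2 : {i | n i ∈ P} = J := by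
    ext i
    change n i ∈ P ↔ i ∈ J
    rw [hP]
    have h3 : β (n i) ∈ PJ cs h T X {τ i} := (hτ i _).2 (LJ_le_PJ (n_mem_LJ R rfl))
    obtain ⟨w, hw, hc⟩ := (mem_PJ_iff_cell R).1 h3
    rcases mem_WJ_singleton hw with rfl | rfl
    · exfalso
      have h6 : n i ∈ RGD.B cs h T X := (hB _).1 hc.mem_of_one
      exact simple_ne_one i (R.eq_one_of_mem_B (rp_simple cs R.nsys i) h6)
    · rw [cell_mem_PJ_iff R hc]
      constructor
      · intro h4
        obtain ⟨j, hj, e⟩ := mem_of_simple_mem (h := h) h4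
        rwa [← τ.injective e]
      · intro hi
        exact simple_mem_WJ cs ⟨i, hi, rfl⟩
  rw [← hP, h1, h2]

/-- **Automorphisms permute the permutation characters.** -/
theorem exists_perm_fixN [Finite Y] [Fact p.Prime] [Finite W] (hG : GG cs h T X = ⊤) (σ : Y ≃* Y) :
    ∃ τ : Equiv.Perm I, ∀ (J : Set I) (g : Y),
      fixN (PJ cs h T X (τ '' J)) (σ g) = fixN (PJ cs h T X J) g := by
  obtain ⟨y, hy⟩ := exists_conj_fix R hG σ
  obtain ⟨τ, hτ⟩ := exists_perm_PJ R hG (fix_B R hG hy)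
  refine ⟨τ, fun J g => ?_⟩
  have h1 := fixN_map (MulAut.conj y * σ) (hτ J) g
  rw [← h1, MulAut.mul_apply, MulAut.conj_apply, fixN_conj]

end

/-! ### the functions `Θ_j` -/

/-- `Θ_j = ∑_{|J| = j} 1_{P_J}^Y`. -/
noncomputable def Th (cs : CoxeterSystem M W) (h : IsCartan M A) (T : Subgroup Y) (X : (I → ℤ) → Subgroup Y) (j : ℕ)
    (g : Y) : ℂ := ∑ J : Finset I, if J.card = j then (fixN (PJ cs h T X (J : Set I)) g : ℂ) else 0

section

variable (R : RGD cs h p T n X)

include R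

theorem Th_aut [Finite Y] [Fact p.Prime] [Finite W] (hG : GG cs h T X = ⊤) (j : ℕ) (σ : Y ≃* Y) (g : Y) :
    Th cs h T X j (σ g) = Th cs h T X j g := by
  obtain ⟨τ, hτ⟩ := exists_perm_fixN R hG σ
  unfold Th
  symm
  refine Fintype.sum_equiv (Equiv.finsetCongr τ) _ _ fun J => ?_
  have h1 : (Equiv.finsetCongr τ J).card = J.card := Finset.card_map _
  have h2 : ((Equiv.finsetCongr τ J : Finset I) : Set I) = τ '' (J : Set I) := by
    rw [Equiv.finsetCongr_apply, Finset.coe_map]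
    rfl
  rw [h1, h2, hτ]

omit R in
theorem Th_conj [Finite Y] (j : ℕ) : IsClassFunction Y (Th cs h T X j) := by
  intro g x
  unfold Th
  refine Finset.sum_congr rfl fun J _ => ?_
  rw [fixN_conj]

omit R in
theorem PJ_univ (hG : GG cs h T X = ⊤) : PJ cs h T X (Set.univ : Set I) = ⊤ := by
  rw [eq_top_iff, ← hG, ← LJ_univ]
  exact LJ_le_PJ

omit R in
theorem Th_card (hG : GG cs h T X = ⊤) (g : Y) : Th cs h T X (Fintype.card I) g = 1 := by
  unfold Th
  rw [Finset.sum_eq_single (Finset.univ : Finset I)]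
  · rw [if_pos Finset.card_univ, Finset.coe_univ, PJ_univ hG]
    have h1 : fixN (⊤ : Subgroup Y) g = 1 := by
      unfold fixN
      rw [Nat.card_eq_one_iff_unique]
      haveI : Subsingleton (Y ⧸ (⊤ : Subgroup Y)) := QuotientGroup.subsingleton_quotient_top
      refine ⟨inferInstance, ⟨⟨((1 : Y) : Y ⧸ (⊤ : Subgroup Y)), ?_⟩⟩⟩
      rw [MulAction.mem_fixedBy]
      exact Subsingleton.elim _ _
    rw [h1, Nat.cast_one]
  · intro J _ hJ
    rw [if_neg]
    intro h1
    exact hJ (Finset.card_eq_iff_eq_univ _ |>.1 h1)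
  · intro h1
    exact absurd (Finset.mem_univ _) h1

/-- **Independence.** -/
theorem Th_indep [Finite Y] [Finite W] (hG : GG cs h T X = ⊤) (b : ℕ → ℂ)
    (hb : ∀ g : Y, ∑ j ∈ Finset.range (Fintype.card I + 1), b j * Th cs h T X j g = 0) :
    ∀ k ≤ Fintype.card I, b k = 0 := by
  refine eq_zero_of_relation (cs := cs) (h := h) b (relation R hG (fun J => b J.card) fun g => ?_)
  have h1 := hb g
  unfold Th at h1
  simp only [Finset.mul_sum] at h1
  rw [Finset.sum_comm] at h1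
  rw [← h1]
  refine Finset.sum_congr rfl fun J _ => ?_
  rw [Finset.sum_eq_single J.card]
  · rw [if_pos rfl]
  · intro j _ hj
    rw [if_neg hj.symm, mul_zero]
  · intro h2
    exfalso
    apply h2
    rw [Finset.mem_range, Nat.lt_succ_iff, ← Finset.card_univ]
    exact Finset.card_le_card (Finset.subset_univ J)

/-- Constituents. -/
theorem dvd_of_fixN [Finite Y] [Fintype Y]
    (hPS : ∀ χ : Y → ℂ, IsIrrCharacter Y χ → χ ≠ 1 → ∑ᶠ b : RGD.B cs h T X, χ b ≠ 0 → p ∣ charDegree χ)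
    {χ : Y → ℂ} (hχ : IsIrrCharacter Y χ) (h1 : χ ≠ 1) (J : Set I)
    (hin : classInner (fun g : Y => (fixN (PJ cs h T X J) g : ℂ)) χ ≠ 0) : p ∣ charDegree χ :=
  hPS χ hχ h1 (sum_ne_zero_of_le (isIrr_isCharacter hχ) B_le_PJ
    (sum_ne_zero_of_classInner (isIrr_isClassFunction hχ) hin))

/-- **`Many` from the rank.** -/
theorem many_rank_of [Finite Y] [Fact p.Prime] [Finite W] (hG : GG cs h T X = ⊤)
    (hPS : ∀ χ : Y → ℂ, IsIrrCharacter Y χ → χ ≠ 1 → ∑ᶠ b : RGD.B cs h T X, χ b ≠ 0 → p ∣ charDegree χ) :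
    Many p Y (Fintype.card I) := by
  classical
  haveI := Fintype.ofFinite Y
  -- the number of subsets with `j` elements
  let N : ℕ → ℂ := fun j => ∑ J : Finset I, if J.card = j then 1 else 0
  refine H454.DlCrit.Many.of_indep (fun j : Fin (Fintype.card I) => fun g => Th cs h T X j g - N j) ?_ ?_ ?_ ?_
  · rw [Fintype.linearIndependent_iff]
    intro b hb i
    -- the coefficients of the `Θ_j`
    let b' : ℕ → ℂ := fun j => if hj : j < Fintype.card I then b ⟨j, hj⟩ else - ∑ i, b i * N i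
    have h1 := Th_indep R hG b' (fun g => by
      have h2 := congrFun hb g
      rw [Finset.sum_apply] at h2
      simp only [Pi.smul_apply, smul_eq_mul, mul_sub, Finset.sum_sub_distrib] at h2
      rw [Finset.sum_range_succ, Th_card hG, mul_one]
      have h3 : b' (Fintype.card I) = - ∑ i, b i * N i := dif_neg (lt_irrefl _)
      have h4 : ∑ j ∈ Finset.range (Fintype.card I), b' j * Th cs h T X j g =
          ∑ j : Fin (Fintype.card I), b j * Th cs h T X j g := by
        rw [Finset.sum_range]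
        refine Finset.sum_congr rfl fun j _ => ?_
        have : b' (j : ℕ) = b j := dif_pos j.2
        rw [this]
      rw [h3, h4, ← sub_eq_add_neg]
      exact h2) i i.2.le
    have h2 : b' (i : ℕ) = b i := dif_pos i.2
    rwa [h2] at h1
  · intro j g x
    change Th cs h T X j _ - N j = Th cs h T X j _ - N j
    rw [Th_conj]
  · intro j σ g
    rw [Th_aut R hG]
  · intro j χ hin
    -- the function is a combination of the permutation characters and `1`
    have h1 : (fun g : Y => Th cs h T X j g - N j) = ∑ J : Finset I,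
        (if J.card = j then (1 : ℂ) else 0) • ((fun g : Y => (fixN (PJ cs h T X (J : Set I)) g : ℂ)) - 1) := by
      funext g
      rw [Finset.sum_apply]
      unfold Th
      rw [← Finset.sum_sub_distrib]
      refine Finset.sum_congr rfl fun J _ => ?_
      rw [Pi.smul_apply, Pi.sub_apply, Pi.one_apply, smul_eq_mul]
      split_ifs <;> simp
    by_cases hχ1 : (χ : Y → ℂ) = 1
    · exfalso
      apply hin
      rw [h1, hχ1, classInner_sum_left]
      refine Finset.sum_eq_zero fun J _ => ?_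
      rw [classInner_smul_left, classInner_sub_left, classInner_fixN_one, classInner_irr_self isIrr_one, sub_self,
        mul_zero]
    · rw [h1, classInner_sum_left] at hin
      obtain ⟨J, -, hJ⟩ := Finset.exists_ne_zero_of_sum_ne_zero hin
      rw [classInner_smul_left, classInner_sub_left, classInner_irr_ne isIrr_one χ.2 (Ne.symm hχ1), sub_zero] at hJ
      exact dvd_of_fixN R hPS χ.2 hχ1 _ (right_ne_zero_of_mul hJ)

/-- **Automorphisms fixing the classes of parabolic subgroups.** -/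
theorem fixN_aut_of (hτ : ∀ α : MulAut Y, ∀ J : Set I, ∃ g : Y,
      (PJ cs h T X J).map α.toMonoidHom = (PJ cs h T X J).map (MulAut.conj g).toMonoidHom)
    (J : Set I) (σ : Y ≃* Y) (g : Y) : fixN (PJ cs h T X J) (σ g) = fixN (PJ cs h T X J) g := by
  obtain ⟨y, hy⟩ := hτ σ J
  have h1 : ∀ x, ((MulAut.conj y)⁻¹ * σ : MulAut Y) x ∈ PJ cs h T X J ↔ x ∈ PJ cs h T X J := by
    intro x
    have h2 : ∀ z : Y, z ∈ (PJ cs h T X J).map (MulAut.conj y).toMonoidHom ↔ (MulAut.conj y)⁻¹ z ∈ PJ cs h T X J := by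
      intro z
      constructor
      · rintro ⟨u, hu, rfl⟩
        change (MulAut.conj y)⁻¹ (MulAut.conj y u) ∈ _
        rw [MulAut.inv_apply_self]
        exact hu
      · intro hz
        exact ⟨_, hz, MulAut.apply_inv_self _ (MulAut.conj y) z⟩
    rw [MulAut.mul_apply, ← h2, ← hy]
    constructor
    · rintro ⟨u, hu, e⟩
      have : u = x := σ.injective e
      rwa [← this]
    · intro hx
      exact ⟨x, hx, rfl⟩
  have h3 := fixN_map ((MulAut.conj y)⁻¹ * σ : MulAut Y) h1 g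
  rw [← h3, MulAut.mul_apply, ← map_inv, MulAut.conj_apply, fixN_conj]

omit R in
/-- If all `m_ij` are even, simple reflections of different nodes are not conjugate. -/
theorem fixN_simple_eq_zero [Finite W] (heven : ∀ k l, k ≠ l → Even (M k l)) {i j : I} (hij : i ≠ j) :
    fixN (WJ cs ({j} : Set I)) (cs.simple i) = 0 := by
  classical
  apply fixN_eq_zero
  intro v hv
  let f : I → ℤˣ := fun k => if k = i then -1 else 1
  have hf : M.IsLiftable f := by
    intro k l
    by_cases hkl : k = l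
    · subst hkl
      rw [M.diagonal, pow_one]
      exact Int.units_mul_self _
    · obtain ⟨m, hm⟩ := heven k l hkl
      rw [hm, ← two_mul, pow_mul, sq, Int.units_mul_self, one_pow]
  let φ := cs.lift ⟨f, hf⟩
  have hφ : ∀ k, φ (cs.simple k) = f k := fun k => cs.lift_apply_simple hf k
  rcases mem_WJ_singleton hv with h1 | h1
  · have h2 : cs.simple i = 1 := by
      have : cs.simple i = v * (v⁻¹ * cs.simple i * v) * v⁻¹ := by group
      rw [this, h1]
      group
    exact simple_ne_one i h2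
  · have h2 := congrArg φ h1
    rw [map_mul, map_mul, map_inv, hφ, hφ, mul_comm, ← mul_assoc, mul_inv_cancel, one_mul] at h2
    have h3 : f i = -1 := if_pos rfl
    have h4 : f j = 1 := if_neg hij.symm
    rw [h3, h4] at h2
    exact absurd h2 (by decide)

/-- **`Many p Y 3` in rank two.** -/
theorem many_classes_of [Finite Y] [Fact p.Prime] [Finite W] (hG : GG cs h T X = ⊤)
    (hPS : ∀ χ : Y → ℂ, IsIrrCharacter Y χ → χ ≠ 1 → ∑ᶠ b : RGD.B cs h T X, χ b ≠ 0 → p ∣ charDegree χ)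
    (heven : ∀ k l, k ≠ l → Even (M k l)) {i j : I} (hij : i ≠ j)
    (hτ : ∀ α : MulAut Y, ∀ J : Set I, ∃ g : Y,
      (PJ cs h T X J).map α.toMonoidHom = (PJ cs h T X J).map (MulAut.conj g).toMonoidHom) :
    Many p Y 3 := by
  classical
  haveI := Fintype.ofFinite Y
  let Js : Fin 3 → Set I := ![∅, {i}, {j}]
  refine H454.DlCrit.Many.of_indep (fun k : Fin 3 => (fun g : Y => (fixN (PJ cs h T X (Js k)) g : ℂ)) - 1) ?_ ?_ ?_ ?_
  · rw [Fintype.linearIndependent_iff]
    intro b hb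
    let Kf : Fin 4 → Finset I := ![∅, {i}, {j}, Finset.univ]
    have h1 := relation_iff (fun k : Fin 4 => PJ cs h T X (Kf k : Set I)) (fun k : Fin 4 => WJ cs (Kf k : Set I))
      (fun k l => orb_PJ R hG _ _) ![b 0, b 1, b 2, -(b 0 + b 1 + b 2)] (by
        intro g
        have h2 := congrFun hb g
        rw [Finset.sum_apply, Fin.sum_univ_three] at h2
        rw [Fin.sum_univ_four]
        have h3 : (fixN (PJ cs h T X ((Finset.univ : Finset I) : Set I)) g : ℂ) = 1 := by
          have h4 := Th_card (cs := cs) (h := h) (T := T) (X := X) hG g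
          unfold Th at h4
          rw [Finset.sum_eq_single (Finset.univ : Finset I)] at h4
          · rwa [if_pos Finset.card_univ] at h4
          · intro J _ hJ
            rw [if_neg]
            intro h1
            exact hJ (Finset.card_eq_iff_eq_univ _ |>.1 h1)
          · intro h1
            exact absurd (Finset.mem_univ _) h1
        have e0 : (Kf 0 : Set I) = Js 0 := by simp [Kf, Js]
        have e1 : (Kf 1 : Set I) = Js 1 := by simp [Kf, Js]
        have e2 : (Kf 2 : Set I) = Js 2 := by simp [Kf, Js]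
        have e3 : Kf 3 = Finset.univ := rfl
        rw [e0, e1, e2, e3, h3]
        simp only [Pi.smul_apply, Pi.sub_apply, Pi.one_apply, smul_eq_mul, Pi.zero_apply] at h2
        simp only [Matrix.cons_val_zero, Matrix.cons_val_one, Matrix.cons_val]
        linear_combination h2)
    have h2 : ∀ w : W, b 0 * (fixN (WJ cs ((∅ : Finset I) : Set I)) w : ℂ) +
        b 1 * (fixN (WJ cs (({i} : Finset I) : Set I)) w : ℂ) + b 2 * (fixN (WJ cs (({j} : Finset I) : Set I)) w : ℂ) +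
        -(b 0 + b 1 + b 2) * (fixN (WJ cs ((Finset.univ : Finset I) : Set I)) w : ℂ) = 0 := by
      intro w
      have h3 := h1 w
      rw [Fin.sum_univ_four] at h3
      exact h3
    -- the product `s_i s_j`
    have hs : b 0 + b 1 + b 2 = 0 := by
      have h3 := h2 (cs.wordProd ({i, j} : Finset I).toList)
      have hc : ({i, j} : Finset I).card = 2 := Finset.card_pair hij
      rw [fixN_cox_eq_zero (h := h) (J := (∅ : Finset I)) (by rw [hc, Finset.card_empty]; omega),
        fixN_cox_eq_zero (h := h) (J := ({i} : Finset I)) (by rw [hc, Finset.card_singleton]; omega),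
        fixN_cox_eq_zero (h := h) (J := ({j} : Finset I)) (by rw [hc, Finset.card_singleton]; omega)] at h3
      simp only [Nat.cast_zero, mul_zero, zero_add] at h3
      rcases mul_eq_zero.1 h3 with h4 | h4
      · exact neg_eq_zero.1 h4
      · exfalso
        rw [Nat.cast_eq_zero] at h4
        refine (fixN_pos_of_mem (H := WJ cs ((Finset.univ : Finset I) : Set I)) ?_).ne' h4
        rw [Finset.coe_univ]
        exact mem_univ' cs _
    have h3 : ∀ w : W, b 0 * (fixN (WJ cs ((∅ : Finset I) : Set I)) w : ℂ) +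
        b 1 * (fixN (WJ cs (({i} : Finset I) : Set I)) w : ℂ) +
        b 2 * (fixN (WJ cs (({j} : Finset I) : Set I)) w : ℂ) = 0 := by
      intro w
      have h4 := h2 w
      rw [hs] at h4
      linear_combination h4
    have hempty : ∀ k, fixN (WJ cs ((∅ : Finset I) : Set I)) (cs.simple k) = 0 := by
      intro k
      apply fixN_eq_zero
      intro v hv
      rw [Finset.coe_empty] at hv
      have h4 := WJ_empty hv
      have h5 : cs.simple k = v * (v⁻¹ * cs.simple k * v) * v⁻¹ := by group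
      rw [h4] at h5
      exact simple_ne_one (cs := cs) k (by rw [h5]; group)
    have hpos : ∀ k, (fixN (WJ cs (({k} : Finset I) : Set I)) (cs.simple k) : ℂ) ≠ 0 := by
      intro k
      rw [Nat.cast_ne_zero]
      exact (fixN_pos_of_mem (simple_mem_WJ cs (by simp))).ne'
    have hb1 : b 1 = 0 := by
      have h4 := h3 (cs.simple i)
      rw [hempty, Finset.coe_singleton j, fixN_simple_eq_zero heven hij] at h4
      simp only [Nat.cast_zero, mul_zero, zero_add, add_zero] at h4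
      exact (mul_eq_zero.1 h4).resolve_right (hpos i)
    have hb2 : b 2 = 0 := by
      have h4 := h3 (cs.simple j)
      rw [hempty, hb1] at h4
      simp only [Nat.cast_zero, mul_zero, zero_add, zero_mul] at h4
      exact (mul_eq_zero.1 h4).resolve_right (hpos j)
    have hb0 : b 0 = 0 := by rw [hb1, hb2, add_zero, add_zero] at hs; exact hs
    intro k
    fin_cases k
    · exact hb0
    · exact hb1
    · exact hb2
  · intro k g x
    change (fixN _ _ : ℂ) - 1 = (fixN _ _ : ℂ) - 1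
    rw [fixN_conj]
  · intro k σ g
    change (fixN _ _ : ℂ) - 1 = (fixN _ _ : ℂ) - 1
    rw [fixN_aut_of R hτ]
  · intro k χ hin
    by_cases hχ1 : (χ : Y → ℂ) = 1
    · exfalso
      apply hin
      rw [hχ1, classInner_sub_left, classInner_fixN_one, classInner_irr_self isIrr_one, sub_self]
    · rw [classInner_sub_left, classInner_irr_ne isIrr_one χ.2 (Ne.symm hχ1), sub_zero] at hin
      exact dvd_of_fixN R hPS χ.2 hχ1 _ hin

end

end Cfsg.Agent.H211.Dl
end

-- part: H211/Dl/ThetaRgd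
section
/-!
# `Many p Y (rank)` for groups with a root group datum in their own characteristic (S4769, DL-THETA)
-/

set_option autoImplicit false
set_option linter.unusedSectionVars false
set_option linter.style.haveILetI false

open Cfsg

namespace Cfsg.Agent.H211.Dl

open CoxeterSystem Cfsg.Agent.ChevalleyStructure.CoxeterGeom Cfsg.Agent.Tits.Roots Cfsg.Agent.Tits.Core
  Cfsg.Agent.Nodes.Reps Cfsg.Agent.Nodes.BNOf Cfsg.Agent.Nodes.Bruhat Cfsg.Agent.Nodes.LeviDec
  Cfsg.Agent.Omega.EH3.Kf.Lev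
open Cfsg.Agent.Characters.Core Cfsg.Agent.H246.Dl

variable {I W Y : Type*} [Fintype I] [DecidableEq I] [Group W] [Group Y] {M : CoxeterMatrix I}
  {cs : CoxeterSystem M W} {A : I → I → ℤ} {h : IsCartan M A} {p : ℕ} {T : Subgroup Y} {n : I → Y}
  {X : (I → ℤ) → Subgroup Y}

theorem ps_of [Finite W] [Finite Y] [Fact p.Prime] (R : RGD cs h p T n X) (hG : GG cs h T X = ⊤)
    (hC : CommGen cs h X) (χ : Y → ℂ) (hχ : IsIrrCharacter Y χ) (h1 : χ ≠ 1)
    (hB : ∑ᶠ b : RGD.B cs h T X, χ b ≠ 0) : p ∣ charDegree χ := by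
  haveI : Fintype (RGD.B cs h T X) := Fintype.ofFinite _
  rw [finsum_eq_sum_of_fintype] at hB
  exact H152.PS.dvd_degree R hG hC hχ h1 hB

/-- **DL-THETA.** `Y` has at least `rank` orbits of irreducible characters of degree divisible by `p`. -/
theorem many_rank [Finite W] [Finite Y] [Fact p.Prime] (R : RGD cs h p T n X) (hG : GG cs h T X = ⊤)
    (hC : CommGen cs h X) : Many p Y (Fintype.card I) :=
  many_rank_of R hG (ps_of R hG hC)

/-- **DL-THETA, rank two.** Three orbits if all automorphisms fix the classes of parabolic subgroups. -/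
theorem many_classes [Finite W] [Finite Y] [Fact p.Prime] (R : RGD cs h p T n X) (hG : GG cs h T X = ⊤)
    (hC : CommGen cs h X) (heven : ∀ k l, k ≠ l → Even (M k l)) {i j : I} (hij : i ≠ j)
    (hτ : ∀ α : MulAut Y, ∀ J : Set I, ∃ g : Y,
      (PJ cs h T X J).map α.toMonoidHom = (PJ cs h T X J).map (MulAut.conj g).toMonoidHom) : Many p Y 3 :=
  many_classes_of R hG (ps_of R hG hC) heven hij hτ

end Cfsg.Agent.H211.Dl
end

private theorem dce_85a4ef95ee3e : _root_.True := by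
  try have : _root_.True := by simp only [_root_.Cfsg.Agent.H211.Dl.Th.congr_simp]
  exact _root_.True.intro
end

-- part: H70/Dl/Base
section
set_option linter.all false
open scoped Cfsg.Agent.FastGrp

/-!
# Tools for the sporadic rows of S4769 (helper70)

* `many_of_nd` : `(m - 1) * |Out S| < ND p S` implies `Many p S m`;
* `many_three` : three different degrees;
* `row_small` : Sylow subgroups of order less than `p ^ 6`.
-/

set_option autoImplicit false

open Cfsg

namespace Cfsg.Agent.H70.Dl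

open Cfsg.Agent.H246.Dl Cfsg.Agent.H596.OneFacts Cfsg.Agent.H651.Two Cfsg.Agent.H759.Dl Cfsg.Agent.H680.Dl

universe u

/-- `σ`-conjugate characters with the same class of `σ` in `Out S`. -/
theorem eq_of_out {S : Type u} [Group S] {α β γ : IrrCharacter S} {σ τ : MulAut S}
    (h1 : ∀ s : S, (α : S → ℂ) (σ s) = (β : S → ℂ) s) (h2 : ∀ s : S, (α : S → ℂ) (τ s) = (γ : S → ℂ) s)
    (h : (QuotientGroup.mk σ : Out S) = QuotientGroup.mk τ) : β = γ := by
  have h3 : σ⁻¹ * τ ∈ Inn S := QuotientGroup.eq.1 h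
  obtain ⟨g, hg⟩ := h3
  apply Subtype.ext
  funext s
  have h4 : τ = σ * MulAut.conj g := by rw [hg, mul_inv_cancel_left]
  have h5 := h2 s
  rw [h4, MulAut.mul_apply, MulAut.conj_apply, h1, inner_apply] at h5
  exact h5

/-- One more character. -/
theorem exists_more {p : ℕ} {S : Type u} [Group S] [Finite S] {k : ℕ} (χ : Fin k → IrrCharacter S)
    (h : k * Nat.card (Out S) < ND p S) :
    ∃ β : IrrCharacter S, p ∣ charDegree (β : S → ℂ) ∧
      ∀ i, ∀ σ : S ≃* S, ∃ g, (χ i : S → ℂ) (σ g) ≠ (β : S → ℂ) g := by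
  classical
  by_contra hcon
  push Not at hcon
  have hfin : Finite (IrrCharacter S) := Cfsg.Agent.Characters.Core.finite_irr
  have hfinO : Finite (Out S) := by
    have : Finite (MulAut S) := inferInstance
    infer_instance
  choose i σ hσ using fun β : PD p S => hcon β.1 β.2
  have hinj : Function.Injective fun β : PD p S => ((i β, (QuotientGroup.mk (σ β) : Out S)) : Fin k × Out S) := by
    intro β γ hβγ
    simp only [Prod.mk.injEq] at hβγ
    apply Subtype.ext
    refine eq_of_out (hσ β) (τ := σ γ) ?_ hβγ.2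
    rw [hβγ.1]
    exact hσ γ
  have h2 := Nat.card_le_card_of_injective _ hinj
  rw [Nat.card_prod, Nat.card_fin] at h2
  exact absurd h2 (not_le.2 h)

/-- **Counting.** -/
theorem many_of_nd {p m : ℕ} {S : Type u} [Group S] [Finite S] (h : (m - 1) * Nat.card (Out S) < ND p S) :
    Many p S m := by
  have key : ∀ k ≤ m, Many p S k := by
    intro k
    induction k with
    | zero => exact fun _ => ⟨Fin.elim0, fun i => i.elim0, fun i => i.elim0⟩
    | succ k ih =>
      intro hk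
      obtain ⟨χ, h1, h2⟩ := ih (by omega)
      obtain ⟨β, hβ, hβ'⟩ := exists_more (p := p) χ
        ((Nat.mul_le_mul_right _ (by omega : k ≤ m - 1)).trans_lt h)
      refine ⟨Fin.cons β χ, fun i => ?_, fun i j hij τ => ?_⟩
      · refine Fin.cases ?_ (fun i => ?_) i
        · exact hβ
        · exact h1 i
      · induction i using Fin.cases with
        | zero =>
          induction j using Fin.cases with
          | zero => exact absurd rfl hij
          | succ j =>
            rw [Fin.cons_zero, Fin.cons_succ]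
            obtain ⟨g, hg⟩ := hβ' j τ.symm
            refine ⟨τ.symm g, fun h3 => hg ?_⟩
            rw [τ.apply_symm_apply] at h3
            exact h3.symm
        | succ i =>
          induction j using Fin.cases with
          | zero =>
            rw [Fin.cons_zero, Fin.cons_succ]
            exact hβ' i τ
          | succ j =>
            rw [Fin.cons_succ, Fin.cons_succ]
            exact h2 i j (fun h3 => hij (by rw [h3])) τ
  exact key m le_rfl

/-- Three different degrees. -/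
theorem many_three {p : ℕ} {S : Type u} [Group S] {α β γ : IrrCharacter S}
    (ha : p ∣ charDegree (α : S → ℂ)) (hb : p ∣ charDegree (β : S → ℂ)) (hc : p ∣ charDegree (γ : S → ℂ))
    (hab : charDegree (α : S → ℂ) ≠ charDegree (β : S → ℂ)) (hac : charDegree (α : S → ℂ) ≠ charDegree (γ : S → ℂ))
    (hbc : charDegree (β : S → ℂ) ≠ charDegree (γ : S → ℂ)) : Many p S 3 := by
  refine Many.of_degrees ![α, β, γ] ?_ ?_
  · intro i
    fin_cases i
    · exact ha
    · exact hb
    · exact hc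
  · intro i j hij
    fin_cases i <;> fin_cases j <;> first | rfl | skip
    · exact absurd hij hab
    · exact absurd hij hac
    · exact absurd hij.symm hab
    · exact absurd hij hbc
    · exact absurd hij.symm hac
    · exact absurd hij.symm hbc

/-- Sylow subgroups of order less than `p ^ 6`. -/
theorem row_small (T : FactTwo.{u}) (I : H671.H5.FactIM.{u}) {p : ℕ} {S : Type u} [Group S] [Finite S]
    [IsSimpleGroup S] (hc : ¬ IsMulCommutative S) (hp : p.Prime) (hd : p ∣ Nat.card S)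
    (h : ¬ p ^ 6 ∣ Nat.card S) : Row p S := by
  have : Fact p.Prime := ⟨hp⟩
  exact row_of_dl_two T I hc hp hd (dlLe_two (a := 5) le_rfl h)

/-- A simple group whose order is not a prime is not commutative. -/
theorem not_comm {S : Type*} [Group S] [Finite S] [hs : IsSimpleGroup S] (h : ¬ (Nat.card S).Prime) :
    ¬ IsMulCommutative S := by
  intro hcm
  letI : CommGroup S := { (inferInstance : Group S) with mul_comm := hcm.is_comm.comm }
  exact h (IsSimpleGroup.prime_card (α := S))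

/-- The row for the primes `p` with `p ^ 6 ∤ |S|`. -/
theorem row_of_arith (T : FactTwo.{u}) (I : H671.H5.FactIM.{u}) {p : ℕ} {S : Type u} [Group S] [Finite S]
    [IsSimpleGroup S] {n : ℕ} (hn : Nat.card S = n) (hnp : ¬ n.Prime) (hp : p.Prime) (hd : p ∣ Nat.card S)
    (h : ¬ p ^ 6 ∣ n) : Row p S :=
  row_small T I (not_comm (by rw [hn]; exact hnp)) hp hd (by rw [hn]; exact h)

end Cfsg.Agent.H70.Dl
end

-- part: H669/Dl/HN
section
set_option linter.all false
open scoped Cfsg.Agent.FastGrp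

/-!
# S4769: the row of the Harada–Norton group (task 2519)
-/

set_option autoImplicit false

namespace Cfsg.Agent.H669.Dl.HN

open Cfsg Cfsg.Agent.H33 Cfsg.Agent.H492.IMHN Cfsg.Agent.H246.Dl

universe u

theorem many_of_list {p : ℕ} {D : Finset ℕ} (h : ∀ d ∈ D, p ∣ d)
    (hD : ∀ d ∈ D, d = 8910 ∨ d = 214016 ∨ d = 267520 ∨ d = 365750 ∨ d = 16929) : Many p Spor.HN D.card := by
  refine Many.of_finset fun d hd => ⟨h d hd, ?_⟩
  have key : ∃ χ : IrrCharacter Spor.HN, (χ : Spor.HN → ℂ) 1 = (d : ℕ) := by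
    rcases hD d hd with rfl | rfl | rfl | rfl | rfl
    · exact exists_8910
    · exact exists_214016
    · exact exists_267520
    · exact exists_365750
    · exact exists_16929
  obtain ⟨χ, hχ⟩ := key
  exact ⟨χ, χ.2, hχ⟩

theorem many_two : Many 2 Spor.HN 4 :=
  many_of_list (D := {8910, 214016, 267520, 365750}) (by decide +kernel) (by
    intro d hd
    simp only [Finset.mem_insert, Finset.mem_singleton] at hd
    tauto)

theorem many_five : Many 5 Spor.HN 3 :=
  many_of_list (D := {8910, 267520, 365750}) (by decide +kernel) (by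
    intro d hd
    simp only [Finset.mem_insert, Finset.mem_singleton] at hd
    tauto)

theorem many_three : Many 3 Spor.HN 2 :=
  many_of_list (D := {8910, 16929}) (by decide +kernel) (by
    intro d hd
    simp only [Finset.mem_insert, Finset.mem_singleton] at hd
    tauto)

/-- the Sylow 3-subgroups of `HN` are metabelian -/
theorem dl_three : DlLe 3 2 Spor.HN := by
  have : Fact (Nat.Prime 3) := ⟨Nat.prime_three⟩
  have hfin := finite_hn
  refine A12.dl_three Cfsg.Agent.CpAutHN.Alt.Φ Cfsg.Agent.CpAutHN.Alt.Φ_inj fun Q => ?_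
  rw [Sylow.card_eq_multiplicity, card_hn]
  have h : (273030912000000 : ℕ) = 3 ^ 6 * 374528000000 := by norm_num
  rw [h, Nat.factorization_mul (by norm_num) (by norm_num), Nat.factorization_pow]
  have h2 : (374528000000 : ℕ).factorization 3 = 0 := Nat.factorization_eq_zero_of_not_dvd (by norm_num)
  simp [Nat.prime_three.factorization_self, h2]

/-- **the row of the presented group** -/
theorem row_model {p : ℕ} (hp : p.Prime) (hd : p ∣ Nat.card Spor.HN) : Row p Spor.HN := by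
  have : Fact p.Prime := ⟨hp⟩
  have hfin := finite_hn
  rw [card_hn] at hd
  have h1 : (273030912000000 : ℕ) = 2 ^ 14 * (3 ^ 6 * (5 ^ 6 * (7 * (11 * 19)))) := by norm_num
  rw [h1] at hd
  have hone : ∀ a : ℕ, a ≤ 2 → ¬ p ^ (a + 1) ∣ Nat.card Spor.HN → Row p Spor.HN := by
    intro a ha h2
    refine Row.of_im (H680.Dl.dlLe_one ha h2) (im_hn ⟨MulEquiv.refl _⟩ (p := p) ?_)
    rw [card_hn, h1]
    exact hd
  rcases hp.dvd_mul.1 hd with h2 | h2
  · obtain rfl := (Nat.prime_dvd_prime_iff_eq hp Nat.prime_two).1 (hp.dvd_of_dvd_pow h2)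
    exact ⟨4, H680.Dl.dlLe_four (a := 14) (by norm_num) (by rw [card_hn]; norm_num), many_two⟩
  rcases hp.dvd_mul.1 h2 with h3 | h3
  · obtain rfl := (Nat.prime_dvd_prime_iff_eq hp Nat.prime_three).1 (hp.dvd_of_dvd_pow h3)
    exact ⟨2, dl_three, many_three⟩
  rcases hp.dvd_mul.1 h3 with h4 | h4
  · obtain rfl := (Nat.prime_dvd_prime_iff_eq hp Nat.prime_five).1 (hp.dvd_of_dvd_pow h4)
    exact ⟨3, H680.Dl.dlLe_three (a := 6) (by norm_num) (by rw [card_hn]; norm_num), many_five⟩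
  rcases hp.dvd_mul.1 h4 with h5 | h5
  · obtain rfl := (Nat.prime_dvd_prime_iff_eq hp (by norm_num)).1 h5
    exact hone 1 (by norm_num) (by rw [card_hn]; norm_num)
  rcases hp.dvd_mul.1 h5 with h6 | h6
  · obtain rfl := (Nat.prime_dvd_prime_iff_eq hp (by norm_num)).1 h6
    exact hone 1 (by norm_num) (by rw [card_hn]; norm_num)
  · obtain rfl := (Nat.prime_dvd_prime_iff_eq hp (by norm_num)).1 h6
    exact hone 1 (by norm_num) (by rw [card_hn]; norm_num)

/-- **S4769 for the Harada–Norton group, all primes.** -/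
theorem row_hn (S : Type u) [Group S] [Finite S] (h : Cfsg.Spor.IsoHN S) {p : ℕ} (hp : p.Prime)
    (hd : p ∣ Nat.card S) : Row p S := by
  have : Fact p.Prime := ⟨hp⟩
  obtain ⟨e⟩ := h
  rw [Nat.card_congr e.toEquiv] at hd
  exact (row_model hp hd).of_equiv e

end Cfsg.Agent.H669.Dl.HN
end

-- part: H153/Dl/K22
section
set_option linter.all false
open scoped Cfsg.Agent.FastGrp

/-!
# `Fi22` has at least 40 classes (helper153)

The numbers of fixed points of the squares and the cubes of words. Generated data.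
-/

set_option autoImplicit false
set_option maxRecDepth 100000
set_option Elab.async false

namespace Cfsg.Agent.H153.Dl.K22

open Cfsg Cfsg.Agent.H153.Dl Cfsg.Agent.H153.Dl.PR
open Cfsg.Spor.Fi22 (Gen)

/-- `(w, f₂, f₃)` : the numbers of fixed points of `w²` and `w³`. -/
def tab : List (List Gen × ℕ × ℕ) := [([.c], 3510, 694),
  ([.b, .a], 126, 3510),
  ([.a, .c], 3510, 182),
  ([.i, .d, .h], 182, 30),
  ([.c, .f, .e], 126, 694),
  ([.h, .c, .g], 3510, 54),
  ([.d, .e, .c, .b], 10, 10),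
  ([.c, .b, .e, .g], 126, 182),
  ([.a, .d, .i, .h], 182, 14),
  ([.e, .h, .e, .h], 3510, 3510),
  ([.f, .b, .c, .g], 36, 3510),
  ([.h, .e, .d, .c], 126, 54),
  ([.b, .f, .g, .a, .i], 36, 694),
  ([.d, .h, .f, .e, .i], 36, 54),
  ([.c, .e, .f, .h, .d], 6, 2),
  ([.c, .a, .g, .d, .b], 10, 4),
  ([.a, .c, .f, .e, .b], 14, 30),
  ([.b, .g, .c, .d, .a, .f], 1, 10),
  ([.d, .e, .c, .b, .g, .i], 10, 2),
  ([.i, .a, .b, .e, .d, .f], 14, 14),
  ([.i, .c, .e, .d, .b, .h], 3, 6),
  ([.d, .a, .f, .c, .b, .e], 3, 3),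
  ([.c, .e, .a, .b, .g, .f], 182, 38),
  ([.h, .e, .d, .h, .c, .d], 54, 6),
  ([.a, .i, .e, .g, .b, .d], 36, 182),
  ([.f, .g, .b, .i, .h, .c], 0, 3510),
  ([.h, .d, .c, .f, .e, .b], 0, 6),
  ([.b, .c, .d, .e, .i, .f, .h], 3, 19),
  ([.i, .a, .b, .e, .d, .f, .c], 3, 1),
  ([.b, .a, .c, .i, .d, .g, .f], 1, 4),
  ([.a, .d, .b, .h, .e, .c, .i], 3, 27),
  ([.a, .g, .e, .c, .f, .b, .d], 38, 6),
  ([.f, .b, .g, .c, .h, .a, .e], 182, 6),
  ([.d, .f, .h, .g, .a, .b, .i], 8, 30),
  ([.b, .g, .c, .d, .a, .f, .h], 0, 54),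
  ([.c, .e, .b, .h, .f, .a, .d], 0, 0),
  ([.c, .i, .e, .a, .g, .b, .f, .h], 14, 38),
  ([.c, .e, .b, .h, .f, .a, .d, .g], 2, 6),
  ([.f, .g, .b, .i, .h, .c, .d, .a], 0, 3),
  ([.e, .d, .c, .h, .d, .i, .b, .f, .c, .d], 6, 11)]

theorem tab_ok : chkPs R22 12 2 3 tab = true := by (rewrite [show @Cfsg.Agent.H153.Dl.PR.chkPs = delta% @Cfsg.Agent.H153.Dl.PR.chkPs from by delta Cfsg.Agent.H153.Dl.PR.chkPs; rfl, show @Cfsg.Agent.H153.Dl.PR.chkP = delta% @Cfsg.Agent.H153.Dl.PR.chkP from by delta Cfsg.Agent.H153.Dl.PR.chkP; rfl, show @Cfsg.Agent.H153.Dl.PR.fxm = delta% @Cfsg.Agent.H153.Dl.PR.fxm from by delta Cfsg.Agent.H153.Dl.PR.fxm; rfl, Cfsg.Agent.Lib.PermNetFast.pcO_fast, Cfsg.Agent.Lib.PermNetFast.moved_fast]; decide +kernel)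

/-- **`Fi22` has at least 40 classes.** -/
theorem le_k : 40 ≤ Nat.card (ConjClasses Spor.Fi22) := by
  have := fin22
  exact card_le_conjClasses_pow cnt22 tab tab_ok (by decide +kernel)

end Cfsg.Agent.H153.Dl.K22
end

-- part: H153/Dl/RowFi23
section
set_option linter.all false
open scoped Cfsg.Agent.FastGrp

/-!
# The row of `Fi23` (S4769; helper153, task DL-SPOR-5)
-/

set_option autoImplicit false
set_option maxRecDepth 100000
set_option linter.constructorNameAsVariable false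

namespace Cfsg.Agent.H153.Dl

open Cfsg Cfsg.Agent.H246.Dl Cfsg.Agent.H454.DlCrit Cfsg.Agent.H680.Dl Subgroup

namespace Fi23Row

theorem card : Nat.card Spor.Fi23 = 4089470473293004800 := Cfsg.Agent.LThreeFi23.card_G

theorem fin23 : Finite Spor.Fi23 := Nat.finite_of_card_ne_zero (by rw [card]; norm_num)

theorem out : Nat.card (OutQ Spor.Fi23) ≤ 1 := (S2080.result).le

theorem c23_pow : R23.chkEq (PR.rep 16 C23.xw) [] = true := C23.pw

theorem d23_pow : R23.chkEq (PR.rep 27 D23.xw) [] = true := D23.pw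

/-- **The row of `Fi23`, `p = 2`.** -/
theorem row_two : Row 2 Spor.Fi23 := by
  have := fin23
  have hf : Fact (Nat.Prime 2) := ⟨Nat.prime_two⟩
  have h16 : C23.D.x ^ 2 ^ 4 = 1 :=
    (R23.word_rep 16 C23.xw).symm.trans ((R23.word_eq_of c23_pow).trans R23.word_nil)
  have hj : ∃ j : ℕ, orderOf C23.D.x = 2 ^ j := by
    obtain ⟨k, -, hk⟩ := (Nat.dvd_prime_pow Nat.prime_two).1 (orderOf_dvd_of_pow_eq_one h16)
    exact ⟨k, hk⟩
  refine Row.of_le (d := 4) (m := 4) ((dlLe_of_card' (a := 18) ?_).2.1 (by norm_num))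
    (Many.of_count_le hj out Cfsg.Agent.H870.Fi23Fix.fifty_le ?_) le_rfl
  · rw [card]; norm_num
  · have h1 : Nat.card (centralizer ({C23.D.x} : Set Spor.Fi23)) ≤ 32 := C23.card_le
    omega

/-- **The row of `Fi23`, `p = 3`.** -/
theorem row_three : Row 3 Spor.Fi23 := by
  have := fin23
  have hf : Fact (Nat.Prime 3) := ⟨Nat.prime_three⟩
  have h27 : D23.D.x ^ 3 ^ 3 = 1 :=
    (R23.word_rep 27 D23.xw).symm.trans ((R23.word_eq_of d23_pow).trans R23.word_nil)
  have hj : ∃ j : ℕ, orderOf D23.D.x = 3 ^ j := by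
    obtain ⟨k, -, hk⟩ := (Nat.dvd_prime_pow Nat.prime_three).1 (orderOf_dvd_of_pow_eq_one h27)
    exact ⟨k, hk⟩
  refine Row.of_le (d := 4) (m := 4) ((dlLe_of_card' (a := 13) ?_).2.1 (by norm_num))
    (Many.of_count_le hj out Cfsg.Agent.H870.Fi23Fix.fifty_le ?_) le_rfl
  · rw [card]; norm_num
  · have h1 : Nat.card (centralizer ({D23.D.x} : Set Spor.Fi23)) ≤ 27 := D23.card_le
    omega

end Fi23Row

open Fi23Row in
/-- **The row of `Fi23`** (S4769). -/
theorem row_fi23 {S : Type*} [Group S] [Finite S] (h : Spor.IsoFi23 S) {p : ℕ} (hp : p.Prime) (hd : p ∣ Nat.card S) :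
    Row p S := by
  have hf : Fact p.Prime := ⟨hp⟩
  have him : H33.IM p S := H870.IMFi23.im_fi23 h hd
  obtain ⟨e⟩ := h
  have hc : Nat.card S = 4089470473293004800 := (Nat.card_congr e.toEquiv).trans card
  rw [hc] at hd
  by_cases h2 : p = 2
  · subst h2; exact Row.of_equiv e row_two
  by_cases h3 : p = 3
  · subst h3; exact Row.of_equiv e row_three
  refine Row.of_im (dlLe_one (a := 2) le_rfl ?_) him
  rw [hc]
  intro h4
  have hd' : p ∣ 2 ^ 18 * (3 ^ 13 * (5 ^ 2 * (7 * (11 * (13 * (17 * 23)))))) := by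
    rw [show 2 ^ 18 * (3 ^ 13 * (5 ^ 2 * (7 * (11 * (13 * (17 * 23)))))) = 4089470473293004800 by norm_num]
    exact hd
  have one : ∀ q : ℕ, q.Prime → p ∣ q → p = q := fun q hq h => (Nat.prime_dvd_prime_iff_eq hp hq).1 h
  have key : p = 5 ∨ p = 7 ∨ p = 11 ∨ p = 13 ∨ p = 17 ∨ p = 23 := by
    rcases hp.dvd_mul.1 hd' with h | h
    · exact absurd (one 2 Nat.prime_two (hp.dvd_of_dvd_pow h)) h2
    rcases hp.dvd_mul.1 h with h | h
    · exact absurd (one 3 Nat.prime_three (hp.dvd_of_dvd_pow h)) h3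
    rcases hp.dvd_mul.1 h with h | h
    · exact Or.inl (one 5 (by norm_num) (hp.dvd_of_dvd_pow h))
    rcases hp.dvd_mul.1 h with h | h
    · exact Or.inr (Or.inl (one 7 (by norm_num) h))
    rcases hp.dvd_mul.1 h with h | h
    · exact Or.inr (Or.inr (Or.inl (one 11 (by norm_num) h)))
    rcases hp.dvd_mul.1 h with h | h
    · exact Or.inr (Or.inr (Or.inr (Or.inl (one 13 (by norm_num) h))))
    rcases hp.dvd_mul.1 h with h | h
    · exact Or.inr (Or.inr (Or.inr (Or.inr (Or.inl (one 17 (by norm_num) h)))))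
    · exact Or.inr (Or.inr (Or.inr (Or.inr (Or.inr (one 23 (by norm_num) h)))))
  rcases key with rfl | rfl | rfl | rfl | rfl | rfl <;> norm_num at h4

end Cfsg.Agent.H153.Dl
end

-- part: H195/Dl/TwF_mg
section
prune_inst 0x8000000000000000000000000000010400000
set_option linter.all false
open scoped Cfsg.Agent.FastGrp

-- part: H195/Dl/Dih
section
/-!
# Double cosets in the dihedral group of order 16 (helper195)
-/

set_option autoImplicit false

namespace Cfsg.Agent.H195.Dl.Dih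

open Cfsg.Agent.H996.Deg.CoxPar Cfsg.Agent.SignalizersComponents.DihedralIso

universe u

instance instNeZeroEight195 : NeZero 8 := ⟨by norm_num⟩

theorem exists_dih {W : Type u} [Group W] {a x : W} (ha : a * a = 1) (hax : a * x * a⁻¹ = x⁻¹)
    (hn : a ∉ Subgroup.zpowers x) (hx : orderOf x = 8) (htop : Subgroup.zpowers a ⊔ Subgroup.zpowers x = ⊤) :
    ∃ e : DihedralGroup 8 ≃* W, e (.sr 0) = a := by
  have hx1 : x ^ 8 = 1 := by rw [← hx]; exact pow_orderOf_eq_one x
  have h0 : dihHom 8 a x hx1 ha hax (DihedralGroup.sr 0) = a := by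
    have := dihHom_sr 8 a x hx1 ha hax 0
    rwa [Int.cast_zero, zpow_zero, mul_one] at this
  have hinj : Function.Injective (dihHom 8 a x hx1 ha hax) := by
    rw [injective_iff_map_eq_one]
    rintro (i | i) h
    · obtain ⟨k, rfl⟩ := ZMod.intCast_surjective i
      rw [dihHom_r] at h
      have h1 : (8 : ℤ) ∣ k := by
        have h2 := orderOf_dvd_iff_zpow_eq_one.mpr h
        rw [hx] at h2
        exact_mod_cast h2
      rw [(ZMod.intCast_zmod_eq_zero_iff_dvd k 8).mpr (by exact_mod_cast h1)]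
      rfl
    · obtain ⟨k, rfl⟩ := ZMod.intCast_surjective i
      rw [dihHom_sr] at h
      exfalso
      apply hn
      rw [mul_eq_one_iff_eq_inv] at h
      rw [h]
      exact inv_mem (Subgroup.zpow_mem_zpowers x k)
  have hsurj : Function.Surjective (dihHom 8 a x hx1 ha hax) := by
    rw [← MonoidHom.range_eq_top, dihHom_range, htop]
  exact ⟨MulEquiv.ofBijective _ ⟨hinj, hsurj⟩, h0⟩

/-- the class of a double coset of `⟨sr 0⟩` -/
def cl : DihedralGroup 8 → Fin 5
  | .r k => ⟨min k.val (8 - k.val), by omega⟩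
  | .sr k => ⟨min k.val (8 - k.val), by omega⟩

theorem cl_left : ∀ w : DihedralGroup 8, cl (.sr 0 * w) = cl w := by decide +kernel

theorem cl_right : ∀ w : DihedralGroup 8, cl (w * .sr 0) = cl w := by decide +kernel

theorem cl_sep : ∀ w w' : DihedralGroup 8, cl w = cl w' →
    w' = w ∨ w' = .sr 0 * w ∨ w' = w * .sr 0 ∨ w' = .sr 0 * w * .sr 0 := by decide +kernel

theorem cl_surj : ∀ i : Fin 5, ∃ w, cl w = i := by decide +kernel

theorem card_DC {W : Type u} [Group W] {s : W} (e : DihedralGroup 8 ≃* W) (he : e (.sr 0) = s) :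
    Nat.card (DC s) = 5 := by
  have ss : s * s = 1 := by
    rw [← he, ← map_mul]
    have : (DihedralGroup.sr 0 * DihedralGroup.sr 0 : DihedralGroup 8) = 1 := by decide
    rw [this, map_one]
  have hes : e.symm s = .sr 0 := by rw [← he, e.symm_apply_apply]
  let f : W → Fin 5 := fun w => cl (e.symm w)
  have hl : ∀ w, f (s * w) = f w := fun w => by
    show cl (e.symm (s * w)) = cl (e.symm w)
    rw [map_mul, hes, cl_left]
  have hr : ∀ w, f (w * s) = f w := fun w => by
    show cl (e.symm (w * s)) = cl (e.symm w)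
    rw [map_mul, hes, cl_right]
  have hinv : ∀ w w' : W, (∃ a ∈ Subgroup.zpowers s, ∃ b ∈ Subgroup.zpowers s, w' = a * w * b) → f w = f w' := by
    rintro w w' ⟨a, ha, b, hb, rfl⟩
    rcases mem_zp ss ha with rfl | rfl <;> rcases mem_zp ss hb with rfl | rfl
    · rw [one_mul, mul_one]
    · rw [one_mul, hr]
    · rw [mul_one, hl]
    · rw [hr, hl]
  have h1 : Function.Bijective (Quotient.lift (s := DoubleCoset.setoid _ _) f (by
      intro w w' h
      exact hinv w w' (DoubleCoset.rel_iff.1 h)) : DC s → Fin 5) := by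
    constructor
    · intro x y
      induction x using Quotient.inductionOn with | _ w => ?_
      induction y using Quotient.inductionOn with | _ w' => ?_
      intro h
      have h2 : cl (e.symm w) = cl (e.symm w') := h
      apply Quotient.sound
      refine DoubleCoset.rel_iff.2 ?_
      have hs := Subgroup.mem_zpowers s
      have key : ∀ {a b : DihedralGroup 8}, a = b → e a = e b := fun h => congrArg e h
      rcases cl_sep _ _ h2 with h3 | h3 | h3 | h3
      · have h4 := key h3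
        rw [e.apply_symm_apply, e.apply_symm_apply] at h4
        exact ⟨1, one_mem _, 1, one_mem _, by rw [h4, one_mul, mul_one]⟩
      · have h4 := key h3
        rw [map_mul, e.apply_symm_apply, e.apply_symm_apply, he] at h4
        exact ⟨s, hs, 1, one_mem _, by rw [h4, mul_one]⟩
      · have h4 := key h3
        rw [map_mul, e.apply_symm_apply, e.apply_symm_apply, he] at h4
        exact ⟨1, one_mem _, s, hs, by rw [h4, one_mul]⟩
      · have h4 := key h3
        rw [map_mul, map_mul, e.apply_symm_apply, e.apply_symm_apply, he] at h4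
        exact ⟨s, hs, s, hs, h4⟩
    · intro i
      obtain ⟨w, hw⟩ := cl_surj i
      refine ⟨Quotient.mk _ (e w), ?_⟩
      show cl (e.symm (e w)) = i
      rw [e.symm_apply_apply, hw]
  exact (Nat.card_congr (Equiv.ofBijective _ h1)).trans (by rw [Nat.card_eq_fintype_card, Fintype.card_fin])

end Cfsg.Agent.H195.Dl.Dih
end

-- part: H195/Dl/Rank
section
/-!
# Four nontrivial constituents of a permutation character of rank five (helper195)

`exists_four` : `X` transitive of rank five, `Z` transitive, an even number of orbits on `X × Z`: the permutation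
character of `X` is multiplicity free.
-/

set_option autoImplicit false

namespace Cfsg.Agent.H195.Dl.Rank

open Cfsg MulAction Cfsg.Agent.H464.PermIrr Cfsg.Agent.Characters.Core

variable {G : Type*} [Group G] [Fintype G]

theorem exists_coeff (X : Type*) [MulAction G X] [Finite X] [Fintype (IrrCharacter G)] :
    ∃ m : IrrCharacter G → ℕ, pc G X = ∑ ψ : IrrCharacter G, (m ψ : ℂ) • (ψ : G → ℂ) := by
  obtain ⟨m, hm⟩ := exists_nat_comb (isCharacter_pc G X)
  refine ⟨m, ?_⟩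
  rw [hm]
  simp only [Nat.cast_smul_eq_nsmul]

theorem sum_mul [Fintype (IrrCharacter G)] (X Y : Type*) [MulAction G X] [MulAction G Y] [Finite X] [Finite Y]
    {a b : IrrCharacter G → ℕ} (ha : pc G X = ∑ ψ : IrrCharacter G, (a ψ : ℂ) • (ψ : G → ℂ))
    (hb : pc G Y = ∑ ψ : IrrCharacter G, (b ψ : ℂ) • (ψ : G → ℂ)) :
    Nat.card (orbitRel.Quotient G (X × Y)) = ∑ ψ, a ψ * b ψ := by
  have h1 : (Nat.card (orbitRel.Quotient G (X × Y)) : ℂ) = ∑ ψ, (a ψ : ℂ) * b ψ := by
    rw [← classInner_pc G X Y, ha, hb, classInner_sum_smul_sum_smul]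
    refine Finset.sum_congr rfl fun ψ _ => ?_
    rw [Complex.conj_natCast]
  exact_mod_cast h1

theorem coeff_eq [Fintype (IrrCharacter G)] (X : Type*) [MulAction G X]
    {a : IrrCharacter G → ℕ} (ha : pc G X = ∑ ψ : IrrCharacter G, (a ψ : ℂ) • (ψ : G → ℂ)) (ψ : IrrCharacter G) :
    classInner (pc G X) (ψ : G → ℂ) = a ψ := by
  have h1 : (ψ : G → ℂ) = ∑ χ : IrrCharacter G, ((if χ = ψ then 1 else 0 : ℕ) : ℂ) • (χ : G → ℂ) := by
    rw [Finset.sum_eq_single ψ]
    · simp
    · intro χ _ h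
      rw [if_neg h, Nat.cast_zero, zero_smul]
    · exact fun h => absurd (Finset.mem_univ _) h
  conv_lhs => rw [h1]
  rw [ha, classInner_sum_smul_sum_smul]
  simp

/-- the trivial character -/
noncomputable def triv (G : Type*) [Group G] : IrrCharacter G := ⟨1, isIrr_one⟩

theorem coeff_triv [Fintype (IrrCharacter G)] (X : Type*) [MulAction G X] [Finite X] [Nonempty X]
    (htr : ∀ x y : X, ∃ g : G, g • x = y)
    {a : IrrCharacter G → ℕ} (ha : pc G X = ∑ ψ : IrrCharacter G, (a ψ : ℂ) • (ψ : G → ℂ)) : a (triv G) = 1 := by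
  have h1 := coeff_eq X ha (triv G)
  have h2 : ((triv G : IrrCharacter G) : G → ℂ) = pc G PUnit.{1} := by
    funext g
    show (1 : ℂ) = (Nat.card (fixedBy PUnit.{1} g) : ℂ)
    have : Nat.card (fixedBy PUnit.{1} g) = 1 := by
      rw [Nat.card_eq_one_iff_unique]
      exact ⟨⟨fun x y => Subsingleton.elim _ _⟩, ⟨⟨PUnit.unit, rfl⟩⟩⟩
    rw [this, Nat.cast_one]
  rw [h2, classInner_pc] at h1
  have h3 : Nat.card (orbitRel.Quotient G (X × PUnit.{1})) = 1 := by
    rw [Nat.card_eq_one_iff_unique]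
    obtain ⟨x⟩ := ‹Nonempty X›
    refine ⟨⟨fun p q => ?_⟩, ⟨Quotient.mk _ (x, PUnit.unit)⟩⟩
    induction p using Quotient.inductionOn with | _ p => ?_
    induction q using Quotient.inductionOn with | _ q => ?_
    obtain ⟨p, p'⟩ := p
    obtain ⟨q, q'⟩ := q
    obtain ⟨g, hg⟩ := htr q p
    exact Quotient.sound ⟨g, Prod.ext hg rfl⟩
  rw [h3] at h1
  exact_mod_cast h1.symm

/-- **Four nontrivial constituents.** -/
theorem exists_four (X Z : Type*) [MulAction G X] [MulAction G Z] [Finite X] [Finite Z] [Nonempty X] [Nonempty Z]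
    (hX : ∀ x y : X, ∃ g : G, g • x = y) (hZ : ∀ x y : Z, ∃ g : G, g • x = y)
    (h5 : Nat.card (orbitRel.Quotient G (X × X)) = 5) (he : Even (Nat.card (orbitRel.Quotient G (X × Z)))) :
    ∃ χ : Fin 4 → IrrCharacter G, Function.Injective χ ∧
      ∀ i, (χ i : G → ℂ) ≠ (1 : G → ℂ) ∧ classInner (pc G X) (χ i : G → ℂ) ≠ 0 := by
  classical
  have := finite_irr (G := G)
  have := Fintype.ofFinite (IrrCharacter G)
  obtain ⟨a, ha⟩ := exists_coeff (G := G) X
  obtain ⟨b, hb⟩ := exists_coeff (G := G) Z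
  have h1 := sum_mul X X ha ha
  have h2 := sum_mul X Z ha hb
  have h3 := coeff_triv X hX ha
  have h4 := coeff_triv Z hZ hb
  set o := triv G with ho
  rw [h5, ← Finset.add_sum_erase _ _ (Finset.mem_univ o), h3] at h1
  rw [← Finset.add_sum_erase _ _ (Finset.mem_univ o), h3, h4] at h2
  rw [h2] at he
  -- no multiplicity two
  have h6 : ∀ χ, χ ≠ o → a χ ≤ 1 := by
    intro χ hχ
    by_contra hlt
    have hmem : χ ∈ Finset.univ.erase o := Finset.mem_erase.2 ⟨hχ, Finset.mem_univ _⟩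
    rw [← Finset.add_sum_erase _ _ hmem] at h1 he
    have h7 : 2 * 2 ≤ a χ * a χ := Nat.mul_le_mul (by omega) (by omega)
    have h8 : ∑ ψ ∈ (Finset.univ.erase o).erase χ, a ψ * a ψ = 0 := by omega
    have h9 : a χ * a χ = 4 := by omega
    have h10 : a χ = 2 := by nlinarith
    have h11 : ∑ ψ ∈ (Finset.univ.erase o).erase χ, a ψ * b ψ = 0 := by
      refine Finset.sum_eq_zero fun ψ hψ => ?_
      have := Finset.sum_eq_zero_iff.1 h8 ψ hψ
      rw [(mul_self_eq_zero.1 this), zero_mul]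
    rw [h11, h10] at he
    rw [Nat.even_iff] at he
    omega
  have h7 : ∑ ψ ∈ Finset.univ.erase o, a ψ * a ψ = ((Finset.univ.erase o).filter fun ψ => a ψ ≠ 0).card := by
    rw [Finset.card_filter]
    refine Finset.sum_congr rfl fun ψ hψ => ?_
    have h8 := h6 ψ (Finset.ne_of_mem_erase hψ)
    by_cases h9 : a ψ = 0
    · rw [h9, if_neg (by simp)]
    · rw [if_pos h9]
      have : a ψ = 1 := by omega
      rw [this]
  have h8 : ((Finset.univ.erase o).filter fun ψ => a ψ ≠ 0).card = 4 := by omega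
  let e := Finset.equivFinOfCardEq h8
  refine ⟨fun i => (e.symm i : IrrCharacter G), fun i j hij => e.symm.injective (Subtype.ext hij), fun i => ?_⟩
  obtain ⟨h9, h10⟩ := Finset.mem_filter.1 (e.symm i).2
  refine ⟨fun h => Finset.ne_of_mem_erase h9 (Subtype.ext h), ?_⟩
  rw [coeff_eq X ha]
  exact_mod_cast h10

end Cfsg.Agent.H195.Dl.Rank
end

-- part: H195/Dl/TwFBd
section
/-!
# Split (B,N)-data of type `I₂(8)`: the permutation character on the cosets of a minimal parabolic subgroup (helper195)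

* `exists_bd'` : the building of a split (B,N)-datum, with the orders of the products of two simple reflections;
* `exists_four` : four nontrivial constituents.
-/

set_option autoImplicit false
set_option linter.unusedSectionVars false
set_option linter.unusedVariables false

namespace Cfsg.Agent.H195.Dl.TwFBd

open Cfsg Cfsg.Agent.Tits.Core Cfsg.Agent.Tits.Core.Bldg Cfsg.Agent.Tits.OfBN Cfsg.Agent.H249
  Cfsg.Agent.LieExceptional.BNPairCore Cfsg.Agent.H996.Deg Cfsg.Agent.H996.Deg.OfDat Cfsg.Agent.H996.Deg.CoxPar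
  Cfsg.Agent.H464.PermIrr Cfsg.Agent.Characters.Core MulAction Cfsg.Agent.H195.Dl.Dih

universe u v

section BN

variable {G : Type u} [Group G] {I : Type v} {p : ℕ} (D : Dat G I p)

/-- The building of a split (B,N)-datum. -/
theorem exists_bd' [Finite G] (hN : D.N ≤ Subgroup.closure (Set.range D.n) ⊔ D.T) (hBN : D.B ⊓ D.N ≤ D.T)
    (hinj : ∀ i j, (D.n i)⁻¹ * D.n j ∈ D.B → i = j) :
    ∃ (M : CoxeterMatrix I) (W : Type u) (_ : Group W) (_ : Finite W) (cs : CoxeterSystem M W)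
      (Δ : Bldg cs (G ⧸ D.B)), Bd D Δ (QuotientGroup.mk 1) ∧
      ∀ (i j : I) (k : ℕ), (cs.simple i * cs.simple j) ^ k = 1 ↔ (D.n i * D.n j) ^ k ∈ D.T := by
  set P := bnPair D hN hBN hinj with hP
  have hnP := normal_subgroupOf P
  obtain ⟨M₀, cs₀, hcs₀⟩ := S0320.result P
  have hninj : Function.Injective D.n := fun i j h => hinj i j (by rw [h, inv_mul_cancel]; exact one_mem _)
  let e : I ≃ P.S := Equiv.ofInjective D.n hninj
  let cs : CoxeterSystem (M₀.reindex e.symm) (WP P) := cs₀.reindex e.symm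
  have hcs : ∀ i, cs.simple i = QuotientGroup.mk (⟨(e i : G), P.subset (e i).2⟩ : P.N) := by
    intro i
    show (cs₀.reindex e.symm).simple i = _
    rw [CoxeterSystem.reindex_simple, Equiv.symm_symm]
    exact hcs₀ (e i)
  refine ⟨_, WP P, inferInstance, inferInstance, cs, bldg P e cs hcs, ?_, ?_⟩
  · refine ⟨fun g x y => dist_smul P g x y, fun x y x' y' h => trans P x y x' y' h, fun g => ?_, fun i => ?_⟩
    · constructor
      · intro hg
        show (QuotientGroup.mk (g * 1) : G ⧸ D.B) = QuotientGroup.mk 1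
        rw [eq_comm, QuotientGroup.eq]
        simpa using hg
      · intro hg
        have h1 : (QuotientGroup.mk (g * 1) : G ⧸ D.B) = QuotientGroup.mk 1 := hg
        rw [eq_comm, QuotientGroup.eq] at h1
        simpa using h1
    · show (bldg P e cs hcs).δ (QuotientGroup.mk 1) (QuotientGroup.mk (D.n i * 1)) = cs.simple i
      rw [bldg_δ_mk, hcs]
      apply wt_of_mem P
      have h1 : (1 : G)⁻¹ * (D.n i * 1) = (e i : G) := by
        show _ = D.n i
        group
      rw [h1]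
      exact self_mem_C _
  · intro i j k
    rw [hcs, hcs, ← QuotientGroup.mk_mul, ← QuotientGroup.mk_pow, QuotientGroup.eq_one_iff, Subgroup.mem_subgroupOf]
    constructor
    · intro h
      exact hBN h
    · intro h
      exact ⟨D.T_le_B h, D.TN h⟩

end BN

/-! ### the dihedral group -/

theorem exists_dih_cs {W : Type u} [Group W] [Finite W] {M : CoxeterMatrix (Fin 2)} (cs : CoxeterSystem M W)
    (ho : orderOf (cs.simple 0 * cs.simple 1) = 8) : ∃ e : DihedralGroup 8 ≃* W, e (.sr 0) = cs.simple 0 := by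
  refine exists_dih (a := cs.simple 0) (x := cs.simple 0 * cs.simple 1) (cs.simple_mul_simple_self 0) ?_ ?_ ho ?_
  · rw [mul_inv_rev, cs.inv_simple, cs.inv_simple, cs.simple_mul_simple_cancel_left]
  · intro h
    obtain ⟨k, hk⟩ := Subgroup.mem_zpowers_iff.1 h
    have h1 := congrArg cs.lengthParity hk
    rw [map_zpow, map_mul, cs.lengthParity_simple, cs.lengthParity_simple] at h1
    have h2 : (Multiplicative.ofAdd (1 : ZMod 2)) * Multiplicative.ofAdd (1 : ZMod 2) = 1 := by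
      decide
    rw [h2, one_zpow] at h1
    exact absurd h1 (by decide)
  · rw [eq_top_iff, ← cs.subgroup_closure_range_simple, Subgroup.closure_le]
    rintro _ ⟨k, rfl⟩
    have h0 : cs.simple 0 ∈ Subgroup.zpowers (cs.simple 0) ⊔ Subgroup.zpowers (cs.simple 0 * cs.simple 1) :=
      (le_sup_left : Subgroup.zpowers (cs.simple 0) ≤ _) (Subgroup.mem_zpowers _)
    have h01 : cs.simple 0 * cs.simple 1 ∈
        Subgroup.zpowers (cs.simple 0) ⊔ Subgroup.zpowers (cs.simple 0 * cs.simple 1) :=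
      (le_sup_right : Subgroup.zpowers (cs.simple 0 * cs.simple 1) ≤ _) (Subgroup.mem_zpowers _)
    fin_cases k
    · exact h0
    · have h2 := mul_mem h0 h01
      rwa [cs.simple_mul_simple_cancel_left] at h2

/-- the class of a left coset of `⟨sr 0⟩` -/
def cl2 : DihedralGroup 8 → Fin 8
  | .r k => k
  | .sr k => k

theorem cl2_left : ∀ w : DihedralGroup 8, cl2 (.sr 0 * w) = cl2 w := by decide +kernel

theorem cl2_sep : ∀ w w' : DihedralGroup 8, cl2 w = cl2 w' → w' = w ∨ w' = .sr 0 * w := by decide +kernel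

theorem cl2_surj : ∀ i : Fin 8, ∃ w, cl2 w = i := by decide +kernel

section Orb

variable {W : Type v} {Y : Type u} {C : Type*} [Group W] [Group Y] {M : CoxeterMatrix (Fin 2)}
  {cs : CoxeterSystem M W} {p : ℕ} [MulAction Y C] {D : Dat Y (Fin 2) p} {Δ : Bldg cs C} {c : C}
  (S : Bd D Δ c) (e : DihedralGroup 8 ≃* W) (he : e (.sr 0) = cs.simple 0)

include S in
theorem P_out (a : Y) : ∃ g ∈ D.P 0, ((a : Y ⧸ D.P 0)).out = a * g := by
  refine ⟨a⁻¹ * ((a : Y ⧸ D.P 0)).out, ?_, by group⟩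
  rw [← QuotientGroup.eq, QuotientGroup.out_eq']

/-- the invariant -/
noncomputable def inv3 (e : DihedralGroup 8 ≃* W) (Δ : Bldg cs C) (c : C) (z : (Y ⧸ D.P 0) × C) : Fin 8 :=
  cl2 (e.symm (Δ.δ (z.1.out • c) z.2))

include he in
theorem symm_mul (w : W) : cl2 (e.symm (cs.simple 0 * w)) = cl2 (e.symm w) := by
  have hes : e.symm (cs.simple 0) = .sr 0 := by rw [← he, e.symm_apply_apply]
  rw [map_mul, hes, cl2_left]

include S he in
theorem inv3_mk (a : Y) (y : C) : inv3 (D := D) e Δ c ((a : Y ⧸ D.P 0), y) = cl2 (e.symm (Δ.δ (a • c) y)) := by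
  obtain ⟨g, hg, h1⟩ := P_out S a
  unfold inv3
  show cl2 (e.symm (Δ.δ (((a : Y ⧸ D.P 0)).out • c) y)) = _
  rw [h1]
  have h2 : Δ.δ (a • c) ((a * g) • c) = Δ.δ c (g • c) := S.δ_mul a g
  rcases S.P_stab hg with h | h
  · rw [h, Δ.eq_one] at h2
    rw [h2]
  · rw [h] at h2
    have h3 : Δ.δ ((a * g) • c) (a • c) = cs.simple 0 := by rw [Δ.symm, h2, cs.inv_simple]
    rcases Δ.step_left (z := y) h3 with h4 | h4
    · rw [h4, symm_mul e he]
    · rw [h4]

include S he in
theorem card_orbits_mixed : Nat.card (orbitRel.Quotient Y ((Y ⧸ D.P 0) × C)) = 8 := by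
  refine card_orbits Y (inv3 (D := D) e Δ c) ?_ ?_ ?_
  · rintro g ⟨x, y⟩
    induction x using QuotientGroup.induction_on with
    | _ a =>
    show inv3 (D := D) e Δ c (((g * a : Y) : Y ⧸ D.P 0), g • y) = _
    rw [inv3_mk S e he, inv3_mk S e he, mul_smul, S.iso]
  · intro i
    obtain ⟨w, hw⟩ := cl2_surj i
    obtain ⟨y, hy⟩ := Δ.exists_δ c (e w)
    refine ⟨(((1 : Y) : Y ⧸ D.P 0), y), ?_⟩
    rw [inv3_mk S e he, one_smul, hy, e.symm_apply_apply, hw]
  · rintro ⟨x, y⟩ ⟨x', y'⟩ h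
    induction x using QuotientGroup.induction_on with
    | _ a =>
    induction x' using QuotientGroup.induction_on with
    | _ a' =>
    rw [inv3_mk S e he, inv3_mk S e he] at h
    obtain ⟨l, hl, h2⟩ : ∃ l ∈ D.P 0, Δ.δ ((a * l) • c) y = Δ.δ (a' • c) y' := by
      rcases cl2_sep _ _ h with h3 | h3
      · refine ⟨1, one_mem _, ?_⟩
        rw [mul_one]
        exact (e.symm.injective h3).symm
      · obtain ⟨z, hz, hz'⟩ := Δ.exists_step y (a • c) 0
        obtain ⟨g, rfl⟩ := S.trans z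
        refine ⟨a⁻¹ * g, S.mem_P_of ?_, ?_⟩
        · rw [← hz, ← S.iso a, ← mul_smul, mul_inv_cancel_left]
        · have h4 := congrArg e h3
          rw [map_mul, e.apply_symm_apply, e.apply_symm_apply, he] at h4
          rw [mul_inv_cancel_left, Δ.symm y, hz', mul_inv_rev, cs.inv_simple, ← Δ.symm, h4]
    obtain ⟨g, hg1, hg2⟩ := S.tr _ _ _ _ h2
    refine ⟨g, Prod.ext ?_ hg2⟩
    show ((g * a : Y) : Y ⧸ D.P 0) = (a' : Y ⧸ D.P 0)
    rw [eq_comm, QuotientGroup.eq]
    have h6 : a'⁻¹ * (g * (a * l)) ∈ D.B := by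
      rw [S.B, mul_smul, mul_smul, hg1, ← mul_smul, inv_mul_cancel, one_smul]
    have h7 := mul_mem (D.B_le_P 0 h6) (inv_mem hl)
    have e7 : a'⁻¹ * (g * (a * l)) * l⁻¹ = a'⁻¹ * (g * a) := by group
    rwa [e7] at h7

include S he in
/-- **Four constituents.** -/
theorem exists_four [Fintype Y] [Finite C] :
    ∃ χ : Fin 4 → IrrCharacter Y, Function.Injective χ ∧
      ∀ i, (χ i : Y → ℂ) ≠ (1 : Y → ℂ) ∧ classInner (pc Y (Y ⧸ D.P 0)) (χ i : Y → ℂ) ≠ 0 := by
  have h1 := S.card_orbits 0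
  rw [Dih.card_DC e he] at h1
  have h2 := card_orbits_mixed S e he
  have hne : Nonempty C := ⟨c⟩
  refine Rank.exists_four (Y ⧸ D.P 0) C ?_ ?_ h1 ?_
  · intro x y
    exact MulAction.exists_smul_eq Y x y
  · intro x y
    obtain ⟨g, rfl⟩ := S.trans x
    obtain ⟨k, rfl⟩ := S.trans y
    exact ⟨k * g⁻¹, by rw [mul_smul, inv_smul_smul]⟩
  · rw [h2]
    decide

end Orb

end Cfsg.Agent.H195.Dl.TwFBd
end

-- part: H195/Dl/TwF
section
/-!
# `²F₄(q)`, `q ≥ 8`, `p = 2`, for S4769 (helper195)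

Four characters of even degree, invariant under all automorphisms: the nontrivial constituents of the permutation
character on the points of the generalized octagon.
-/

set_option autoImplicit false
set_option linter.unusedSectionVars false
set_option linter.unusedVariables false

namespace Cfsg.Agent.H195.Dl.TwF

open Cfsg Cfsg.Agent.SplitTwo Cfsg.Agent.SplitTwo.ZS Cfsg.Agent.TitsThree.RankTwoZ Cfsg.Agent.KFacts.TwF4
open Cfsg.Agent.KFacts.TwF4.Arc Cfsg.Agent.KFacts.TwF4.Irr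
open Cfsg.Agent.H249 Cfsg.Agent.H392.TwFFour Cfsg.Agent.Tits.Core Cfsg.Agent.Characters.Core
open Cfsg.Agent.H996.Deg Cfsg.Agent.H246.Dl Cfsg.Agent.H464.PermIrr

universe u

section Full

variable {F : Type*} [Field F] {σ : F →+* F} {G : Type u} [Group G] (S : Full σ G)

section Beta

variable {β : MulAut G} {τ : F →+* F} (ho : ∀ a t, β (S.o a t) = S.o a (τ t))
  (he : ∀ a p u, β (S.e a p u) = S.e a (τ p) (τ u))

include ho he

theorem XZ_of (k : ℤ) {x : G} (hx : x ∈ S.XZ k) : β x ∈ S.XZ k := by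
  rcases Int.even_or_odd' k with ⟨a, rfl | rfl⟩
  · obtain ⟨p, u, rfl⟩ := (S.mem_XZ_even a x).1 hx
    rw [he]
    exact (S.mem_XZ_even a _).2 ⟨_, _, rfl⟩
  · obtain ⟨t, rfl⟩ := (S.mem_XZ_odd a x).1 hx
    rw [ho]
    exact (S.mem_XZ_odd a _).2 ⟨_, rfl⟩

theorem X_of (k : ZMod (2 * 8)) {x : G} (hx : x ∈ S.R.X k) : β x ∈ S.R.X k := by
  obtain ⟨k, rfl⟩ := ZMod.intCast_surjective k
  exact XZ_of S ho he k hx

theorem X_iff [Finite G] (k : ZMod (2 * 8)) (x : G) : β x ∈ S.R.X k ↔ x ∈ S.R.X k := by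
  refine ⟨fun h => ?_, X_of S ho he k⟩
  let f : S.R.X k → S.R.X k := fun y => ⟨β y, X_of S ho he k y.2⟩
  have hinj : Function.Injective f := fun y z h => Subtype.ext (β.injective (congrArg Subtype.val h))
  obtain ⟨y, hy⟩ := (Finite.injective_iff_surjective.1 hinj) ⟨β x, h⟩
  have h1 : β y = β x := congrArg Subtype.val hy
  rw [← β.injective h1]
  exact y.2

theorem J_of {x : G} (hx : x ∈ J S.XZ 1 8) : β x ∈ J S.XZ 1 8 := by
  have h1 : J S.XZ 1 8 ≤ (J S.XZ 1 8).comap β.toMonoidHom :=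
    iSup₂_le fun r hr y hy => mem_J (XZ_of S ho he r hy) hr.1 hr.2
  exact h1 hx

theorem maps_map [Finite G] {w : G} {f : ZMod (2 * 8) → ZMod (2 * 8)} (h : Maps S.R.X w f) :
    Maps S.R.X (β w) f := by
  intro k x
  obtain ⟨y, rfl⟩ := β.surjective x
  rw [← map_inv, ← map_mul, ← map_mul, X_iff S ho he, X_iff S ho he, h]

variable [Finite F] [Finite G]

/-- **`β` fixes the double cosets of the Borel subgroup.** -/
theorem dc (hR : S.R.p = 2) (g : G) :
    ∃ a ∈ (datF S hR).B, ∃ b ∈ (datF S hR).B, β g = a * g * b := by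
  have hT : ∀ t ∈ (datF S hR).T, β t ∈ (datF S hR).T := fun t ht => maps_map S ho he (f := id) ht
  have hU : ∀ u ∈ (datF S hR).U, β u ∈ (datF S hR).U := fun u hu => J_of S ho he hu
  have hB : ∀ b ∈ (datF S hR).B, β b ∈ (datF S hR).B := by
    intro b hb
    obtain ⟨t, ht, u, hu, rfl⟩ := (datF S hR).mem_B.1 hb
    rw [map_mul]
    exact mul_mem ((datF S hR).T_le_B (hT t ht)) ((datF S hR).U_le_B (hU u hu))
  obtain ⟨u, hu, k, hk, b, hb, rfl⟩ := (datF S hR).bruhat g
  have hb' : b ∈ (datF S hR).B := hb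
  have ht : k⁻¹ * β k ∈ (datF S hR).T := by
    have hk' : k ∈ Nm S := hk
    obtain ⟨c, hc⟩ := hk'
    show Maps S.R.X (k⁻¹ * β k) id
    have key : ∀ f : ZMod (2 * 8) → ZMod (2 * 8), Maps S.R.X k f → Maps S.R.X (k⁻¹ * β k) id := by
      intro f hf j x
      have h1 := maps_map S ho he hf j x
      have h2 := hf j (k⁻¹ * β k * x * (k⁻¹ * β k)⁻¹)
      have e : k * (k⁻¹ * β k * x * (k⁻¹ * β k)⁻¹) * k⁻¹ = β k * x * (β k)⁻¹ := by group
      rw [e] at h2
      exact h2.symm.trans h1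
    rcases hc with hc | hc
    · exact key _ hc
    · exact key _ hc
  refine ⟨β u * u⁻¹, mul_mem ((datF S hR).U_le_B (hU u hu)) (inv_mem ((datF S hR).U_le_B hu)),
    b⁻¹ * (k⁻¹ * β k) * β b, mul_mem (mul_mem (inv_mem hb') ((datF S hR).T_le_B ht)) (hB b hb'), ?_⟩
  rw [map_mul, map_mul]
  group

end Beta

variable [Finite F] [Finite G]

/-- **The constituents of `1_B^G` are invariant.** -/
theorem inv_aut (hF : ∃ c : Fˣ, c ≠ 1) (hR : S.R.p = 2) {χ : G → ℂ} (hχ : IsIrrCharacter G χ)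
    (h0 : ∑ᶠ b : (datF S hR).B, χ b ≠ 0) (α : MulAut G) (g : G) : χ (α g) = χ g := by
  classical
  have : Fintype (datF S hR).B := Fintype.ofFinite _
  rw [finsum_eq_sum_of_fintype] at h0
  obtain ⟨k, τ, ho, he⟩ := AutNorm.aut_form S hF hR α
  have ho' : ∀ a t, (MulAut.conj k⁻¹ * α) (S.o a t) = S.o a (τ t) := by
    intro a t
    rw [MulAut.mul_apply, ho, MulAut.conj_apply]
    group
  have he' : ∀ a p u, (MulAut.conj k⁻¹ * α) (S.e a p u) = S.e a (τ p) (τ u) := by
    intro a p u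
    rw [MulAut.mul_apply, he, MulAut.conj_apply]
    group
  have h1 := H949.SubInv.inv_of_dc (datF S hR).B hχ h0 (MulAut.conj k⁻¹ * α) (dc S ho' he' hR) g
  rw [← h1, MulAut.mul_apply, MulAut.conj_apply]
  exact (isIrr_isClassFunction hχ _ _).symm

/-- `8` is the order of `n₁ n₂` modulo the torus -/
theorem pow_mem_T (hR : S.R.p = 2) (k : ℕ) : (S.n1 * S.n2) ^ k ∈ (datF S hR).T ↔ 8 ∣ k := by
  have h1 := H996.Deg.TwFFour.rot_pow S k
  constructor
  · intro h
    have h2 : Maps S.R.X ((S.n1 * S.n2) ^ k) id := h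
    obtain ⟨x, hx, hx1⟩ : ∃ x ∈ S.R.X 0, x ≠ 1 := by
      rw [X_eq S 0]
      exact S.zsys8.exists_ne _
    by_contra hk
    have h3 : ((2 * k : ℕ) : ZMod (2 * 8)) ≠ 0 := by
      intro h4
      rw [ZMod.natCast_eq_zero_iff] at h4
      omega
    apply hx1
    have h5 := (h1 0 x).2 hx
    have h6 := (h2 0 x).2 hx
    have h7 := S.X_inf (i := ((2 * k : ℕ) : ZMod (2 * 8)) + 0) (j := id 0) (by rw [add_zero]; exact h3) h5 h6
    have e : x = ((S.n1 * S.n2) ^ k)⁻¹ * ((S.n1 * S.n2) ^ k * x * ((S.n1 * S.n2) ^ k)⁻¹) * (S.n1 * S.n2) ^ k := by group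
    rw [e, h7]
    group
  · intro h
    have h2 : ((2 * k : ℕ) : ZMod (2 * 8)) = 0 := by
      rw [ZMod.natCast_eq_zero_iff]
      omega
    show Maps S.R.X ((S.n1 * S.n2) ^ k) id
    exact h1.congr fun j => by rw [h2, zero_add]; rfl

/-- Constituents of the permutation character on the cosets of `P`. -/
theorem classInner_ne_zero_of_sum {G : Type*} [Group G] [Fintype G] {P : Subgroup G} {χ : G → ℂ}
    (hχ : IsClassFunction G χ) (h : ∑ᶠ x : P, χ x ≠ 0) :
    classInner (fun g : G => (H211.Dl.fixN P g : ℂ)) χ ≠ 0 := by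
  classical
  intro h0
  apply h
  have hc : IsClassFunction G (fun g => starRingEnd ℂ (χ g)) := fun g x => by
    simp only [hχ g x]
  have h1 := H211.Dl.sum_fixN_mul_fun P hc
  rw [classInner_def, mul_eq_zero] at h0
  have h2 : ∑ g : G, (H211.Dl.fixN P g : ℂ) * starRingEnd ℂ (χ g) = 0 :=
    h0.resolve_left (inv_ne_zero card_ne_zero_complex)
  rw [h2, mul_zero, eq_comm, mul_eq_zero] at h1
  have h3 : (∑ g : G, if g ∈ P then starRingEnd ℂ (χ g) else 0) = 0 := h1.resolve_left card_ne_zero_complex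
  rw [H211.Dl.finsum_subgroup_eq]
  have h4 := congrArg (fun z => starRingEnd ℂ z) h3
  simp only [map_sum, map_zero] at h4
  refine Eq.trans (Finset.sum_congr rfl fun g _ => ?_) h4
  split_ifs
  · rw [Complex.conj_conj]
  · rw [map_zero]

/-- **Four invariant characters of even degree.** -/
theorem many (hF : ∃ c : Fˣ, c ≠ 1) (hR : S.R.p = 2) : Many 2 G 4 := by
  classical
  obtain ⟨M, W, iW, iF, cs, Δ, hΔ, hpow⟩ := TwFBd.exists_bd' (datF S hR) (H996.Deg.TwFFour.N_le S hR)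
    (H996.Deg.TwFFour.B_inf_N S hR) (H996.Deg.TwFFour.n_inj S hR)
  have := Fintype.ofFinite G
  have := Fintype.ofFinite W
  have := Fintype.ofFinite (G ⧸ (datF S hR).B)
  have ho : orderOf (cs.simple 0 * cs.simple 1) = 8 := by
    have key : ∀ k : ℕ, (cs.simple 0 * cs.simple 1) ^ k = 1 ↔ 8 ∣ k := fun k =>
      (hpow 0 1 k).trans (pow_mem_T S hR k)
    exact Nat.dvd_antisymm (orderOf_dvd_of_pow_eq_one ((key 8).2 dvd_rfl)) ((key _).1 (pow_orderOf_eq_one _))
  obtain ⟨e, he⟩ := TwFBd.exists_dih_cs cs ho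
  obtain ⟨χ, hinj, hχ⟩ := TwFBd.exists_four hΔ e he
  have hsum : ∀ i, ∑ᶠ x : (datF S hR).B, (χ i : G → ℂ) x ≠ 0 := fun i =>
    H211.Dl.sum_ne_zero_of_le (isIrr_isCharacter (χ i).2) ((datF S hR).B_le_P 0)
      (H211.Dl.sum_ne_zero_of_classInner (isIrr_isClassFunction (χ i).2) (hχ i).2)
  refine ⟨χ, fun i => ?_, fun i j hij σ => ?_⟩
  · exact hΔ.dvd_of_constituent (gen_U S hF hR) (exists_jdat S hF hR) (χ i).2 (hχ i).1
      (classInner_ne_zero_of_sum (isIrr_isClassFunction (χ i).2) (hsum i))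
      (Blocks.Basic.irr_one_eq_charDegree (χ i).2)
  · by_contra hcon
    push Not at hcon
    apply hij
    apply hinj
    apply Subtype.ext
    funext g
    rw [← hcon g]
    exact (inv_aut S hF hR (χ i).2 (hsum i) σ g).symm

end Full

/-- **`²F₄(q)`, `q ≥ 8`, `p = 2`.** -/
theorem row_two {S : Type*} [Group S] [Finite S] (h : Lie.Iso2F4 S) : Row 2 S := by
  have h4 := Cfsg.Agent.H71.Dl.dl_eq_2F4 h
  obtain ⟨K, _, _, m, hm, hK, ⟨e⟩⟩ := h
  have hch := Cfsg.Agent.ChevalleyStructure.TwF4.Twisted.charP_two hK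
  have hfin : Finite ↥(Lie.twistedF4 K (2 ^ m)) := Finite.of_equiv S e.toEquiv
  obtain ⟨φ, hφ⟩ := Cfsg.Agent.ChevalleyStructure.TwF4.TwistedFix.exists_rln hK
  set D := Cfsg.Agent.KFacts.TwF4.Inst.full hK hφ with hS
  have hF := H42.Deg.F4.exists_unit hm hK
  exact Row.of_le h4 (Many.of_equiv e (many D hF rfl)) le_rfl

end Cfsg.Agent.H195.Dl.TwF
end

-- part: H153/Dl/RowFi22
section
/-!
# The row of `Fi22` (S4769; helper153, task DL-SPOR-5)
-/

set_option autoImplicit false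
set_option maxRecDepth 100000
set_option linter.constructorNameAsVariable false

namespace Cfsg.Agent.H153.Dl

open Cfsg Cfsg.Agent.Lib.PermNetPt Cfsg.Agent.H246.Dl Cfsg.Agent.H454.DlCrit Cfsg.Agent.H680.Dl Subgroup

/-! ### Generalities -/

/-- An element permuting at most six elements: one of its first six powers fixes a member. -/
theorem exists_pow_comm {G : Type*} [Group G] {x a : G} {X : Set G} (hX : X.Finite) (h6 : X.ncard ≤ 6) (ha : a ∈ X)
    (hinv : ∀ t ∈ X, x * t * x⁻¹ ∈ X) : ∃ m, 1 ≤ m ∧ m ≤ 6 ∧ x ^ m * a = a * x ^ m := by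
  have hp : ∀ k : ℕ, x ^ k * a * (x ^ k)⁻¹ ∈ X := by
    intro k
    induction k with
    | zero => simpa using ha
    | succ k ih =>
      have h1 := hinv _ ih
      have e : x ^ (k + 1) * a * (x ^ (k + 1))⁻¹ = x * (x ^ k * a * (x ^ k)⁻¹) * x⁻¹ := by
        rw [pow_succ', mul_inv_rev]; group
      rwa [e]
  have := hX.to_subtype
  obtain ⟨i, j, hij, he⟩ : ∃ i j : Fin 7, i ≠ j ∧ (⟨_, hp i⟩ : X) = ⟨_, hp j⟩ := by
    by_contra hcon
    push Not at hcon
    have hinj : Function.Injective (fun k : Fin 7 => (⟨_, hp k⟩ : X)) := by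
      intro i j h
      by_contra hne
      exact hcon i j hne h
    have h7 := Nat.card_le_card_of_injective _ hinj
    rw [Nat.card_eq_fintype_card, Fintype.card_fin] at h7
    have h8 : Nat.card {t // t ∈ X} ≤ 6 := h6
    omega
  have key : ∀ i j : ℕ, i < j → j < 7 → x ^ i * a * (x ^ i)⁻¹ = x ^ j * a * (x ^ j)⁻¹ →
      ∃ m, 1 ≤ m ∧ m ≤ 6 ∧ x ^ m * a = a * x ^ m := by
    intro i j h1 h2 h
    refine ⟨j - i, by omega, by omega, ?_⟩
    have e : x ^ j = x ^ i * x ^ (j - i) := by rw [← pow_add]; congr 1; omega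
    rw [e] at h
    calc x ^ (j - i) * a = (x ^ i)⁻¹ * (x ^ i * x ^ (j - i) * a * (x ^ i * x ^ (j - i))⁻¹) * x ^ i * x ^ (j - i) := by
          group
      _ = (x ^ i)⁻¹ * (x ^ i * a * (x ^ i)⁻¹) * x ^ i * x ^ (j - i) := by rw [h]
      _ = a * x ^ (j - i) := by group
  have he' : x ^ (i : ℕ) * a * (x ^ (i : ℕ))⁻¹ = x ^ (j : ℕ) * a * (x ^ (j : ℕ))⁻¹ := congrArg Subtype.val he
  rcases lt_or_gt_of_ne (fun h : (i : ℕ) = j => hij (Fin.ext h)) with h | h
  · exact key i j h j.2 he'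
  · exact key j i h i.2 he'.symm

theorem three_of_pow {G : Type*} [Group G] {x a : G} (h9 : x ^ 9 = 1) {m : ℕ} (h1 : 1 ≤ m) (h6 : m ≤ 6)
    (h : x ^ m * a = a * x ^ m) : x ^ 3 * a = a * x ^ 3 := by
  have hc : Commute (x ^ m) a := h
  have key : ∀ k : ℕ, (x ^ m) ^ k = x ^ 3 → x ^ 3 * a = a * x ^ 3 := by
    intro k hk
    rw [← hk]
    exact (hc.pow_left k).eq
  have red : ∀ k : ℕ, x ^ (9 * k + 3) = x ^ 3 := by
    intro k
    rw [pow_add, pow_mul, h9, one_pow, one_mul]
  interval_cases m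
  · exact key 3 (by rw [pow_one])
  · exact key 6 (by rw [← pow_mul]; exact red 1)
  · exact key 1 (by rw [pow_one])
  · exact key 3 (by rw [← pow_mul]; exact red 1)
  · exact key 6 (by rw [← pow_mul]; exact red 3)
  · exact key 2 (by rw [← pow_mul]; exact red 1)

theorem exists_pow_orderOf {G : Type*} [Group G] {p n : ℕ} (hp : p.Prime) {x : G} (h : x ^ p ^ n = 1) :
    ∃ j : ℕ, orderOf x = p ^ j := by
  obtain ⟨k, -, hk⟩ := (Nat.dvd_prime_pow hp).1 (orderOf_dvd_of_pow_eq_one h)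
  exact ⟨k, hk⟩

/-- A group with a central element of order 9 and a commuting element of order 3 outside. -/
theorem dvd_card_centralizer {G : Type*} [Group G] [Finite G] {x y : G} (hx : orderOf x = 9) (hy : y ^ 3 = 1)
    (hxy : y * x = x * y) (hn : y ∉ zpowers x) : 27 ∣ Nat.card (centralizer ({x} : Set G)) := by
  set C := centralizer ({x} : Set G) with hC
  have xC : x ∈ C := by rw [hC, mem_centralizer_singleton_iff]
  have yC : y ∈ C := by rw [hC, mem_centralizer_singleton_iff]; exact hxy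
  let x' : C := ⟨x, xC⟩
  let y' : C := ⟨y, yC⟩
  have hN : (zpowers x').Normal := by
    constructor
    rintro _ ⟨k, rfl⟩ g
    have h1 : g * x' = x' * g := Subtype.ext (mem_centralizer_singleton_iff.1 g.2)
    have h2 : g * x' ^ k = x' ^ k * g := ((show Commute g x' from h1).zpow_right k).eq
    show g * x' ^ k * g⁻¹ ∈ _
    rw [h2, mul_inv_cancel_right]
    exact ⟨k, rfl⟩
  have hcN : Nat.card (zpowers x') = 9 := by
    rw [Nat.card_zpowers, Subgroup.orderOf_mk, hx]
  have hq : orderOf (QuotientGroup.mk' (zpowers x') y') = 3 := by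
    apply orderOf_eq_prime
    · rw [← map_pow]
      have : y' ^ 3 = 1 := Subtype.ext hy
      rw [this, map_one]
    · intro h
      rw [← MonoidHom.mem_ker, QuotientGroup.ker_mk'] at h
      obtain ⟨k, hk⟩ := h
      exact hn ⟨k, congrArg Subtype.val hk⟩
  have h3 : 3 ∣ (zpowers x').index := by
    rw [← hq]
    exact orderOf_dvd_natCard _
  rw [← Subgroup.card_mul_index (zpowers x'), hcN]
  exact mul_dvd_mul (dvd_refl 9) h3

/-! ### The transpositions and the points -/

namespace Fi22Row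

open Cfsg.Agent.Fischer.Fi22Perm Cfsg.Agent.Fischer.Fi22Sub3510
open Cfsg.Agent.R08.AutT (T)
open Cfsg.Agent.StdFi22.MainFi22 (bas)
open Cfsg.Agent.OddHalf.D4.Spor.Fi22 (inv_cases comm_tri exists_ncomm comm_w)
open Cfsg.Agent.R01.FiFusion (Tri)
open Cfsg.Agent.R01.FiFacts (Hex)
open Cfsg.Spor.Fi22 (Gen)

theorem isPt_mem {d : Spor.Fi22} {p : ℕ} (h : IsPt22 d p) : d ∈ T ∧ p < 3510 := by
  obtain ⟨g, rfl, rfl⟩ := h
  exact ⟨isConj_iff.2 ⟨g, rfl⟩, main.2.2 g⟩

theorem exists_pt {d : Spor.Fi22} (h : d ∈ T) : ∃ p, IsPt22 d p := by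
  obtain ⟨g, hg⟩ := isConj_iff.1 (show IsConj (g22 .a) d from h)
  exact ⟨_, g, rfl, hg⟩

/-- A transposition has one point. -/
theorem pt_unique {d : Spor.Fi22} {p q : ℕ} (hp : IsPt22 d p) (hq : IsPt22 d q) : p = q := by
  have hex : ∀ p : Fin 3510, ∃ d : T, IsPt22 d p := by
    intro p
    obtain ⟨g, hg⟩ := transitive p p.2
    exact ⟨⟨g * g22 .a * g⁻¹, (isPt_mem ⟨g, hg, rfl⟩).1⟩, g, hg, rfl⟩
  choose f hf using hex
  have hs : Function.Surjective f := by
    intro d
    obtain ⟨p, hp⟩ := exists_pt d.2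
    refine ⟨⟨p, (isPt_mem hp).2⟩, Subtype.ext ((hf _).inj hp)⟩
  have hb := hs.bijective_of_nat_card_le (by
    rw [Nat.card_eq_fintype_card, Fintype.card_fin]
    exact (Cfsg.Agent.R01.Fi22Facts.ncard_T).ge)
  have h1 : (⟨p, (isPt_mem hp).2⟩ : Fin 3510) = ⟨q, (isPt_mem hq).2⟩ := by
    apply hb.1
    exact Subtype.ext (((hf _).inj hp).trans ((hf _).inj hq).symm)
  exact congrArg Fin.val h1

/-- An element commuting with a transposition has a fixed point. -/
theorem Fx_ne_zero {x d : Spor.Fi22} (hd : d ∈ T) (h : x * d = d * x) : R22.Fx x ≠ 0 := by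
  obtain ⟨p, hp⟩ := exists_pt hd
  have h1 : IsPt22 d (φ x p) := by
    have h2 := R22.conj hp x
    rwa [h, mul_inv_cancel_right] at h2
  have h2 : φ x p = p := pt_unique h1 hp
  unfold PR.Fx
  intro h3
  have hfin : {p : ℕ | R22.U.testBit p = true ∧ R22.rho x p = p}.Finite := by
    refine (Set.finite_lt_nat 4096).subset ?_
    rintro q ⟨hq, -⟩
    exact PR.lt_of_bit cnt22 hq
  rw [Set.ncard_eq_zero hfin] at h3
  have h4 : p ∈ {p : ℕ | R22.U.testBit p = true ∧ R22.rho x p = p} := ⟨R22.bit hp, h2⟩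
  rw [h3] at h4
  exact h4

/-- The transpositions commuting with the transpositions commuting with `w`. -/
def Xs (w : Spor.Fi22) : Set Spor.Fi22 := {t | t ∈ T ∧ ∀ s ∈ T, s * w = w * s → t * s = s * t}

theorem Xs_inv {w x : Spor.Fi22} (hxw : x * w = w * x) : ∀ t ∈ Xs w, x * t * x⁻¹ ∈ Xs w := by
  rintro t ⟨ht, h⟩
  refine ⟨bas.conjT x ht, fun s hs hsw => ?_⟩
  have h1 : x⁻¹ * s * x⁻¹⁻¹ ∈ T := bas.conjT x⁻¹ hs
  rw [inv_inv] at h1
  have hxw' : x⁻¹ * w = w * x⁻¹ := by
    calc x⁻¹ * w = x⁻¹ * (w * x) * x⁻¹ := by group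
      _ = x⁻¹ * (x * w) * x⁻¹ := by rw [hxw]
      _ = w * x⁻¹ := by group
  have h2 := h _ h1 (by
    calc x⁻¹ * s * x * w = x⁻¹ * s * (x * w) := by group
      _ = x⁻¹ * (s * w) * x := by rw [hxw]; group
      _ = (x⁻¹ * w) * s * x := by rw [hsw]; group
      _ = w * (x⁻¹ * s * x) := by rw [hxw']; group)
  calc x * t * x⁻¹ * s = x * (t * (x⁻¹ * s * x)) * x⁻¹ := by group
    _ = x * ((x⁻¹ * s * x) * t) * x⁻¹ := by rw [h2]
    _ = s * (x * t * x⁻¹) := by group

theorem Xs_sub {a b c : Spor.Fi22} (ht : Tri T a b c) :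
    a ∈ Xs (a * b * c) ∧ (Xs (a * b * c)).ncard ≤ 6 ∧ (Xs (a * b * c)).Finite := by
  obtain ⟨a', b', c', H⟩ := bas.tf.hex a b c ht
  have hsub : Xs (a * b * c) ⊆ {a, b, c, a', b', c'} := by
    rintro t ⟨htT, h⟩
    by_contra hcon
    simp only [Set.mem_insert_iff, Set.mem_singleton_iff, not_or] at hcon
    obtain ⟨h1, h2, h3, h4, h5, h6⟩ := hcon
    have aw : a * (a * b * c) = a * b * c * a := comm_w bas ht rfl ht.cxy ht.cxw
    have bw : b * (a * b * c) = a * b * c * b := comm_w bas ht ht.cxy.symm rfl ht.cyw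
    have cw : c * (a * b * c) = a * b * c * c := comm_w bas ht ht.cxw.symm ht.cyw.symm rfl
    obtain ⟨s, hs, sa, sb, sc, hne⟩ := exists_ncomm bas H htT (h a ht.mx aw) (h b ht.my bw) (h c ht.mw cw)
      h1 h2 h3 h4 h5 h6
    exact hne (h s hs (comm_w bas ht sa sb sc)).symm
  have hfin : ({a, b, c, a', b', c'} : Set Spor.Fi22).Finite := Set.toFinite _
  refine ⟨⟨ht.mx, fun s hs h => (comm_tri bas ht hs h).1.symm⟩, ?_, hfin.subset hsub⟩
  refine (Set.ncard_le_ncard hsub hfin).trans ?_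
  refine (Set.ncard_insert_le _ _).trans ?_
  have h1 := Set.ncard_insert_le b ({c, a', b', c'} : Set Spor.Fi22)
  have h2 := Set.ncard_insert_le c ({a', b', c'} : Set Spor.Fi22)
  have h3 := Set.ncard_insert_le a' ({b', c'} : Set Spor.Fi22)
  have h4 := Set.ncard_insert_le b' ({c'} : Set Spor.Fi22)
  rw [Set.ncard_singleton] at h4
  omega

/-- **An element of order 9 whose cube commutes with no transposition commutes with no involution.** -/
theorem no_inv {x w : Spor.Fi22} (h9 : x ^ 9 = 1) (h0 : ∀ d ∈ T, x ^ 3 * d ≠ d * x ^ 3) (hw : w * w = 1) (hw1 : w ≠ 1)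
    (hxw : x * w = w * x) : False := by
  rcases inv_cases hw hw1 with h | ⟨a, ha, b, hb, hab, cab, rfl⟩ | ⟨a, b, c, ht, rfl⟩
  · have hc : Commute x w := hxw
    exact h0 w h (hc.pow_left 3).eq
  · have C := Cfsg.Agent.LThreeFi22.Inst.ctx (MulEquiv.refl Spor.Fi22)
    have hT : ∀ t ∈ T, t ∈ Cfsg.Agent.KFacts.FiTT.TK (MulEquiv.refl Spor.Fi22) := fun t ht =>
      (Cfsg.Agent.LThreeFi22.Inst.mem_TK _).2 ht
    rcases C.cz a (hT a ha) b (hT b hb) hab cab x hxw with ⟨h1, -⟩ | ⟨h1, h2⟩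
    · have hc : Commute x a := h1
      exact h0 a ha (hc.pow_left 3).eq
    · have h3 : x ^ 2 * a = a * x ^ 2 := by
        have h4 : x * (x * a * x⁻¹) * x⁻¹ = a := by rw [h1, h2]
        calc x ^ 2 * a = x * (x * a * x⁻¹) * x⁻¹ * x ^ 2 := by rw [pow_two]; group
          _ = a * x ^ 2 := by rw [h4]
      exact h0 a ha (three_of_pow h9 (by norm_num) (by norm_num) h3)
  · obtain ⟨h1, h2, h3⟩ := Xs_sub ht
    obtain ⟨m, hm1, hm6, hm⟩ := exists_pow_comm h3 h2 h1 (Xs_inv hxw)
    exact h0 a ht.mx (three_of_pow h9 hm1 hm6 hm)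

theorem card : Nat.card Spor.Fi22 = 64561751654400 := Fischer.Fi22Order.card_fi22

theorem out : Nat.card (OutQ Spor.Fi22) ≤ 2 := (S2079.result).le

/-! ### The prime 2 -/

set_option Elab.async false in
theorem e22_pow : R22.chkEq (PR.rep 16 E22.xw) [] = true := by (rewrite [show @Cfsg.Agent.H153.Dl.PR.chkEq = delta% @Cfsg.Agent.H153.Dl.PR.chkEq from by delta Cfsg.Agent.H153.Dl.PR.chkEq; rfl, Cfsg.Agent.Lib.PermNetFast.winv_fast]; decide +kernel)

/-- **The row of `Fi22`, `p = 2`.** -/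
theorem row_two : Row 2 Spor.Fi22 := by
  have := fin22
  have hf : Fact (Nat.Prime 2) := ⟨Nat.prime_two⟩
  have h16 : (E22.D.x) ^ 2 ^ 4 = 1 :=
    (R22.word_rep 16 E22.xw).symm.trans ((R22.word_eq_of e22_pow).trans R22.word_nil)
  refine Row.of_le (d := 4) (m := 4) ((dlLe_of_card' (a := 17) ?_).2.1 (by norm_num))
    (Many.of_count_le (exists_pow_orderOf Nat.prime_two h16) out K22.le_k ?_) le_rfl
  · rw [card]; norm_num
  · have h1 : Nat.card (centralizer ({E22.D.x} : Set Spor.Fi22)) ≤ 32 := E22.card_le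
    omega

/-! ### The prime 3 -/

theorem f22_pow : R22.chkEq (PR.rep 9 F22.xw) [] = true := by decide +kernel

set_option Elab.async false in
theorem f22_y : R22.chkEq (PR.rep 3 F22.y0a) [] = true := by (rewrite [show @Cfsg.Agent.H153.Dl.PR.chkEq = delta% @Cfsg.Agent.H153.Dl.PR.chkEq from by delta Cfsg.Agent.H153.Dl.PR.chkEq; rfl, Cfsg.Agent.Lib.PermNetFast.winv_fast]; decide +kernel)

theorem f22_fx : PR.chkP R22 12 1 3 (F22.xw, 0, 0) = true := by decide +kernel

theorem pt_y : chkPt (R22.nw F22.y0a) 502 2213 = true := by decide +kernel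

theorem pt_x3 : chkPt (R22.nw (PR.rep 3 F22.xw)) 502 2832 = true := by decide +kernel

theorem pt_x6 : chkPt (R22.nw (PR.rep 6 F22.xw)) 502 1420 = true := by decide +kernel

theorem x_pow : F22.D.x ^ 9 = 1 :=
  (R22.word_rep 9 F22.xw).symm.trans ((R22.word_eq_of f22_pow).trans R22.word_nil)

theorem x_three : ∀ d ∈ T, F22.D.x ^ 3 * d ≠ d * F22.D.x ^ 3 := by
  intro d hd h
  have h1 := PR.chkP_spec cnt22 f22_fx
  exact Fx_ne_zero hd h (congrArg Prod.snd h1)

theorem x_ne : F22.D.x ^ 3 ≠ 1 := by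
  intro h
  have ha : g22 .a ∈ T := (isPt_mem (isPt22_gen .a)).1
  exact x_three _ ha (by rw [h, one_mul, mul_one])

theorem order_x : orderOf F22.D.x = 9 := by
  have hf : Fact (Nat.Prime 3) := ⟨Nat.prime_three⟩
  exact orderOf_eq_prime_pow (p := 3) (n := 1) (by rw [pow_one]; exact x_ne) x_pow

/-- an element of order 3 commuting with `x` -/
noncomputable def y : Spor.Fi22 := R22.word F22.y0a

theorem y_pow : y ^ 3 = 1 :=
  (R22.word_rep 3 F22.y0a).symm.trans ((R22.word_eq_of f22_y).trans R22.word_nil)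

theorem y_comm : y * F22.D.x = F22.D.x * y := R22.comm_of F22.comm_y0a

theorem rho_pt {l : List R22.Lt} {g : Spor.Fi22} {a b : ℕ} (hg : R22.word l = g)
    (h : chkPt (R22.nw l) a b = true) : R22.rho g a = b := by
  have h1 := chkPt_spec (R22.wok l) h
  rw [← hg, R22.rho_word]
  exact h1

theorem rho_y : R22.rho y 502 = 2213 := rho_pt rfl pt_y

theorem rho_x3 : R22.rho (F22.D.x ^ 3) 502 = 2832 := rho_pt (R22.word_rep 3 F22.xw) pt_x3

theorem rho_x6 : R22.rho (F22.D.x ^ 6) 502 = 1420 := rho_pt (R22.word_rep 6 F22.xw) pt_x6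

theorem y_notMem : y ∉ zpowers F22.D.x := by
  intro h
  have hx := order_x
  obtain ⟨k, hk, hk'⟩ : ∃ k, k < 9 ∧ F22.D.x ^ k = y := by
    obtain ⟨k, hk⟩ := (mem_powers_iff_mem_zpowers.2 h)
    refine ⟨k % 9, Nat.mod_lt _ (by norm_num), ?_⟩
    have h1 := pow_mod_orderOf F22.D.x k
    rw [hx] at h1
    exact h1.trans hk
  have h3 : F22.D.x ^ (k * 3) = 1 := by rw [pow_mul, hk', y_pow]
  have h4 := orderOf_dvd_of_pow_eq_one h3
  rw [hx] at h4
  have h5 : k = 0 ∨ k = 3 ∨ k = 6 := by omega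
  have h6 := rho_y
  rcases h5 with rfl | rfl | rfl
  · rw [← hk', pow_zero, map_one, Equiv.Perm.one_apply] at h6
    norm_num at h6
  · rw [← hk', rho_x3] at h6
    norm_num at h6
  · rw [← hk', rho_x6] at h6
    norm_num at h6

theorem card_x : Nat.card (centralizer ({F22.D.x} : Set Spor.Fi22)) = 27 := by
  have := fin22
  have h1 : 27 ∣ Nat.card (centralizer ({F22.D.x} : Set Spor.Fi22)) :=
    dvd_card_centralizer order_x y_pow y_comm y_notMem
  have h2 : Nat.card (centralizer ({F22.D.x} : Set Spor.Fi22)) ≤ 54 := F22.card_le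
  have h3 : ¬ 2 ∣ Nat.card (centralizer ({F22.D.x} : Set Spor.Fi22)) := by
    intro h
    have hf : Fact (Nat.Prime 2) := ⟨Nat.prime_two⟩
    obtain ⟨w, hw⟩ := exists_prime_orderOf_dvd_card' 2 h
    refine no_inv (w := w) x_pow x_three ?_ ?_ ?_
    · have h4 : (w : Spor.Fi22) ^ 2 = 1 := by
        rw [← Subgroup.coe_pow, ← hw, pow_orderOf_eq_one, Subgroup.coe_one]
      rw [← pow_two, h4]
    · intro h4
      have h5 : w = 1 := Subtype.ext h4
      rw [h5, orderOf_one] at hw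
      norm_num at hw
    · exact (mem_centralizer_singleton_iff.1 w.2).symm
  have h4 : 0 < Nat.card (centralizer ({F22.D.x} : Set Spor.Fi22)) := Nat.card_pos
  omega

/-- **The row of `Fi22`, `p = 3`.** -/
theorem row_three : Row 3 Spor.Fi22 := by
  have := fin22
  have hf : Fact (Nat.Prime 3) := ⟨Nat.prime_three⟩
  refine Row.of_le (d := 3) (m := 3) ((dlLe_of_card' (a := 9) ?_).1 (by norm_num))
    (Many.of_count_le ⟨2, by rw [order_x]; norm_num⟩ out K22.le_k ?_) le_rfl
  · rw [card]; norm_num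
  · rw [card_x]
    norm_num

end Fi22Row

open Fi22Row in
/-- **The row of `Fi22`** (S4769). -/
theorem row_fi22 {S : Type*} [Group S] [Finite S] (h : Spor.IsoFi22 S) {p : ℕ} (hp : p.Prime) (hd : p ∣ Nat.card S) :
    Row p S := by
  have hf : Fact p.Prime := ⟨hp⟩
  have him : H33.IM p S := H870.IMFi22.im_fi22 h hd
  obtain ⟨e⟩ := h
  have hc : Nat.card S = 64561751654400 := (Nat.card_congr e.toEquiv).trans card
  rw [hc] at hd
  by_cases h2 : p = 2
  · subst h2; exact Row.of_equiv e row_two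
  by_cases h3 : p = 3
  · subst h3; exact Row.of_equiv e row_three
  refine Row.of_im (dlLe_one (a := 2) le_rfl ?_) him
  rw [hc]
  intro h4
  have hd' : p ∣ 2 ^ 17 * (3 ^ 9 * (5 ^ 2 * (7 * (11 * 13)))) := by
    rw [show 2 ^ 17 * (3 ^ 9 * (5 ^ 2 * (7 * (11 * 13)))) = 64561751654400 by norm_num]
    exact hd
  have key : p = 5 ∨ p = 7 ∨ p = 11 ∨ p = 13 := by
    rcases hp.dvd_mul.1 hd' with h | h
    · exact absurd ((Nat.prime_dvd_prime_iff_eq hp Nat.prime_two).1 (hp.dvd_of_dvd_pow h)) h2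
    rcases hp.dvd_mul.1 h with h | h
    · exact absurd ((Nat.prime_dvd_prime_iff_eq hp Nat.prime_three).1 (hp.dvd_of_dvd_pow h)) h3
    rcases hp.dvd_mul.1 h with h | h
    · exact Or.inl ((Nat.prime_dvd_prime_iff_eq hp (by norm_num)).1 (hp.dvd_of_dvd_pow h))
    rcases hp.dvd_mul.1 h with h | h
    · exact Or.inr (Or.inl ((Nat.prime_dvd_prime_iff_eq hp (by norm_num)).1 h))
    rcases hp.dvd_mul.1 h with h | h
    · exact Or.inr (Or.inr (Or.inl ((Nat.prime_dvd_prime_iff_eq hp (by norm_num)).1 h)))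
    · exact Or.inr (Or.inr (Or.inr ((Nat.prime_dvd_prime_iff_eq hp (by norm_num)).1 h)))
  rcases key with rfl | rfl | rfl | rfl <;> norm_num at h4

end Cfsg.Agent.H153.Dl
end
end

-- part: H669/Dl/J4
section
prune_inst 0x8000000000000000000000000000014410000
set_option linter.all false
open scoped Cfsg.Agent.FastGrp

/-!
# S4769: the row of `J4` (helper669, task 2519)
-/

set_option autoImplicit false
set_option maxRecDepth 100000

namespace Cfsg.Agent.H669.Dl.J4

open Cfsg Subgroup Cfsg.Agent.H246.Dl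

universe u

/-! ### The 2-part of a centralizer -/

/-- the 2-part of the centralizer of a 2-element `x` from a subgroup of odd index -/
theorem factorization_le {G : Type*} [Group G] [Finite G] (K : Subgroup G) (hK : ¬ 2 ∣ K.index) {x : G} {n k : ℕ}
    (hx : x ^ 2 ^ n = 1) (h : ∀ g : G, g⁻¹ * x * g ∈ K →
      Nat.card {s : G // s ∈ K ∧ s * (g⁻¹ * x * g) = (g⁻¹ * x * g) * s} ≤ 2 ^ k) :
    (Nat.card (centralizer ({x} : Set G))).factorization 2 ≤ k := by
  classical
  have h2F : Fact (Nat.Prime 2) := ⟨Nat.prime_two⟩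
  have hxC : x ∈ centralizer ({x} : Set G) := mem_centralizer_singleton_iff.2 rfl
  have hz : IsPGroup 2 (zpowers (⟨x, hxC⟩ : centralizer ({x} : Set G))) :=
    H860.TwoElem.isPGroup_zpowers_pow (n := n) (Subtype.ext hx)
  obtain ⟨P, hP⟩ := hz.exists_le_sylow
  have hP2 : IsPGroup 2 ((P : Subgroup (centralizer ({x} : Set G))).map (centralizer ({x} : Set G)).subtype) :=
    P.isPGroup'.map _
  obtain ⟨a, ha⟩ := hP2.nonempty_fixed_point_of_prime_not_dvd_card (G ⧸ K) hK
  obtain ⟨g, rfl⟩ := QuotientGroup.mk_surjective a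
  have hmem : ∀ s : (P : Subgroup (centralizer ({x} : Set G))), g⁻¹ * ((s : centralizer ({x} : Set G)) : G) * g ∈ K := by
    intro s
    have h1 := ha ⟨((s : centralizer ({x} : Set G)) : G), mem_map_of_mem _ s.2⟩
    have h' : (QuotientGroup.mk (((s : centralizer ({x} : Set G)) : G) * g) : G ⧸ K) = QuotientGroup.mk g := h1
    rw [QuotientGroup.eq] at h'
    have h2 := K.inv_mem h'
    have e : ((((s : centralizer ({x} : Set G)) : G) * g)⁻¹ * g)⁻¹ =
        g⁻¹ * ((s : centralizer ({x} : Set G)) : G) * g := by group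
    rwa [e] at h2
  have hxK : g⁻¹ * x * g ∈ K := hmem ⟨⟨x, hxC⟩, hP (mem_zpowers _)⟩
  have hcomm : ∀ s : (P : Subgroup (centralizer ({x} : Set G))),
      (g⁻¹ * ((s : centralizer ({x} : Set G)) : G) * g) * (g⁻¹ * x * g) =
      (g⁻¹ * x * g) * (g⁻¹ * ((s : centralizer ({x} : Set G)) : G) * g) := by
    intro s
    have h1 : ((s : centralizer ({x} : Set G)) : G) * x = x * ((s : centralizer ({x} : Set G)) : G) :=
      mem_centralizer_singleton_iff.1 s.1.2
    calc (g⁻¹ * ((s : centralizer ({x} : Set G)) : G) * g) * (g⁻¹ * x * g) =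
        g⁻¹ * (((s : centralizer ({x} : Set G)) : G) * x) * g := by group
      _ = g⁻¹ * (x * ((s : centralizer ({x} : Set G)) : G)) * g := by rw [h1]
      _ = _ := by group
  have h1 := Nat.card_le_card_of_injective (fun s : (P : Subgroup (centralizer ({x} : Set G))) =>
    (⟨g⁻¹ * ((s : centralizer ({x} : Set G)) : G) * g, hmem s, hcomm s⟩ :
      {s : G // s ∈ K ∧ s * (g⁻¹ * x * g) = (g⁻¹ * x * g) * s})) (by
      intro s s' hs
      have h2 := congrArg Subtype.val hs
      exact Subtype.ext (Subtype.ext (mul_left_cancel (mul_right_cancel h2))))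
  have h2 := h1.trans (h g hxK)
  rw [P.card_eq_multiplicity] at h2
  exact (Nat.pow_le_pow_iff_right (by norm_num)).1 h2

/-! ### Elements of order 16 of `J4` -/

open Cfsg.Agent.J4.Rep112 Cfsg.Agent.J4.Classes Cfsg.Agent.H860.PartFiveSeven
open Cfsg.Agent.J4.Lower (qs)

theorem factorization_sixteen {x : Spor.J4} (hx : orderOf x = 16) :
    (Nat.card (centralizer ({x} : Set Spor.J4))).factorization 2 ≤ 5 := by
  have inj := Cfsg.Agent.H858.VK.rho_injective
  have hodd := H860.FusTen.odd_index H860.Sixty.not_two_pow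
  have hR : Finite rho.range := inferInstance
  set K : Subgroup Spor.J4 := (NN qs psi).comap rho with hK
  have hidx : ¬ 2 ∣ K.index := by
    have h1 : K.index = ((NN qs psi).subgroupOf rho.range).index := by
      have h2 : K = ((NN qs psi).subgroupOf rho.range).comap rho.rangeRestrict := by
        ext y
        rfl
      rw [h2, index_comap_of_surjective _ rho.rangeRestrict_surjective]
    rw [h1]
    exact hodd
  refine factorization_le K hidx (n := 4) (by rw [show 2 ^ 4 = 16 from rfl, ← hx, pow_orderOf_eq_one]) ?_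
  intro g hg
  have h16 : orderOf (rho (g⁻¹ * x * g)) = 16 := by
    rw [orderOf_injective rho inj, ← hx]
    have h1 := MulEquiv.orderOf_eq (MulAut.conj g⁻¹) x
    rw [← h1]
    simp
  have h1 := card_le hyp (u := rho (g⁻¹ * x * g)) hg h16
  refine le_trans (Nat.card_le_card_of_injective (fun s => (⟨rho s.1, s.2.1, by
    rw [← map_mul, s.2.2, map_mul]⟩ : {s : Matrix.GeneralLinearGroup (Fin 112) (ZMod 2) // s ∈ NN qs psi ∧
      s * rho (g⁻¹ * x * g) = rho (g⁻¹ * x * g) * s})) ?_) h1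
  intro s s' hs
  exact Subtype.ext (inj (congrArg Subtype.val hs))

/-! ### No element of odd prime order commutes with an element of order 16 -/

open Cfsg.Agent.H860.PairGroup Cfsg.Agent.H860.JData Cfsg.Agent.SporadicStructure.M24El in
/-- exponent of a table group -/
theorem pow_tab {G : Type*} [Group G] [Finite G] {R : Subgroup G} {l : List G} {phi : M24 →* G} {T : Tab}
    (H : Cfsg.Agent.J4.ClassesAbs.Hyp R l phi) {p q : ℕ}
    (h : T.treeOk = true) (hc : T.closedOk = true) (hcov : T.coverOk p = true) (hrep : T.repsOk q = true)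
    {a : G} (ha : a ∈ Tab.K T l phi) : a ^ (p * q) = 1 := by
  unfold Tab.coverOk at hcov
  rw [Bool.and_eq_true, List.all_eq_true, List.all_eq_true] at hcov
  obtain ⟨hr, hcov⟩ := hcov
  have hr' : ∀ k < T.reps.length, T.r k < T.n := fun k hk => by
    have := hr k (List.mem_range.2 hk)
    rwa [Nat.blt_eq] at this
  unfold Tab.repsOk at hrep
  rw [List.all_eq_true] at hrep
  obtain ⟨i, hi, rfl⟩ := Tab.exists_x H h hc ha
  have h1 := hcov i (List.mem_range.2 hi)
  rcases hl : Nat.blt (H860.Orb.tget T.lab 4 i) T.reps.length with _ | _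
  · rw [hl, cond_false, Bool.and_eq_true, Bool.not_eq_true'] at h1
    have h2 : E l phi (T.x i) ^ p = 1 := by
      rw [← (Tab.E_pw H (Tab.x_ok h hi) p).2, eqc_eq h1.1, E_one]
    rw [pow_mul, h2, one_pow]
  · rw [hl, cond_true, Bool.and_eq_true, Nat.blt_eq] at h1
    have hl' : H860.Orb.tget T.lab 4 i < T.reps.length := by rwa [Nat.blt_eq] at hl
    have h2 := congrArg (E l phi) (eqc_eq h1.2)
    rw [E_mul H (Tab.x_ok h h1.1) (Tab.x_ok h hi), E_mul H (Tab.x_ok h (hr' _ hl')) (Tab.x_ok h h1.1)] at h2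
    have h3 := hrep _ (List.mem_range.2 hl')
    rw [Bool.and_eq_true] at h3
    have h4 : E l phi (T.x (T.r (H860.Orb.tget T.lab 4 i))) ^ q = 1 := by
      rw [← (Tab.E_pw H (Tab.x_ok h (hr' _ hl')) q).2, eqc_eq h3.1, E_one]
    have h5 : E l phi (T.x i) ^ q = 1 := by
      set c := E l phi (T.x (H860.Orb.tget T.cj 11 i)) with hc'
      have h6 : E l phi (T.x i) = c⁻¹ * E l phi (T.x (T.r (H860.Orb.tget T.lab 4 i))) * (c⁻¹)⁻¹ := by
        rw [inv_inv, mul_assoc, ← h2]
        group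
      rw [h6, conj_pow, h4]
      group
    rw [mul_comm, pow_mul, h5, one_pow]

/-- exponent of `J` -/
theorem pow_J {b : Spor.J4} (hb : b ∈ H858.Loc5.J) : b ^ 168 = 1 := by
  apply Cfsg.Agent.H858.VK.rho_injective
  rw [map_pow, map_one]
  have h1 : rho b ∈ H860.PairGroup.Tab.K H860.JData.TJ qs psi := by
    rw [← H860.JJ4.map_J]
    exact mem_map_of_mem _ hb
  exact pow_tab (p := 7) (q := 24) hyp H860.JTab.tree H860.JTab.closed H860.JTab.cover H860.JTab.reps h1

/-- a conjugate of `x` in the centralizer of a conjugate -/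
theorem comm_of_isConj {G : Type*} [Group G] {x w v : G} (hwx : w * x = x * w) (h : IsConj w v) :
    ∃ g : G, (g * x * g⁻¹) * v = v * (g * x * g⁻¹) := by
  obtain ⟨g, rfl⟩ := isConj_iff.1 h
  refine ⟨g, ?_⟩
  calc g * x * g⁻¹ * (g * w * g⁻¹) = g * (x * w) * g⁻¹ := by group
    _ = g * (w * x) * g⁻¹ := by rw [hwx]
    _ = g * w * g⁻¹ * (g * x * g⁻¹) := by group

theorem order_conj {G : Type*} [Group G] (g x : G) : orderOf (g * x * g⁻¹) = orderOf x :=
  MulEquiv.orderOf_eq (MulAut.conj g) x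

theorem not_odd {x w : Spor.J4} (hx : orderOf x = 16) {r : ℕ} (hr : r.Prime) (hr2 : r ≠ 2) (hw : orderOf w = r)
    (hwx : w * x = x * w) : False := by
  have hd : r ∣ Nat.card Spor.J4 := hw ▸ orderOf_dvd_natCard w
  have hdvd : ∀ v : Spor.J4, IsConj w v → 16 ∣ Nat.card (centralizer ({v} : Set Spor.J4)) := by
    intro v hv
    obtain ⟨g, hg⟩ := comm_of_isConj hwx hv
    have h1 := orderOf_dvd_natCard (⟨g * x * g⁻¹, mem_centralizer_singleton_iff.2 hg⟩ :
      centralizer ({v} : Set Spor.J4))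
    rwa [Subgroup.orderOf_mk, order_conj, hx] at h1
  rw [card_J4, show (86775571046077562880 : ℕ) =
    2 ^ 21 * (3 ^ 3 * (5 * (7 * (11 ^ 3 * (23 * (29 * (31 * (37 * 43)))))))) by norm_num] at hd
  have hbig : 23 ≤ r → False := by
    intro h23
    have h8 : orderOf (x ^ 8) = 2 := by
      rw [orderOf_pow, hx]
      norm_num
    refine H859.BigPrime.not_comm_two hr h23 hw h8 ?_
    exact (Commute.pow_right (show Commute w x from hwx) 8).eq
  rcases hr.dvd_mul.1 hd with h2 | hd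
  · exact hr2 ((Nat.prime_dvd_prime_iff_eq hr Nat.prime_two).1 (hr.dvd_of_dvd_pow h2))
  rcases hr.dvd_mul.1 hd with h3 | hd
  · obtain rfl := (Nat.prime_dvd_prime_iff_eq hr Nat.prime_three).1 (hr.dvd_of_dvd_pow h3)
    obtain ⟨hfin, -, ⟨F⟩⟩ := KFacts.J4.Base.exists_full (K := Cfsg.Spor.J4) ⟨MulEquiv.refl _⟩
    obtain ⟨g, hg⟩ := comm_of_isConj hwx (H856.SylowThree.one_class F.C hw F.C.ρ_order)
    have hx16 : (g * x * g⁻¹) ^ 2 ^ 4 = 1 := by
      rw [show 2 ^ 4 = 16 from rfl, ← hx, ← order_conj g x, pow_orderOf_eq_one]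
    obtain ⟨d, -, i, hi⟩ := H865.RhoTwo.exists_rr F.C hg hx16
    have h1 := H865.RhoTwo.rr_pow F.C i
    rw [← hi, ← orderOf_dvd_iff_pow_eq_one, order_conj, order_conj, hx] at h1
    norm_num at h1
  rcases hr.dvd_mul.1 hd with h5 | hd
  · obtain rfl := (Nat.prime_dvd_prime_iff_eq hr Nat.prime_five).1 h5
    have hf : orderOf H858.Elem.f = 5 := by
      have : Fact (Nat.Prime 5) := ⟨Nat.prime_five⟩
      exact orderOf_eq_prime H858.Elem.f_pow H858.Loc5.f_ne
    have h1 : IsConj w H858.Elem.f := H860.CountDirect.isConj_of_nc_one nc_five_eq hw hf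
    obtain ⟨g, hg⟩ := comm_of_isConj hwx h1
    have h2 : g * x * g⁻¹ ∈ centralizer (H858.Loc5.F5 : Set Spor.J4) := by
      unfold H858.Loc5.F5
      rw [H858.NormC.centralizer_zpowers]
      exact mem_centralizer_singleton_iff.2 hg
    obtain ⟨a, ha, b, hb, hab⟩ := H860.CountDirect.exists_mul H858.Loc5.directProduct h2
    have hcomm : Commute a b := H858.Loc5.directProduct.2.2.1 a ha b hb
    have ha5 : a ^ 5 = 1 := by
      have h3 : (⟨a, ha⟩ : H858.Loc5.F5) ^ Nat.card H858.Loc5.F5 = 1 := pow_card_eq_one'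
      rw [H858.Loc5.card_F5] at h3
      exact congrArg Subtype.val h3
    have h3 : (g * x * g⁻¹) ^ 840 = 1 := by
      rw [hab, hcomm.mul_pow, show 840 = 5 * 168 from rfl, pow_mul, ha5, one_pow, one_mul, mul_comm, pow_mul,
        pow_J hb, one_pow]
    rw [← orderOf_dvd_iff_pow_eq_one, order_conj, hx] at h3
    norm_num at h3
  rcases hr.dvd_mul.1 hd with h7 | hd
  · obtain rfl := (Nat.prime_dvd_prime_iff_eq hr (by norm_num)).1 h7
    have : Fact (Nat.Prime 7) := ⟨by norm_num⟩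
    have h49 : ¬ 7 * 7 ∣ Nat.card Cfsg.Spor.J4 := by rw [card_J4]; norm_num
    have hc : Nat.card (Subgroup.zpowers w) = 7 := by rw [Nat.card_zpowers, hw]
    obtain ⟨g, hg⟩ := H858.Abs.exists_conj_prime (p := 7) H858.Norm57.card_S7 hc h49
    have h1 : Nat.card (centralizer ({w} : Set Spor.J4)) = 840 := by
      rw [← H858.NormC.centralizer_zpowers, ← H858.Loc7.card_C, ← hg]
      rw [← H858.Abs.map_centralizer_equiv (MulAut.conj g) H858.Norm57.S7]
      exact Nat.card_congr ((centralizer (H858.Norm57.S7 : Set Spor.J4)).equivMapOfInjective _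
        (MulAut.conj g).injective).symm.toEquiv
    have h2 := hdvd w (IsConj.refl w)
    rw [h1] at h2
    norm_num at h2
  rcases hr.dvd_mul.1 hd with h11 | hd
  · obtain rfl := (Nat.prime_dvd_prime_iff_eq hr (by norm_num)).1 (hr.dvd_of_dvd_pow h11)
    rcases H859.ClassEleven.isConj_or hw with h | h
    · have h2 := hdvd _ h
      rw [H859.SylEleven.card_centralizer_x_eq] at h2
      norm_num at h2
    · have h2 := hdvd _ h
      have h3 : Nat.card (centralizer ({H859.NU.c} : Set Spor.J4)) = 24 * 11 ^ 3 := H859.CentC.card_D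
      rw [h3] at h2
      norm_num at h2
  apply hbig
  have hrp : ∀ q : ℕ, q.Prime → 23 ≤ q → r ∣ q → 23 ≤ r := fun q hq hq2 h => by
    rwa [(Nat.prime_dvd_prime_iff_eq hr hq).1 h]
  rcases hr.dvd_mul.1 hd with h | hd
  · exact hrp _ (by norm_num) (by norm_num) h
  rcases hr.dvd_mul.1 hd with h | hd
  · exact hrp _ (by norm_num) (by norm_num) h
  rcases hr.dvd_mul.1 hd with h | hd
  · exact hrp _ (by norm_num) (by norm_num) h
  rcases hr.dvd_mul.1 hd with h | hd
  · exact hrp _ (by norm_num) (by norm_num) h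
  · exact hrp _ (by norm_num) (by norm_num) hd

/-- the centralizer of an element of order 16 is a 2-group -/
theorem isPGroup_centralizer {x : Spor.J4} (hx : orderOf x = 16) : IsPGroup 2 (centralizer ({x} : Set Spor.J4)) := by
  have h2F : Fact (Nat.Prime 2) := ⟨Nat.prime_two⟩
  refine IsPGroup.of_card (n := _) (Nat.eq_prime_pow_of_unique_prime_dvd Nat.card_pos.ne' fun {r} hr hd => ?_)
  by_contra hne
  have hF : Fact r.Prime := ⟨hr⟩
  obtain ⟨w, hw⟩ := exists_prime_orderOf_dvd_card' r hd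
  exact not_odd hx hr hne (w := w) (by rw [Subgroup.orderOf_coe, hw]) (mem_centralizer_singleton_iff.1 w.2)

theorem exists_sixteen : ∃ x : Spor.J4, orderOf x = 16 := by
  obtain ⟨x, hx⟩ := H860.TenNon.rep_mem 9
  refine ⟨x, ?_⟩
  rw [← orderOf_injective rho Cfsg.Agent.H858.VK.rho_injective, hx, H860.TenNon.order_rep 9 (by norm_num)]
  rfl

theorem many_two : Many 2 Spor.J4 4 := by
  have h2F : Fact (Nat.Prime 2) := ⟨Nat.prime_two⟩
  obtain ⟨x, hx⟩ := exists_sixteen
  refine H454.DlCrit.Many.of_count_le' (o := 1) (c := 62) (b := 32) (x := x) ⟨4, by rw [hx]; rfl⟩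
    (H454.DlCrit.card_out_of_inner (H419.Row.inner_of_out S2068.result))
    (ge_of_eq H877.IMJ4.card_classes) ?_ (by norm_num)
  rw [H593.IMCount.numReg_eq_one (isPGroup_centralizer hx), mul_one]
  exact (Nat.pow_le_pow_right (by norm_num) (factorization_sixteen hx)).trans (by norm_num)

/-- **the row of the presented group**; for `p = 3, 11` two characters are assumed -/
theorem row_model {p : ℕ} (hp : p.Prime) (hd : p ∣ Nat.card Spor.J4)
    (hT : p = 3 ∨ p = 11 → H596.OneFacts.Two p Spor.J4) : Row p Spor.J4 := by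
  have : Fact p.Prime := ⟨hp⟩
  have hd' := hd
  rw [card_J4, show (86775571046077562880 : ℕ) =
    2 ^ 21 * (3 ^ 3 * (5 * (7 * (11 ^ 3 * (23 * (29 * (31 * (37 * 43)))))))) by norm_num] at hd
  have hone : ∀ q : ℕ, q.Prime → ¬ q ^ 2 ∣ Nat.card Spor.J4 → p ∣ q → Row p Spor.J4 := by
    intro q hq h2 hpq
    obtain rfl := (Nat.prime_dvd_prime_iff_eq hp hq).1 hpq
    exact Row.of_im (H680.Dl.dlLe_one (a := 1) (by norm_num) h2)
      (H877.IMJ4.im_model hp hd')
  rcases hp.dvd_mul.1 hd with h2 | hd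
  · obtain rfl := (Nat.prime_dvd_prime_iff_eq hp Nat.prime_two).1 (hp.dvd_of_dvd_pow h2)
    exact ⟨4, (H680.Dl.dlLe_of_card' (a := 21) (by rw [card_J4]; norm_num)).2.1 (by norm_num), many_two⟩
  rcases hp.dvd_mul.1 hd with h3 | hd
  · obtain rfl := (Nat.prime_dvd_prime_iff_eq hp Nat.prime_three).1 (hp.dvd_of_dvd_pow h3)
    exact Row.of_twoStrict (H680.Dl.dlLe_two (a := 3) (by norm_num) (by rw [card_J4]; norm_num)) (hT (Or.inl rfl))
  rcases hp.dvd_mul.1 hd with h5 | hd
  · exact hone 5 (by norm_num) (by rw [card_J4]; norm_num) h5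
  rcases hp.dvd_mul.1 hd with h7 | hd
  · exact hone 7 (by norm_num) (by rw [card_J4]; norm_num) h7
  rcases hp.dvd_mul.1 hd with h11 | hd
  · obtain rfl := (Nat.prime_dvd_prime_iff_eq hp (by norm_num)).1 (hp.dvd_of_dvd_pow h11)
    exact Row.of_twoStrict (H680.Dl.dlLe_two (a := 3) (by norm_num) (by rw [card_J4]; norm_num)) (hT (Or.inr rfl))
  rcases hp.dvd_mul.1 hd with h | hd
  · exact hone 23 (by norm_num) (by rw [card_J4]; norm_num) h
  rcases hp.dvd_mul.1 hd with h | hd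
  · exact hone 29 (by norm_num) (by rw [card_J4]; norm_num) h
  rcases hp.dvd_mul.1 hd with h | hd
  · exact hone 31 (by norm_num) (by rw [card_J4]; norm_num) h
  rcases hp.dvd_mul.1 hd with h | h
  · exact hone 37 (by norm_num) (by rw [card_J4]; norm_num) h
  · exact hone 43 (by norm_num) (by rw [card_J4]; norm_num) h

end Cfsg.Agent.H669.Dl.J4
end

-- part: H941/Dl/PresG2
section
set_option linter.all false
open scoped Cfsg.Agent.FastGrp

/-!
# Type preservation for `G₂(q)` (`3 ∤ q`) and `³D₄(q)`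
-/

set_option autoImplicit false
set_option linter.unusedSectionVars false

namespace Cfsg.Agent.H941.Dl

open CoxeterSystem Cfsg.Agent.ChevalleyStructure.CoxeterGeom Cfsg.Agent.Tits.Roots Cfsg.Agent.Tits.Core
  Cfsg.Agent.Tits.Exchange Cfsg.Agent.Nodes.Reps Cfsg.Agent.Nodes.BNOf Cfsg.Agent.Nodes.StabComb
  Cfsg.Agent.Nodes.Bruhat Cfsg.Agent.Nodes.OppDec Cfsg.Agent.Nodes.LeviDec Cfsg.Agent.Nodes.NormalForm
  Cfsg.Agent.KFacts.RgdOpp Cfsg.Agent.KFacts.RgdAut Cfsg.Agent.KFacts.RgdDiag Cfsg.Agent.KFacts.RgdSyl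
  Cfsg.Agent.KFacts.RgdNodes
open Cfsg Cfsg.Lie Cfsg.Agent.Nodes Cfsg.Agent.Nodes.RGDChev Cfsg.Agent.Omega.EH3.Kf
open Cfsg.Agent.H430.CfChev (mem_XX_top_iff cenOk chkcG2 alG2 inG2)

universe u

/-- **Type preservation for `G₂(q)`, `3 ∤ q`.** -/
theorem pres_G2 (K : Type u) [Field K] [Finite K] (p : ℕ) [hpp : Fact p.Prime] [CharP K p] (h3 : (3 : K) ≠ 0)
    (α : MulAut ↥(chevG2.group K)) (J : Set (Fin 2)) :
    ∃ g : ↥(chevG2.group K), (PJ CoxeterMatrix.G₂.toCoxeterSystem FamG2.isType.isCartan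
        ((chevG2.diagonalSubgroup K).subgroupOf (chevG2.group K))
        (fun x => (XV chevG2 2 K x).subgroupOf (chevG2.group K)) J).map α.toMonoidHom =
      (PJ CoxeterMatrix.G₂.toCoxeterSystem FamG2.isType.isCartan
        ((chevG2.diagonalSubgroup K).subgroupOf (chevG2.group K))
        (fun x => (XV chevG2 2 K x).subgroupOf (chevG2.group K)) J).map (MulAut.conj g).toMonoidHom := by
  have hW : Finite CoxeterMatrix.G₂.Group := finite_W FamG2.isType CoxeterMatrix.G₂.toCoxeterSystem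
  have R := rgd (K := K) FamG2.isType CoxeterMatrix.G₂.toCoxeterSystem p
  have hG : GG CoxeterMatrix.G₂.toCoxeterSystem FamG2.isType.isCartan
      ((chevG2.diagonalSubgroup K).subgroupOf (chevG2.group K))
      (fun x => (XV chevG2 2 K x).subgroupOf (chevG2.group K)) = ⊤ :=
    KFacts.RgdRigid.GG_eq_top (G1_eq_top FamG2.isType _)
  have hb := isRoot_vec FamG2.isType CoxeterMatrix.G₂.toCoxeterSystem (r := 11) (by decide)
  have hU := H115.sup_pos_eq (K := K) FamG2.isType CoxeterMatrix.G₂.toCoxeterSystem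
  have hX : (XV chevG2 2 K (vec chevG2 2 11)).subgroupOf (chevG2.group K) =
      (chevG2.rootSubgroup K 11).subgroupOf (chevG2.group K) := by
    rw [XV_vec FamG2.isType K (by decide)]
  have hinv : ∀ β : MulAut ↥(chevG2.group K), Fix β (RGD.Sup (fun x => (XV chevG2 2 K x).subgroupOf (chevG2.group K))
      (RGD.Pos CoxeterMatrix.G₂.toCoxeterSystem FamG2.isType.isCartan)) →
      Fix β ((XV chevG2 2 K (vec chevG2 2 11)).subgroupOf (chevG2.group K)) := by
    intro β hβ
    rw [hU] at hβ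
    rw [hX]
    have key : ∀ g : ↥(chevG2.group K), g ∈ (chevG2.rootSubgroup K 11).subgroupOf (chevG2.group K) ↔
        g ∈ (chevG2.posUnipotent K).subgroupOf (chevG2.group K) ∧
          ∀ u ∈ (chevG2.posUnipotent K).subgroupOf (chevG2.group K), u * g = g * u := by
      intro g
      exact mem_XX_top_iff inG2 (cenOk inG2 chkcG2) (by
        intro c hc
        simp only [List.mem_cons, List.not_mem_nil, or_false] at hc
        rcases hc with rfl | rfl | rfl | rfl <;> simp [h3]) g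
    intro x
    rw [key, key, hβ]
    refine and_congr_right fun _ => ⟨fun h u hu => ?_, fun h u hu => ?_⟩
    · have h1 := h (β u) ((hβ u).2 hu)
      rw [← map_mul, ← map_mul] at h1
      exact β.injective h1
    · obtain ⟨v, rfl⟩ := β.surjective u
      rw [← map_mul, ← map_mul, h v ((hβ v).1 hu)]
  refine type_pres_two R hG hb hinv ?_ (i := 0) (j := 1) (by decide) ?_ ?_ α J
  · intro b hb'
    have h1 : Fix (MulAut.conj b) (RGD.Sup (fun x => (XV chevG2 2 K x).subgroupOf (chevG2.group K))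
        (RGD.Pos CoxeterMatrix.G₂.toCoxeterSystem FamG2.isType.isCartan)) := fun x =>
      (Subgroup.mem_normalizer_iff.1 (R.B_le_normalizer_U hb') x).symm
    rw [Subgroup.mem_normalizer_iff]
    exact fun x => (hinv _ h1 x).symm
  · rw [rep_vec FamG2.isType _ _ (by decide)]
    decide +kernel
  · rw [rep_vec FamG2.isType _ _ (by decide)]
    decide +kernel

/-- **Type preservation for `³D₄(q)`.** -/
theorem pres_D4 {K : Type u} [Field K] [Fintype K] {q : ℕ} {φ : K →+* K} (hφ : ∀ x, φ x = x ^ q) (hq : 1 < q)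
    (hK : Fintype.card K = q ^ 3) (p : ℕ) [hpp : Fact p.Prime] [CharP K p] {T : Subgroup ↥(twistedD4 K q)}
    {n : Fin 2 → ↥(twistedD4 K q)}
    (R : RGD CoxeterMatrix.G₂.toCoxeterSystem RGDTwD4.isCartan p T n (RGDTwD4.X φ q))
    (hG : GG CoxeterMatrix.G₂.toCoxeterSystem RGDTwD4.isCartan T (RGDTwD4.X φ q) = ⊤)
    (α : MulAut ↥(twistedD4 K q)) (J : Set (Fin 2)) :
    ∃ g : ↥(twistedD4 K q), (PJ CoxeterMatrix.G₂.toCoxeterSystem RGDTwD4.isCartan T (RGDTwD4.X φ q) J).map
        α.toMonoidHom =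
      (PJ CoxeterMatrix.G₂.toCoxeterSystem RGDTwD4.isCartan T (RGDTwD4.X φ q) J).map (MulAut.conj g).toMonoidHom := by
  have hW : Finite CoxeterMatrix.G₂.Group :=
    Nodes.RGDFold.finite_W (hp := RGDTwD4.hp) CoxeterMatrix.G₂.toCoxeterSystem RGDTwD4.isCartan RGDTwD4.foldData
  have hfin : Finite (GL chevD4.Idx K) := inferInstance
  refine type_pres_card R hG ?_ α J
  have h1 : q < q ^ 3 := by
    calc q = q ^ 1 := (pow_one q).symm
      _ < q ^ 3 := Nat.pow_lt_pow_right hq (by norm_num)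
  intro i j hij
  simp only [H934.RowTwD4.card_X hφ hq hK] at hij
  fin_cases i <;> fin_cases j <;> simp at hij ⊢ <;> omega

end Cfsg.Agent.H941.Dl
end

-- part: H941/Dl/EqExc
section
prune_inst 0x8000000000000000000000000000014410000
set_option linter.all false
open scoped Cfsg.Agent.FastGrp

/-!
# S4769, the exceptional groups in their own characteristic (task 2511)
-/

set_option autoImplicit false
set_option linter.unusedSectionVars false

namespace Cfsg.Agent.H941.Dl

open CoxeterSystem Cfsg.Agent.ChevalleyStructure.CoxeterGeom Cfsg.Agent.Tits.Roots Cfsg.Agent.Tits.Core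
open Cfsg Cfsg.Lie Cfsg.Agent.Nodes Cfsg.Agent.Nodes.Reps Cfsg.Agent.Nodes.BNOf Cfsg.Agent.Nodes.RGDLib
  Cfsg.Agent.Nodes.Bruhat Cfsg.Agent.Nodes.LeviDec Cfsg.Agent.Nodes.RGDChev
  Cfsg.Agent.Omega.EH3.Kf.Lev Cfsg.Agent.Omega.EH3.Kf
open Cfsg.Agent.H246.Dl Cfsg.Agent.H211.Dl Cfsg.Agent.H71.Dl
open Cfsg.Agent.H396 Cfsg.Agent.H396.CommTab Cfsg.Agent.H638.FD

universe u

section Chev

theorem many_of_G1 {l : ℕ} {G : Type*} [Group G] [Finite G] {M : CoxeterMatrix (Fin l)} {A : Fin l → Fin l → ℤ}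
    {h : IsCartan M A} {T : Subgroup G} {n : Fin l → G} {X : (Fin l → ℤ) → Subgroup G} {r : ℕ} [Fact r.Prime]
    (hW : Finite M.Group) (R : RGD M.toCoxeterSystem h r T n X) (hX : G1 M.toCoxeterSystem h X = ⊤)
    (hC : CommGen M.toCoxeterSystem h X) : Many r G l := by
  have h1 := many_rank R (KFacts.RgdRigid.GG_eq_top hX) hC
  rwa [Fintype.card_fin] at h1

theorem many_chev {D : ChevalleyDatum} {l : ℕ} {M : CoxeterMatrix (Fin l)} (hp : IsType D l M) (K : Type u)
    [Field K] [Finite K] (r : ℕ) [Fact r.Prime] [CharP K r] (h4 : ∀ i j, M i j ≠ 4) (h6 : ∀ i j, M i j ≠ 6) :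
    Many r ↥(D.group K) l := by
  have hfin : Finite (GL D.Idx K) := inferInstance
  have hW : Finite M.Group := finite_W hp M.toCoxeterSystem
  exact many_of_G1 (finite_W hp M.toCoxeterSystem) (rgd (K := K) hp M.toCoxeterSystem r) (G1_eq_top hp _)
    (comm_of_sl (rgd (K := K) hp M.toCoxeterSystem r) (Cfsg.Agent.KFacts.RgdFiltWitt.sl_of_ne h4 h6))

variable (K : Type u) [Field K] [Finite K] (r : ℕ) [Fact r.Prime] [CharP K r]

theorem many_E6 : Many r ↥(chevE6.group K) 6 :=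
  many_chev (M := CoxeterMatrix.E₆) (by simp [IsType, typeList]) K r (fun i j => (lab_E6 i j).1)
    (fun i j => (lab_E6 i j).2)

theorem many_E7 : Many r ↥(chevE7.group K) 7 :=
  many_chev (M := CoxeterMatrix.E₇) (by simp [IsType, typeList]) K r (fun i j => (lab_E7 i j).1)
    (fun i j => (lab_E7 i j).2)

theorem many_E8 : Many r ↥(chevE8.group K) 8 :=
  many_chev (M := CoxeterMatrix.E₈) (by simp [IsType, typeList]) K r (fun i j => (lab_E8 i j).1)
    (fun i j => (lab_E8 i j).2)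

theorem exists_one {K : Type u} [Field K] [Finite K] (h3 : 2 < Nat.card K) : ∃ c : K, c ≠ 0 ∧ c ≠ 1 := by
  have := Fintype.ofFinite K
  rw [Nat.card_eq_fintype_card] at h3
  exact exists_ne h3

theorem many_F4 (h3 : 2 < Nat.card K) : Many r ↥(chevF4.group K) 4 := by
  have hfin : Finite (GL chevF4.Idx K) := inferInstance
  have hp := Omega.ML.Ex.Lie2.DatF4.isType_F4
  exact many_of_G1 (h := hp.isCartan) (finite_W hp CoxeterMatrix.F₄.toCoxeterSystem)
    (rgd (K := K) hp CoxeterMatrix.F₄.toCoxeterSystem r) (G1_eq_top hp _)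
    (Omega.ML.Ex.Lie2.DatF4.commGen_F4 (exists_one h3))

/-- `G₂(q)`, `3 ∤ q`, `q > 2`. -/
theorem many_G2 (h3 : (3 : K) ≠ 0) (hK : 2 < Nat.card K) : Many r ↥(chevG2.group K) 3 := by
  have hfin : Finite (GL chevG2.Idx K) := inferInstance
  have hp := FamG2.isType
  have hW : Finite CoxeterMatrix.G₂.Group := finite_W hp CoxeterMatrix.G₂.toCoxeterSystem
  refine many_classes (rgd (K := K) hp CoxeterMatrix.G₂.toCoxeterSystem r)
    (KFacts.RgdRigid.GG_eq_top (G1_eq_top hp _)) (commGen_G2 K ?_) ?_ (i := 0) (j := 1) (by decide)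
    (pres_G2 K r h3)
  · have := Fintype.ofFinite K
    classical
    rw [Nat.card_eq_fintype_card] at hK
    have h4 : 3 < Fintype.card K := by
      by_contra h5
      have h6 : Fintype.card K = 3 := by omega
      apply h3
      have h7 := Nat.cast_card_eq_zero K
      rw [h6] at h7
      exact_mod_cast h7
    have h5 : 2 < Fintype.card Kˣ := by rw [Fintype.card_units]; omega
    obtain ⟨x, y, z, h6, h7, h8⟩ := Fintype.two_lt_card_iff.1 h5
    by_cases hx : x = 1
    · subst hx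
      exact ⟨y, z, y.ne_zero, fun h => h6 (Units.ext h.symm), z.ne_zero, fun h => h7 (Units.ext h.symm),
        fun h => h8 (Units.ext h)⟩
    · by_cases hy : y = 1
      · subst hy
        exact ⟨x, z, x.ne_zero, fun h => hx (Units.ext h), z.ne_zero, fun h => h8 (Units.ext h.symm),
          fun h => h7 (Units.ext h)⟩
      · exact ⟨x, y, x.ne_zero, fun h => hx (Units.ext h), y.ne_zero, fun h => hy (Units.ext h),
          fun h => h6 (Units.ext h)⟩
  · intro k l hkl
    fin_cases k <;> fin_cases l <;> first | (exact absurd rfl hkl) | decide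

/-- `G₂(q)`, `q > 3`: two orbits. -/
theorem many_G2_two (hK : 3 < Nat.card K) : Many r ↥(chevG2.group K) 2 := by
  have hfin : Finite (GL chevG2.Idx K) := inferInstance
  have hp := FamG2.isType
  refine many_of_G1 (h := hp.isCartan) (finite_W hp CoxeterMatrix.G₂.toCoxeterSystem)
    (rgd (K := K) hp CoxeterMatrix.G₂.toCoxeterSystem r) (G1_eq_top hp _) (commGen_G2 K ?_)
  have := Fintype.ofFinite K
  classical
  rw [Nat.card_eq_fintype_card] at hK
  have h5 : 2 < Fintype.card Kˣ := by rw [Fintype.card_units]; omega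
  obtain ⟨x, y, z, h6, h7, h8⟩ := Fintype.two_lt_card_iff.1 h5
  by_cases hx : x = 1
  · subst hx
    exact ⟨y, z, y.ne_zero, fun h => h6 (Units.ext h.symm), z.ne_zero, fun h => h7 (Units.ext h.symm),
      fun h => h8 (Units.ext h)⟩
  · by_cases hy : y = 1
    · subst hy
      exact ⟨x, z, x.ne_zero, fun h => hx (Units.ext h), z.ne_zero, fun h => h8 (Units.ext h.symm),
        fun h => h7 (Units.ext h)⟩
    · exact ⟨x, y, x.ne_zero, fun h => hx (Units.ext h), y.ne_zero, fun h => hy (Units.ext h),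
        fun h => h6 (Units.ext h)⟩

end Chev

section Tw

variable {K : Type u} [Field K] [Fintype K] {q : ℕ} (r : ℕ) [Fact r.Prime] [CharP K r]

theorem many_2E6 (hq : IsPrimePow q) (hK : Fintype.card K = q ^ 2) : Many r ↥(twistedE6 K q) 4 := by
  have hfin : Finite (GL chevE6.Idx K) := inferInstance
  obtain ⟨φ, hφ, hqq⟩ := ChevalleyStructure.TwE6Basic.exists_frob hq hK
  exact many_of_G1 (Cfsg.Agent.KFacts.TwESix.Comb.finiteW CoxeterMatrix.F₄.toCoxeterSystem)
    (Nodes.RGDTwE6.rgd CoxeterMatrix.F₄.toCoxeterSystem hφ hqq r) (Nodes.RGDTwE6.G1_eq_top _ hφ hqq)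
    (commGen_E6 _ hφ hqq (p := r) (TwE6.exists_ne hφ hK hq.one_lt))

theorem many_3D4 (hq : IsPrimePow q) (hK : Fintype.card K = q ^ 3) : Many r ↥(twistedD4 K q) 3 := by
  have hfin : Finite (GL chevD4.Idx K) := inferInstance
  obtain ⟨φ, hφ⟩ := ChevalleyStructure.D4Fixed.exists_frob hq hK
  have hW : Finite CoxeterMatrix.G₂.Group :=
    Nodes.RGDFold.finite_W (hp := RGDTwD4.hp) CoxeterMatrix.G₂.toCoxeterSystem RGDTwD4.isCartan RGDTwD4.foldData
  have R := RGDTwD4.rgd CoxeterMatrix.G₂.toCoxeterSystem hK hφ r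
  have hG := KFacts.RgdRigid.GG_eq_top (T := RGDTwD4.T K q) (RGDTwD4.G1_eq_top CoxeterMatrix.G₂.toCoxeterSystem hK hφ)
  refine many_classes R hG (commGen_D4 hK hφ) ?_ (i := 0) (j := 1) (by decide)
    (pres_D4 hφ hq.one_lt hK r R hG)
  intro k l hkl
  fin_cases k <;> fin_cases l <;> first | (exact absurd rfl hkl) | decide

end Tw

/-! ### the rows -/

section Rows

variable {S : Type*} [Group S] [Finite S] {K : Type u} [Field K] {r : ℕ} [Fact r.Prime] [CharP K r]

theorem row_E6_eq [Finite K] (e : S ≃* ↥(chevE6.group K)) : Row r S :=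
  Row.of_le (dl_eq_E6 (K := K) e) ((many_E6 K r).of_equiv e) (by norm_num)

theorem row_E7_eq [Finite K] (e : S ≃* ↥(chevE7.group K)) : Row r S :=
  Row.of_le (dl_eq_E7 (K := K) e) ((many_E7 K r).of_equiv e) (by norm_num)

theorem row_E8_eq [Finite K] (e : S ≃* ↥(chevE8.group K)) : Row r S :=
  Row.of_le (dl_eq_E8 (K := K) e) ((many_E8 K r).of_equiv e) (by norm_num)

/-- `F₄(q)`, `q > 2` -/
theorem row_F4_eq [Finite K] (h : 2 < Nat.card K) (e : S ≃* ↥(chevF4.group K)) : Row r S :=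
  Row.of_le (dl_eq_F4 (K := K) e) ((many_F4 K r h).of_equiv e) le_rfl

/-- `G₂(q)`, `q > 2`; for `q = 3` the row of `FactTwo` is needed. -/
theorem row_G2_eq [Finite K] (h : 2 < Nat.card K) (e : S ≃* ↥(chevG2.group K))
    (h3 : Nat.card K = 3 → H596.OneFacts.Two 3 S) : Row r S := by
  by_cases h30 : (3 : K) = 0
  · have hr : r = 3 := by
      have h4 : ((3 : ℕ) : K) = 0 := by exact_mod_cast h30
      exact (Nat.prime_dvd_prime_iff_eq Fact.out Nat.prime_three).1 ((CharP.cast_eq_zero_iff K r 3).1 h4)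
    subst hr
    by_cases h5 : Nat.card K = 3
    · exact Row.of_twoStrict (dl_eq_G2_three (K := K) e) (h3 h5)
    · exact Row.of_le (dl_eq_G2_three (K := K) e) ((many_G2_two K 3 (by omega)).of_equiv e) le_rfl
  · exact Row.of_le (dl_eq_G2 (K := K) e) ((many_G2 K r h30 h).of_equiv e) le_rfl

theorem row_2E6_eq [Fintype K] {q : ℕ} (hq : IsPrimePow q) (hK : Fintype.card K = q ^ 2)
    (e : S ≃* ↥(twistedE6 K q)) : Row r S :=
  Row.of_le (dl_eq_2E6 (K := K) e) ((many_2E6 r hq hK).of_equiv e) le_rfl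

theorem row_3D4_eq [Fintype K] {q : ℕ} (hq : IsPrimePow q) (hK : Fintype.card K = q ^ 3)
    (e : S ≃* ↥(twistedD4 K q)) : Row r S :=
  Row.of_le (dl_eq_3D4 (K := K) e) ((many_3D4 r hq hK).of_equiv e) le_rfl

end Rows

end Cfsg.Agent.H941.Dl
end

-- part: H152/Dl/OrthF_mg
section
prune_inst 0x7040771504c002000004051240005e83eb00009000088000800600440480ac0209000020b4000000000200040039000002000030000000000004000001390481004004005081411d860018810088610000008000000000000000000000000000014410000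
set_option linter.all false
open scoped Cfsg.Agent.FastGrp

-- part: H152/Dl/Rank
section
/-!
# Root group data with `CommGen` and explicit rank for the classical groups (helper152, task DL-EQ-CLASS of S4769)

`HasCGl p M G` : as helper396's `HasCG p G`, with explicit Coxeter matrix `M` on `Fin l`.
-/

set_option autoImplicit false
set_option linter.unusedSectionVars false

namespace Cfsg.Agent.H152.Dl

open Cfsg
open CoxeterSystem Cfsg.Agent.ChevalleyStructure.CoxeterGeom Cfsg.Agent.Tits.Roots Cfsg.Agent.Tits.Core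
open Cfsg.Agent.Nodes Cfsg.Agent.Nodes.BNOf Cfsg.Agent.Nodes.RGDLib Cfsg.Agent.Nodes.RGDChev
open Cfsg.Agent.Omega.EH3.Kf Cfsg.Agent.Omega.EH3.Kf.Lev
open Cfsg.Agent.H396 Cfsg.Agent.H396.CommTab

/-- root group datum of type `M` with `CommGen`, connected diagram, generating -/
def HasCGl (p : ℕ) {l : ℕ} (M : CoxeterMatrix (Fin l)) (G : Type*) [Group G] : Prop :=
  ∃ (A : Fin l → Fin l → ℤ) (h : IsCartan M A) (T : Subgroup G) (n : Fin l → G)
    (X : (Fin l → ℤ) → Subgroup G), 2 ≤ l ∧ Finite M.Group ∧ RGD M.toCoxeterSystem h p T n X ∧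
      Nodes.RGDLib.G1 M.toCoxeterSystem h X = ⊤ ∧ CommGen M.toCoxeterSystem h X ∧ Conn M

section Model

open Cfsg.Agent.Nodes.TypeC Cfsg.Agent.Nodes.Comb Cfsg.Agent.Nodes.Reps Cfsg.Agent.Nodes.WittRoot
  Cfsg.Agent.Nodes.WittAll Cfsg.Agent.Nodes.WittU
open Cfsg.Agent.TitsThree Cfsg.Agent.TitsThree.Siegel Cfsg.Agent.TitsThree.SiegelGen
  Cfsg.Agent.TitsThree.WittFrame Cfsg.Agent.TitsThree.WBridge Cfsg.Agent.TitsThree.WittWeyl
  Cfsg.Agent.TitsThree.FrameCN Cfsg.Agent.TitsThree.KSideU Cfsg.Agent.TitsThree.KSideUDesc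
open Cfsg.Agent.LieClassical.HermBasic

section C

variable {F : Type*} [Field F] {V : Type*} [AddCommGroup V] [Module F V] {H : HForm F V} {n : ℕ}
  {Fr : Frame H (Fin n)} {K : Type*} [Group K] {p : ℕ}

theorem cgl_C (M : Model Fr K) (hA : AmbT Fr p M.I) [Finite V] [Fact p.Prime] [CharP F p] {p0 : Fr.Adm}
    (hp0 : p0.c ≠ 0) (hn : 2 ≤ n) (hG : TwC.Gd (Nodes.WittModel.X M)) : HasCGl p (CoxeterMatrix.B n) K :=
  ⟨A n, isCartan n, _, _, _, hn, _root_.Cfsg.Agent.Nodes.TypeC.finite_W (CoxeterMatrix.B n).toCoxeterSystem,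
    rgdC_model M hA hp0 _, WittModel.G1_eq_top _ (by omega) _,
    fun _ hr h0 hs => hG.gen _ hr h0 hs, Nodes.KindBC.irr n⟩

end C

/-- `PSU_{2m}(q)` -/
theorem cgl_PSU_even {F : Type*} [Field F] [Fintype F] {q m : ℕ} (hF : Fintype.card F = q ^ 2) {p : ℕ} [Fact p.Prime]
    [CharP F p] (hm : 2 ≤ m) : HasCGl p (CoxeterMatrix.B m) (PSU (2 * m) F q) := by
  obtain ⟨W, hW⟩ := exists_wframe_even (N := 2 * m) hF rfl
  obtain ⟨p0, hp0, -⟩ := exists_adm hF W
  exact cgl_C (KInstU.model hF (by omega) W) (AmbT.of_amb (amb_U hF W) p) hp0 hm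
    (TwWitt.gd_of_tr _ (htr_even hF W hW) hp0)

/-- `PSU_{2m+1}(q)` -/
theorem cgl_PSU_odd {F : Type*} [Field F] [Fintype F] {q m : ℕ} (hF : Fintype.card F = q ^ 2) {p : ℕ} [Fact p.Prime]
    [CharP F p] (hm : 2 ≤ m) : HasCGl p (CoxeterMatrix.B m) (PSU (2 * m + 1) F q) := by
  obtain ⟨W, d, hd, hW⟩ := exists_wframe_odd (N := 2 * m + 1) hF rfl
  obtain ⟨p0, hp0, -⟩ := exists_adm hF W
  refine cgl_C (KInstU.model hF (by omega) W) (AmbT.of_amb (amb_U hF W) p) hp0 hm
    (UOdd.gd _ ⟨d, ?_, exists_ok hF W hW⟩)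
  have h1 : (HU hF (2 * m + 1)).h d d = 1 := hd
  rw [h1]
  exact one_ne_zero

/-- `PSp_{2m}(q)`, `q > 2` -/
theorem cgl_PSp {F : Type*} [Field F] [Fintype F] {m : ℕ} (hm : 2 ≤ m) (hF : 2 < Fintype.card F) {p : ℕ}
    [Fact p.Prime] [CharP F p] : HasCGl p (CoxeterMatrix.B m) (PSp m F) := by
  obtain ⟨t, ht0, ht1⟩ := exists_ne hF
  have hw : ∀ p : (SpIdent.frame m F).Adm, p.w = 0 := fun p =>
    (Submodule.mem_bot F).1 ((SpIdent.frame m F).ok_mem p.ok)
  exact cgl_C (KInstSp.model m F) (AmbT.of_amb amb_Sp p) (p0 := SpIdent.adm 1) one_ne_zero hm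
    (TwWitt.gd_of_sp _ hw (fun _ => rfl) (fun c => ⟨SpIdent.adm c, rfl⟩) ht0 ht1)

end Model

/-! ### Orthogonal groups -/

section Orthogonal

open Cfsg.Agent.Nodes.TypeC Cfsg.Agent.Nodes.Comb Cfsg.Agent.Nodes.Reps Cfsg.Agent.Nodes.WittRoot
  Cfsg.Agent.Nodes.WittAll Cfsg.Agent.Nodes.WittU
open Cfsg.Agent.TitsThree Cfsg.Agent.TitsThree.Siegel Cfsg.Agent.TitsThree.SiegelGen
  Cfsg.Agent.TitsThree.WittFrame Cfsg.Agent.TitsThree.WBridge Cfsg.Agent.TitsThree.WittWeyl
  Cfsg.Agent.TitsThree.FrameCN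
open QuadraticMap
open Cfsg.Agent.LieClassical Cfsg.Agent.LieClassical.OrthCore Cfsg.Agent.LieClassical.OrthTrans
open Cfsg.Agent.LieClassical.OrthSimple Cfsg.Agent.LieClassical.OrthFinite
open Cfsg.Agent.LieClassical.OrthForms
open Cfsg.Agent.TitsThree.KSideO Cfsg.Agent.TitsThree.StdData Cfsg.Agent.Nodes.WittInst

variable {F : Type*} [Field F] {m : ℕ}

theorem cgl_PO_odd [Finite F] (h2 : (2 : F) ≠ 0) (hm : 2 ≤ m) {p : ℕ} [Fact p.Prime] [CharP F p] :
    HasCGl p (CoxeterMatrix.B m) (Cfsg.POmega F (Cfsg.quadFormOdd m F)) := by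
  rw [← coe_oddForm]
  have hG : _root_.Cfsg.Agent.LieClassical.OrthTrans.Good (oddForm m F) := by
    apply good_of_finite (nondeg_oddForm m F h2)
    rw [Module.finrank_fintype_fun_eq_card, Fintype.card_sum, Fintype.card_sum, Fintype.card_fin,
      Fintype.card_unit]
    omega
  have hp : ((embOdd m F).ngt ⟨1, -1 ^ 2, rfl⟩).c ≠ 0 := by
    change (1 : F)⁻¹ * (-1 ^ 2) ≠ 0
    simp
  refine cgl_C (model (wodd m F) hG ⟨_, hp⟩) (AmbT.of_amb (amb_O_of_two _ h2) p) hp hm ?_
  refine UOdd.gd _ ?_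
  have hw := ((embOdd m F).ngt ⟨1, -1 ^ 2, rfl⟩)
  refine exists_d (wodd m F) h2 (d := ((embOdd m F).ngt ⟨1, -1 ^ 2, rfl⟩).w)
    ((embOdd m F).ngt ⟨1, -1 ^ 2, rfl⟩).ok.1 ?_
  intro h0
  apply hp
  have h3 : ((embOdd m F).ngt ⟨1, -1 ^ 2, rfl⟩).c = -(oddForm m F) ((embOdd m F).ngt ⟨1, -1 ^ 2, rfl⟩).w :=
    ((embOdd m F).ngt ⟨1, -1 ^ 2, rfl⟩).ok.2
  rw [h3, h0, _root_.neg_zero]

theorem cgl_PO_minus [Finite F] (a b : F)
    (hab : ∀ z₁ z₂ : F, z₁ ^ 2 + a * z₁ * z₂ + b * z₂ ^ 2 = 0 → z₁ = 0 ∧ z₂ = 0)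
    (hm : 2 ≤ m) {p : ℕ} [Fact p.Prime] [CharP F p] :
    HasCGl p (CoxeterMatrix.B m) (Cfsg.POmega F (Cfsg.quadFormMinus m F a b)) := by
  rw [← coe_minusForm]
  have hG : _root_.Cfsg.Agent.LieClassical.OrthTrans.Good (minusForm m F a b) := by
    apply good_of_finite (nondeg_minusForm m F a b hab)
    rw [Module.finrank_fintype_fun_eq_card, Fintype.card_sum, Fintype.card_sum, Fintype.card_fin,
      Fintype.card_fin]
    omega
  have hp : ((embMinus m F a b hab).ngt ⟨(1, 0), -nf a b (1, 0), rfl⟩).c ≠ 0 := by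
    change (1 : F)⁻¹ * (-nf a b (1, 0)) ≠ 0
    simp [nf]
  by_cases h2 : (2 : F) = 0
  · have h3 : CharP F 2 := CharTwo.of_one_ne_zero_of_two_eq_zero one_ne_zero h2
    have hp2 : p = 2 := CharP.eq F ‹CharP F p› h3
    subst hp2
    refine cgl_C (model (wminus m F a b hab) hG ⟨_, hp⟩)
      (ambT_O _ fun g hg hg2 hb => fixp_minus a b hab h2 hm hG hg hg2 hb) hp hm ?_
    exact TwWitt.gd_of_surj (model (wminus m F a b hab) hG ⟨_, hp⟩) (OMinusBd.exists_h_minus a b hab)
  · refine cgl_C (model (wminus m F a b hab) hG ⟨_, hp⟩) (AmbT.of_amb (amb_O_of_two _ h2) p) hp hm ?_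
    refine UOdd.gd _ (exists_d (wminus m F a b hab) h2
      (d := ((embMinus m F a b hab).ngt ⟨(1, 0), -nf a b (1, 0), rfl⟩).w)
      ((embMinus m F a b hab).ngt ⟨(1, 0), -nf a b (1, 0), rfl⟩).ok.1 ?_)
    intro h0
    apply hp
    have h3 : ((embMinus m F a b hab).ngt ⟨(1, 0), -nf a b (1, 0), rfl⟩).c =
        -(minusForm m F a b) ((embMinus m F a b hab).ngt ⟨(1, 0), -nf a b (1, 0), rfl⟩).w :=
      ((embMinus m F a b hab).ngt ⟨(1, 0), -nf a b (1, 0), rfl⟩).ok.2
    rw [h3, h0, _root_.neg_zero]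

end Orthogonal

/-! ### Simply laced diagrams -/

theorem cgl_of_sl {p : ℕ} {G : Type*} [Group G] {l : ℕ} {M : CoxeterMatrix (Fin l)} {A : Fin l → Fin l → ℤ}
    {h : IsCartan M A} {T : Subgroup G} {n : Fin l → G} {X : (Fin l → ℤ) → Subgroup G} (hl : 2 ≤ l)
    (hW : Finite M.Group) (R : RGD M.toCoxeterSystem h p T n X) (hX : G1 M.toCoxeterSystem h X = ⊤)
    (h4 : ∀ i j, M i j ≠ 4) (h6 : ∀ i j, M i j ≠ 6) (hc : Conn M) : HasCGl p M G :=
  ⟨A, h, T, n, X, hl, hW, R, hX,
    comm_of_sl R (Cfsg.Agent.KFacts.RgdFiltWitt.sl_of_ne h4 h6), hc⟩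

/-- `PSL_{n+1}(q)` -/
theorem cgl_PSL {F : Type*} [Field F] [Finite F] (n : ℕ) (hn : 2 ≤ n) {p : ℕ} [Fact p.Prime] [CharP F p] :
    HasCGl p (Cfsg.Agent.LieRecognition.BNCox.cA n) (Matrix.ProjectiveSpecialLinearGroup (Fin (n + 1)) F) := by
  have hc : ∀ i j : Fin n, Cfsg.Agent.LieRecognition.BNCox.cA n i j ≤ 3 := by
    intro i j
    rw [Cfsg.Agent.LieRecognition.BNCox.cA_apply]
    show (if (i : ℕ) = j then 1 else if (i : ℕ) + 1 = j ∨ (j : ℕ) + 1 = i then 3 else 2) ≤ 3
    split_ifs <;> norm_num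
  have hW : Finite (Cfsg.Agent.LieRecognition.BNCox.cA n).Group :=
    Nodes.RootsA.finite_W (Cfsg.Agent.LieRecognition.BNCox.cA n).toCoxeterSystem (Nodes.RootsA.isCartan n)
  exact cgl_of_sl (h := Nodes.RootsA.isCartan n) hn hW (Nodes.RGDTypeA.rgd_psl _ _)
    (Nodes.RGDTypeA.G1_psl_eq_top _ _)
    (fun i j h => by have := hc i j; omega) (fun i j h => by have := hc i j; omega)
    (Nodes.Chart.Ty.irrA n (by omega))

section Plus

open QuadraticMap
open Cfsg.Agent.LieClassical Cfsg.Agent.LieClassical.OrthCore Cfsg.Agent.LieClassical.OrthTrans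
open Cfsg.Agent.LieClassical.OrthSimple Cfsg.Agent.LieClassical.OrthFinite
open Cfsg.Agent.LieClassical.OrthForms
open Cfsg.Agent.TitsThree.WBridge Cfsg.Agent.TitsThree.KSideO Cfsg.Agent.TitsThree.StdData
open Cfsg.Agent.Nodes.WittU Cfsg.Agent.Nodes.WittInst

/-- `PΩ⁺_{2(n+3)}(q)` -/
theorem cgl_PO_plus {F : Type*} [Field F] [Finite F] (n : ℕ) {p : ℕ} [Fact p.Prime] [CharP F p] :
    HasCGl p (Nodes.TypeD.M (n + 1)) (Cfsg.POmega F (Cfsg.quadFormPlus (n + 3) F)) := by
  rw [← coe_plusForm]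
  have hG : _root_.Cfsg.Agent.LieClassical.OrthTrans.Good (plusForm (n + 3) F) := by
    apply good_of_finite (nondeg_plusForm (n + 3) F)
    rw [Module.finrank_fintype_fun_eq_card, Fintype.card_sum, Fintype.card_fin]
    omega
  have hc : ∀ i j : Fin (n + 1 + 2), Nodes.TypeD.M (n + 1) i j ≤ 3 := by
    intro i j
    show (if i = j then 1 else if Nodes.TypeD.Adj i j ∨ Nodes.TypeD.Adj j i then 3 else 2) ≤ 3
    split_ifs <;> norm_num
  exact cgl_of_sl (by omega) (Nodes.TypeD.finite_W (Nodes.TypeD.M (n + 1)).toCoxeterSystem)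
    (rgdD_model (wplus (n + 3) F) hG (amb_plus _) (adm_plus _) _)
    (G1D_eq_top (wplus (n + 3) F) (toPOmega hG) (toPOmega_surjective hG) (adm_plus _) _)
    (fun i j h => by have := hc i j; omega) (fun i j h => by have := hc i j; omega)
    (Nodes.Chart.Ty.irrD (n + 1) (by omega))

end Plus

end Cfsg.Agent.H152.Dl
end

-- part: H152/Dl/Cls
section
/-!
# S4769, defining characteristic, classical groups (helper152, task DL-EQ-CLASS)
-/

set_option autoImplicit false
set_option linter.unusedSectionVars false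

namespace Cfsg.Agent.H152.Dl

open Cfsg
open Cfsg.Agent.H246.Dl

universe u

/-- derived length of `p`-subgroups of `GL_n(F)`, `F` of characteristic `p` (task DL-LIN (a)) -/
def LinHyp : Prop := ∀ (F : Type) [Field F] [Finite F] (n p : ℕ) [Fact p.Prime] [CharP F p]
  (P : Subgroup (Matrix.GeneralLinearGroup (Fin n) F)), IsPGroup p ↥P → derivedSeries ↥P (Nat.clog 2 n) = ⊥

theorem linHyp : LinHyp := by
  intro F _ _ n p _ _ P hP
  have : Finite ↥P := inferInstance
  let ρ : Representation F ↥P (Fin n → F) :=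
    ((Matrix.toLinAlgEquiv' : Matrix (Fin n) (Fin n) F ≃ₐ[F] _).toAlgHom.toMonoidHom.comp
      (Units.coeHom (Matrix (Fin n) (Fin n) F))).comp P.subtype
  rw [eq_bot_iff]
  intro g hg
  have h1 := Cfsg.Agent.H498.LinDerived.unipotent ρ hP (Nat.clog 2 n)
    (by rw [Module.finrank_fin_fun]; exact Nat.le_pow_clog (by norm_num) n) g hg
  rw [Subgroup.mem_bot]
  apply Subtype.ext
  apply Units.ext
  apply (Matrix.toLinAlgEquiv' : Matrix (Fin n) (Fin n) F ≃ₐ[F] _).injective
  refine LinearMap.ext fun v => ?_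
  have h2 : ρ g v = v := h1 v
  change (Matrix.toLinAlgEquiv' : Matrix (Fin n) (Fin n) F ≃ₐ[F] _) ((g : Matrix.GeneralLinearGroup (Fin n) F) :
    Matrix (Fin n) (Fin n) F) v = (Matrix.toLinAlgEquiv' : Matrix (Fin n) (Fin n) F ≃ₐ[F] _) 1 v
  rw [map_one]
  exact h2

theorem derivedSeries_of_injective {A B : Type*} [Group A] [Group B] (f : A →* B) (hf : Function.Injective f) {d : ℕ}
    (h : derivedSeries B d = ⊥) : derivedSeries A d = ⊥ := by
  have h1 : (derivedSeries A d).map f ≤ derivedSeries B d := map_derivedSeries_le_derivedSeries f d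
  rw [h, le_bot_iff, Subgroup.map_eq_bot_iff] at h1
  rw [eq_bot_iff]
  intro x hx
  have h2 := h1 hx
  rw [MonoidHom.mem_ker] at h2
  rw [Subgroup.mem_bot]
  exact hf (by rw [map_one]; exact h2)

theorem derivedSeries_of_surjective {A B : Type*} [Group A] [Group B] (f : A →* B) (hf : Function.Surjective f) {d : ℕ}
    (h : derivedSeries A d = ⊥) : derivedSeries B d = ⊥ := by
  rw [← map_derivedSeries_eq hf, h, Subgroup.map_bot]

/-- reindexing -/
noncomputable def glEquiv {ι κ : Type*} [Fintype ι] [DecidableEq ι] [Fintype κ] [DecidableEq κ] (F : Type*) [Field F]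
    (e : ι ≃ κ) : Matrix.GeneralLinearGroup ι F ≃* Matrix.GeneralLinearGroup κ F :=
  Units.mapEquiv (Matrix.reindexAlgEquiv F F e : Matrix ι ι F ≃* Matrix κ κ F)

/-- the bound for quotients of linear groups -/
theorem dlLe_of_linear (hL : LinHyp) {F : Type} [Field F] [Finite F] {p : ℕ} [Fact p.Prime] [CharP F p] {ι : Type}
    [Fintype ι] [DecidableEq ι] {G' : Type*} [Group G'] [Finite G'] (j : G' →* Matrix.GeneralLinearGroup ι F)
    (hj : Function.Injective j) {S : Type u} [Group S] [Finite S] (f : G' →* S) (hf : Function.Surjective f) :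
    DlLe p (Nat.clog 2 (Fintype.card ι)) S := by
  intro P
  -- a Sylow subgroup over `P`
  obtain ⟨Q⟩ : Nonempty (Sylow p G') := inferInstance
  let P' : Sylow p S := Q.mapSurjective hf
  obtain ⟨g, hg⟩ := MulAction.exists_smul_eq S P' P
  have hQ : derivedSeries ↥(Q : Subgroup G') (Nat.clog 2 (Fintype.card ι)) = ⊥ := by
    let j' : G' →* Matrix.GeneralLinearGroup (Fin (Fintype.card ι)) F :=
      (glEquiv F (Fintype.equivFin ι)).toMonoidHom.comp j
    have hj' : Function.Injective j' := (glEquiv F (Fintype.equivFin ι)).injective.comp hj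
    have h1 := hL F (Fintype.card ι) p ((Q : Subgroup G').map j') (Q.isPGroup'.map j')
    refine derivedSeries_of_injective (j'.subgroupMap (Q : Subgroup G')) ?_ h1
    intro a b hab
    exact Subtype.ext (hj' (congrArg Subtype.val hab))
  have hP' : derivedSeries ↥(P' : Subgroup S) (Nat.clog 2 (Fintype.card ι)) = ⊥ :=
    derivedSeries_of_surjective (f.subgroupMap (Q : Subgroup G')) (f.subgroupMap_surjective _) hQ
  have e : ↥(P : Subgroup S) ≃* ↥(P' : Subgroup S) := (P.equiv P')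
  exact derivedSeries_of_injective e.toMonoidHom e.injective hP'

/-! ### the six families -/

section dl

variable {F : Type} [Field F] [Fintype F] {p : ℕ} [Fact p.Prime] [CharP F p]

theorem dl_PSL (hL : LinHyp) (n : ℕ) :
    DlLe p (Nat.clog 2 n) (Matrix.ProjectiveSpecialLinearGroup (Fin n) F) := by
  have := dlLe_of_linear (p := p) hL (F := F) (ι := Fin n) (G' := Matrix.SpecialLinearGroup (Fin n) F)
    Matrix.SpecialLinearGroup.toGL Matrix.SpecialLinearGroup.toGL_injective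
    (QuotientGroup.mk' (Subgroup.center (Matrix.SpecialLinearGroup (Fin n) F))) (QuotientGroup.mk'_surjective _)
  rwa [Fintype.card_fin] at this

/-- the inclusion of the symplectic group -/
noncomputable def spToGL (m : ℕ) (F : Type) [Field F] :
    ↥(Matrix.symplecticGroup (Fin m) F) →* Matrix.GeneralLinearGroup (Fin m ⊕ Fin m) F :=
  (Matrix.symplecticGroup (Fin m) F).subtype.toHomUnits

theorem spToGL_injective (m : ℕ) (F : Type) [Field F] : Function.Injective (spToGL m F) := by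
  intro a b hab
  apply Subtype.ext
  exact congrArg Units.val hab

theorem dl_PSp (hL : LinHyp) (m : ℕ) : DlLe p (Nat.clog 2 (2 * m)) (PSp m F) := by
  have : Finite ↥(Matrix.symplecticGroup (Fin m) F) := Finite.of_injective _ Subtype.val_injective
  have := dlLe_of_linear (p := p) hL (F := F) (ι := Fin m ⊕ Fin m) (G' := ↥(Matrix.symplecticGroup (Fin m) F))
    (spToGL m F) (spToGL_injective m F)
    (QuotientGroup.mk' (Subgroup.center ↥(Matrix.symplecticGroup (Fin m) F))) (QuotientGroup.mk'_surjective _)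
  rwa [Fintype.card_sum, Fintype.card_fin, ← two_mul] at this

theorem dl_PSU (hL : LinHyp) (n q : ℕ) : DlLe p (Nat.clog 2 n) (PSU n F q) := by
  have := dlLe_of_linear (p := p) hL (F := F) (ι := Fin n) (G' := ↥(SU n F q))
    (Matrix.SpecialLinearGroup.toGL.comp (SU n F q).subtype)
    (Matrix.SpecialLinearGroup.toGL_injective.comp Subtype.val_injective)
    (QuotientGroup.mk' (Subgroup.center ↥(SU n F q))) (QuotientGroup.mk'_surjective _)
  rwa [Fintype.card_fin] at this

theorem dl_POmega (hL : LinHyp) {ι : Type} [Fintype ι] [DecidableEq ι] (Q : (ι → F) → F) :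
    DlLe p (Nat.clog 2 (Fintype.card ι)) (POmega F Q) :=
  dlLe_of_linear (p := p) hL (F := F) (ι := ι) (G' := ↥(Omega F Q))
    ((isometryGroup F Q).subtype.comp (Omega F Q).subtype)
    (Subtype.val_injective.comp Subtype.val_injective)
    (QuotientGroup.mk' (Subgroup.center ↥(Omega F Q))) (QuotientGroup.mk'_surjective _)

end dl

end Cfsg.Agent.H152.Dl
end

-- part: H152/Dl/Ree
section
/-!
# The Sylow `3`-subgroups of the small Ree groups are metabelian (helper152, task DL-EQ-CLASS)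
-/

set_option autoImplicit false
set_option linter.unusedSectionVars false

namespace Cfsg.Agent.H152.Dl

open Cfsg
open Cfsg.Agent.H246.Dl Cfsg.Agent.LieRecognition Cfsg.Agent.LieRecognition.ReeSylowThree

universe u

section ree

variable {K : Type*} [Field K] {m : ℕ} {G : Type*} [Group G] {U : K → K → K → G} {h : Kˣ → G} {n : G}
  (D : ReeAbs.Data m U h n)

include D

theorem ree_comm_mem {a b : G} (ha : a ∈ uSub D) (hb : b ∈ uSub D) : ∃ u v, a * b * a⁻¹ * b⁻¹ = U 0 u v := by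
  obtain ⟨t, u, v, rfl⟩ := ha
  obtain ⟨t', u', v', rfl⟩ := hb
  have h1 : U t u v * U t' u' v' * (U t u v)⁻¹ * (U t' u' v')⁻¹ ∈ uSub D :=
    mul_mem (mul_mem (mul_mem ⟨_, _, _, rfl⟩ ⟨_, _, _, rfl⟩) (inv_mem ⟨_, _, _, rfl⟩)) (inv_mem ⟨_, _, _, rfl⟩)
  obtain ⟨s, x, y, h2⟩ := h1
  have h3 : U t u v * U t' u' v' = U s x y * (U t' u' v' * U t u v) := by
    rw [← h2]; group
  rw [D.U_mul, D.U_mul, D.U_mul] at h3
  have h4 := (U_injective D h3).1
  have h5 : s = 0 := by linear_combination -h4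
  exact ⟨x, y, by rw [h2, h5]⟩

theorem ree_dl : derivedSeries ↥(uSub D) 2 = ⊥ := by
  let N : Subgroup ↥(uSub D) :=
    { carrier := {x | ∃ u v, (x : G) = U 0 u v}
      mul_mem' := by
        rintro a b ⟨u, v, ha⟩ ⟨u', v', hb⟩
        exact ⟨_, _, by rw [Subgroup.coe_mul, ha, hb, D.U_mul, add_zero]⟩
      one_mem' := ⟨0, 0, D.U_zero.symm⟩
      inv_mem' := by
        rintro a ⟨u, v, ha⟩
        refine ⟨-u, -v, ?_⟩
        rw [Subgroup.coe_inv, ha, inv_eq_iff_mul_eq_one, D.U_mul, ← D.U_zero]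
        have he : (3 ^ (m + 1)) ≠ 0 := by positivity
        congr 1 <;> simp [zero_pow he] }
  have hN : ∀ x ∈ N, ∀ y ∈ N, x * y = y * x := by
    rintro x ⟨u, v, hx⟩ y ⟨u', v', hy⟩
    apply Subtype.ext
    rw [Subgroup.coe_mul, Subgroup.coe_mul, hx, hy, D.U_mul, D.U_mul]
    have he : (3 ^ (m + 1)) ≠ 0 := by positivity
    congr 1
    · simp [zero_pow he, add_comm]
    · simp [zero_pow he, add_comm]
  have h1 : derivedSeries ↥(uSub D) 1 ≤ N := by
    rw [derivedSeries_one, commutator_eq_closure, Subgroup.closure_le]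
    rintro _ ⟨a, b, rfl⟩
    obtain ⟨u, v, h2⟩ := ree_comm_mem D a.2 b.2
    exact ⟨u, v, h2⟩
  rw [derivedSeries_succ, eq_bot_iff, Subgroup.commutator_le]
  intro x hx y hy
  rw [Subgroup.mem_bot, commutatorElement_eq_one_iff_mul_comm]
  exact hN x (h1 hx) y (h1 hy)

end ree

/-- **Ree groups** -/
theorem dl_ree {S : Type u} [Group S] [Finite S] (h : Lie.IsoRee S) : DlLe 3 2 S := by
  obtain ⟨K, iK, iK', m, hm, hc, ⟨e⟩⟩ := h
  have : Fact (Nat.Prime 3) := ⟨Nat.prime_three⟩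
  obtain ⟨U, h, n, D⟩ := Cfsg.Agent.ChevalleyStructure.Ree.Data.exists_data hc
  have hfin : Finite (Cfsg.Lie.twistedG2 K (3 ^ m)) := Finite.of_equiv _ e.toEquiv
  refine DlLe.of_equiv e fun P => ?_
  have hcard : Nat.card ↥(uSub D) = 3 ^ (Nat.card (Cfsg.Lie.twistedG2 K (3 ^ m))).factorization 3 := by
    rw [card_uSub, hc]
    set q := 3 ^ (2 * m + 1) with hq
    have hq3 : 3 ∣ q := dvd_pow_self 3 (by omega)
    have hq0 : 0 < q := by positivity
    have h1 : ¬ 3 ∣ (q - 1) * (q ^ 3 + 1) := by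
      rw [Nat.prime_three.dvd_mul]
      have h3 : 3 ∣ q ^ 3 := dvd_pow hq3 (by norm_num)
      rintro (h | h) <;> (clear * - hq0 h h3; omega)
    have h2 : (Nat.card (Cfsg.Lie.twistedG2 K (3 ^ m))).factorization 3 = 3 * (2 * m + 1) := by
      rw [card_eq D, hc, mul_assoc,
        Nat.factorization_mul (by positivity) (by intro h0; rw [h0] at h1; exact h1 (dvd_zero 3)),
        Finsupp.add_apply, Nat.factorization_eq_zero_of_not_dvd h1, add_zero, hq, ← pow_mul,
        Nat.Prime.factorization_pow Nat.prime_three, Finsupp.single_eq_same]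
      ring
    rw [h2, hq]
    ring
  let Q : Sylow 3 (Cfsg.Lie.twistedG2 K (3 ^ m)) := Sylow.ofCard (uSub D) hcard
  have e' : ↥(P : Subgroup (Cfsg.Lie.twistedG2 K (3 ^ m))) ≃* ↥(Q : Subgroup (Cfsg.Lie.twistedG2 K (3 ^ m))) := P.equiv Q
  have h1 : derivedSeries ↥(Q : Subgroup (Cfsg.Lie.twistedG2 K (3 ^ m))) 2 = ⊥ := ree_dl D
  have h2 : (derivedSeries ↥(P : Subgroup (Cfsg.Lie.twistedG2 K (3 ^ m))) 2).map e'.toMonoidHom ≤
      derivedSeries ↥(Q : Subgroup (Cfsg.Lie.twistedG2 K (3 ^ m))) 2 := map_derivedSeries_le_derivedSeries _ 2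
  rw [h1, le_bot_iff, Subgroup.map_eq_bot_iff] at h2
  rw [eq_bot_iff]
  intro x hx
  have h3 := h2 hx
  rw [MonoidHom.mem_ker] at h3
  rw [Subgroup.mem_bot]
  exact e'.injective (by rw [map_one]; exact h3)

end Cfsg.Agent.H152.Dl
end

-- part: H152/Dl/Rows
section
/-!
# S4769, defining characteristic, classical groups and rank one (helper152, task DL-EQ-CLASS)
-/

set_option autoImplicit false
set_option linter.unusedSectionVars false

namespace Cfsg.Agent.H152.Dl

open Cfsg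
open Cfsg.Agent.H246.Dl

universe u

/-- task DL-THETA: `Many` for a root group datum with `CommGen` -/
def ThetaHyp : Prop := ∀ (p l : ℕ) (M : CoxeterMatrix (Fin l)) (G : Type) [Group G] [Finite G], p.Prime → HasCGl p M G →
  Many p G l

theorem pow_bound {m : ℕ} (hm : 3 ≤ m) : 2 * m + 2 ≤ 2 ^ m := by
  induction m, hm using Nat.le_induction with
  | base => norm_num
  | succ k hk ih =>
    rw [pow_succ]
    omega

section rows

variable {F : Type} [Field F] [Fintype F] {p : ℕ} [hp : Fact p.Prime] [CharP F p]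

/-- `PSL_n(q)`, `n ≥ 3` -/
theorem row_psl_eq (hT : ThetaHyp) {n : ℕ} (hn : 3 ≤ n) :
    Row p (Matrix.ProjectiveSpecialLinearGroup (Fin n) F) := by
  obtain ⟨k, rfl⟩ : ∃ k, n = k + 1 := ⟨n - 1, by omega⟩
  refine Row.of_le (dl_PSL linHyp (k + 1)) (hT p k _ _ hp.out (cgl_PSL k (by omega))) ?_
  refine Nat.clog_le_of_le_pow ?_
  have := Nat.lt_two_pow_self (n := k)
  omega

/-- `PSp_{2m}(q)`, `q > 2` -/
theorem row_psp_eq (hT : ThetaHyp) {m : ℕ} (hm : 2 ≤ m) (hF : 2 < Fintype.card F) : Row p (PSp m F) := by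
  have : Finite ↥(Matrix.symplecticGroup (Fin m) F) := Finite.of_injective _ Subtype.val_injective
  refine Row.of_le (dl_PSp linHyp m) (hT p m _ _ hp.out (cgl_PSp hm hF)) ?_
  refine Nat.clog_le_of_le_pow ?_
  rcases Nat.lt_or_ge m 3 with h | h
  · obtain rfl : m = 2 := by omega
    norm_num
  · have := pow_bound h
    omega

/-- `PSU_n(q)`, `n = 4` or `n ≥ 6` -/
theorem row_psu_eq (hT : ThetaHyp) {n q : ℕ} (hF : Fintype.card F = q ^ 2) (hn : n = 4 ∨ 6 ≤ n) : Row p (PSU n F q) := by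
  obtain ⟨m, hm⟩ : ∃ m, n = 2 * m ∨ n = 2 * m + 1 := ⟨n / 2, by omega⟩
  rcases hm with rfl | rfl
  · refine Row.of_le (dl_PSU linHyp _ q) (hT p m _ _ hp.out (cgl_PSU_even hF (by omega))) ?_
    refine Nat.clog_le_of_le_pow ?_
    rcases Nat.lt_or_ge m 3 with h | h
    · obtain rfl : m = 2 := by omega
      norm_num
    · have := pow_bound h
      omega
  · refine Row.of_le (dl_PSU linHyp _ q) (hT p m _ _ hp.out (cgl_PSU_odd hF (by omega))) ?_
    refine Nat.clog_le_of_le_pow ?_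
    have := pow_bound (m := m) (by omega)
    omega

/-- `PΩ_{2m+1}(q)`, `q` odd -/
theorem row_podd_eq (hT : ThetaHyp) {m : ℕ} (hm : 3 ≤ m) (h2 : (2 : F) ≠ 0) : Row p (POmega F (quadFormOdd m F)) := by
  refine Row.of_le (dl_POmega linHyp _) (hT p m _ _ hp.out (cgl_PO_odd h2 (by omega))) ?_
  refine Nat.clog_le_of_le_pow ?_
  rw [Fintype.card_sum, Fintype.card_sum, Fintype.card_fin, Fintype.card_unit]
  have := pow_bound hm
  omega

/-- `PΩ⁺_{2m}(q)` -/
theorem row_pplus_eq (hT : ThetaHyp) {m : ℕ} (hm : 4 ≤ m) : Row p (POmega F (quadFormPlus m F)) := by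
  obtain ⟨k, rfl⟩ : ∃ k, m = k + 3 := ⟨m - 3, by omega⟩
  refine Row.of_le (dl_POmega linHyp _) (hT p (k + 1 + 2) _ _ hp.out (cgl_PO_plus k)) ?_
  refine Nat.clog_le_of_le_pow ?_
  rw [Fintype.card_sum, Fintype.card_fin]
  have := pow_bound (m := k + 1 + 2) (by omega)
  omega

/-- `PΩ⁻_{2m}(q)` -/
theorem row_pminus_eq (hT : ThetaHyp) {m : ℕ} (hm : 4 ≤ m) {a b : F}
    (hab : ∀ z₁ z₂ : F, z₁ ^ 2 + a * z₁ * z₂ + b * z₂ ^ 2 = 0 → z₁ = 0 ∧ z₂ = 0) :
    Row p (POmega F (quadFormMinus (m - 1) F a b)) := by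
  refine Row.of_le (dl_POmega linHyp _) (hT p (m - 1) _ _ hp.out (cgl_PO_minus a b hab (by omega))) ?_
  refine Nat.clog_le_of_le_pow ?_
  rw [Fintype.card_sum, Fintype.card_sum, Fintype.card_fin, Fintype.card_fin]
  have := pow_bound (m := m - 1) (by omega)
  omega

/-- `PSU_5(q)`, with `Many p _ 3` -/
theorem row_psu_five (q : ℕ) (hM : Many p (PSU 5 F q) 3) : Row p (PSU 5 F q) :=
  Row.of_le (dl_PSU linHyp 5 q) hM (by
    refine Nat.clog_le_of_le_pow ?_
    norm_num)

end rows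

/-! ### rank one -/

section rankOne

variable {p : ℕ}

theorem dl_psl_two {F : Type} [Field F] [Fintype F] [Fact p.Prime] [CharP F p] :
    DlLe p 1 (Matrix.ProjectiveSpecialLinearGroup (Fin 2) F) :=
  (dl_PSL linHyp 2).mono (Nat.clog_le_of_le_pow (by norm_num))

theorem dl_psu_three {F : Type} [Field F] [Fintype F] [Fact p.Prime] [CharP F p] (q : ℕ) : DlLe p 2 (PSU 3 F q) :=
  (dl_PSU linHyp 3 q).mono (Nat.clog_le_of_le_pow (by norm_num))

theorem dl_sz {S : Type u} [Group S] [Finite S] (h : Lie.IsoSuzuki S) : DlLe 2 2 S := by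
  obtain ⟨F, _, _, m, hm, hc, ⟨e⟩⟩ := h
  have : Fact (Nat.Prime 2) := ⟨Nat.prime_two⟩
  have : CharP F 2 := charP_of_card_eq_prime_pow hc
  have h1 := dlLe_of_linear (p := 2) linHyp (F := F) (ι := Fin 4) (G' := ↥(Lie.Sz F (2 ^ (m + 1))))
    (Lie.Sz F (2 ^ (m + 1))).subtype Subtype.val_injective e.symm.toMonoidHom e.symm.surjective
  exact h1.mono (Nat.clog_le_of_le_pow (by simp))

end rankOne

end Cfsg.Agent.H152.Dl
end

-- part: H152/Dl/Theta
section
/-!
# `ThetaHyp` (helper152, task DL-EQ-CLASS of S4769)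
-/

set_option autoImplicit false
set_option linter.unusedSectionVars false

namespace Cfsg.Agent.H152.Dl

open Cfsg CoxeterSystem Cfsg.Agent.ChevalleyStructure.CoxeterGeom Cfsg.Agent.Tits.Roots Cfsg.Agent.Tits.Core
open Cfsg.Agent.Nodes Cfsg.Agent.Nodes.BNOf Cfsg.Agent.Nodes.Reps Cfsg.Agent.Nodes.Bruhat Cfsg.Agent.Nodes.LeviDec
open Cfsg.Agent.Omega.EH3.Kf.Lev
open Cfsg.Agent.H246.Dl

theorem thetaHyp : ThetaHyp := by
  intro p l M G _ _ hp hG
  obtain ⟨A, h, T, n, X, -, hW, R, hX, hC, -⟩ := hG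
  haveI := hW
  haveI : Fact p.Prime := ⟨hp⟩
  have hGG : GG M.toCoxeterSystem h T X = ⊤ := by
    rw [eq_top_iff, ← hX]
    exact le_sup_right
  have := H211.Dl.many_rank R hGG hC
  rwa [Fintype.card_fin] at this

end Cfsg.Agent.H152.Dl
end

-- part: H152/Dl/Five
section
/-!
# `PSU_5(q)` has three orbits of irreducible characters of degree divisible by `p` (helper152, task DL-EQ-CLASS)
-/

set_option autoImplicit false
set_option linter.unusedSectionVars false

namespace Cfsg.Agent.H152.Dl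

open Cfsg CoxeterSystem Cfsg.Agent.ChevalleyStructure.CoxeterGeom Cfsg.Agent.Tits.Roots Cfsg.Agent.Tits.Core
  Cfsg.Agent.Nodes.BNOf Cfsg.Agent.Nodes.Reps Cfsg.Agent.Nodes.Bruhat Cfsg.Agent.Nodes.LeviDec
  Cfsg.Agent.KFacts.RgdAut Cfsg.Agent.KFacts.RgdDiag
open Cfsg.Agent.Omega.EH3.Kf.Lev
open Cfsg.Agent.H246.Dl

section tau

variable {I W Y : Type*} [Fintype I] [DecidableEq I] [Group W] [Group Y] {M : CoxeterMatrix I}
  {cs : CoxeterSystem M W} {A : I → I → ℤ} {h : IsCartan M A} {p : ℕ} {T : Subgroup Y} {n : I → Y}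
  {X : (I → ℤ) → Subgroup Y}

/-- simple root groups of different orders: all automorphisms fix the classes of parabolic subgroups -/
theorem tau_of_card [Finite W] [Finite Y] [Fact p.Prime] (R : RGD cs h p T n X)
    (hG1 : RGD.Sup X {x | IsRoot cs h x} = ⊤)
    (hs : ∀ i j, i ≠ j → Nat.card (X (sr i)) ≠ Nat.card (X (sr j))) (α : MulAut Y) (J : Set I) :
    ∃ g : Y, (PJ cs h T X J).map α.toMonoidHom = (PJ cs h T X J).map (MulAut.conj g).toMonoidHom := by
  have hG := KFacts.RgdFilt.GG_eq_top (T := T) hG1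
  obtain ⟨y, hy⟩ := H211.Dl.exists_conj_fix R hG α
  obtain ⟨τ, hτ⟩ := H211.Dl.exists_perm_PJ R hG (fix_B R hG hy)
  have hmap : ∀ J, (PJ cs h T X J).map (MulAut.conj y * α).toMonoidHom = PJ cs h T X (τ '' J) := by
    intro J
    ext x
    constructor
    · rintro ⟨z, hz, rfl⟩
      exact (hτ J z).2 hz
    · intro hx
      obtain ⟨z, rfl⟩ := (MulAut.conj y * α).surjective x
      exact ⟨z, (hτ J z).1 hx, rfl⟩
  have hτ1 : ∀ i, τ i = i := by
    intro i
    by_contra hne
    have h1 := hmap {i}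
    rw [Set.image_singleton] at h1
    obtain ⟨β, σ, D, hσ⟩ := H223.PMinRgd.exists_diag_of_map R hG1 (fix_iff.1 hy) h1
    refine hs i (τ i) (Ne.symm hne) ?_
    rw [← hσ]
    exact (KFacts.RgdNodes.Diag.card_eq D i).symm
  have hJ : τ '' J = J := by
    have : (τ : I → I) = id := funext hτ1
    rw [this, Set.image_id]
  refine ⟨y⁻¹, ?_⟩
  have h2 := hmap J
  rw [hJ] at h2
  conv_rhs => rw [← h2, Subgroup.map_map]
  congr 1
  ext x
  simp only [mul_assoc, _root_.MulEquiv.toMonoidHom_eq_coe, _root_.MonoidHom.coe_coe, _root_.map_inv, _root_.MonoidHom.coe_comp, _root_.MulAut.coe_inv, _root_.MulAut.coe_mul, _root_.Function.comp_apply, _root_.MulAut.conj_apply, _root_.MulAut.conj_symm_apply, _root_.inv_mul_cancel_left, _root_.inv_mul_cancel, _root_.mul_one]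

end tau

section five

open Cfsg.Agent.Nodes
open Cfsg.Agent.Nodes.TypeC Cfsg.Agent.Nodes.Comb Cfsg.Agent.Nodes.WittRoot
  Cfsg.Agent.Nodes.WittAll Cfsg.Agent.Nodes.WittU
open Cfsg.Agent.TitsThree Cfsg.Agent.TitsThree.Siegel Cfsg.Agent.TitsThree.SiegelGen
  Cfsg.Agent.TitsThree.WittFrame Cfsg.Agent.TitsThree.WBridge Cfsg.Agent.TitsThree.WittWeyl
  Cfsg.Agent.TitsThree.FrameCN Cfsg.Agent.TitsThree.KSideU Cfsg.Agent.TitsThree.KSideUDesc
open Cfsg.Agent.LieClassical.HermBasic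
open Cfsg.Agent.H396 Cfsg.Agent.H396.CommTab Cfsg.Agent.Omega.EH3.Kf

/-- `PSU_5(q)`: three orbits of irreducible characters of degree divisible by `p` -/
theorem many_five {F : Type} [Field F] [Fintype F] {q : ℕ} (hF : Fintype.card F = q ^ 2) {p : ℕ} [Fact p.Prime]
    [CharP F p] : Many p (PSU 5 F q) 3 := by
  obtain ⟨W, d, hd, hW⟩ := exists_wframe_odd (N := 2 * 2 + 1) hF rfl
  obtain ⟨p0, hp0, -⟩ := exists_adm hF W
  have hA := AmbT.of_amb (amb_U hF W) p
  have hWf : Finite (CoxeterMatrix.B 2).Group := TypeC.finite_W (CoxeterMatrix.B 2).toCoxeterSystem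
  have hq := two_le hF
  have h1 : Nat.card (toFrame W).Adm = q ^ 3 := by
    have hd0 : d ≠ 0 := by
      rintro rfl
      rw [herm_zero_left] at hd
      exact zero_ne_one hd
    have h1 : Nat.card (toFrame W).V0 = q ^ 2 := by
      change Nat.card W.V0 = q ^ 2
      rw [hW, ← hF, ← Nat.card_eq_fintype_card]
      exact (Nat.card_congr (LinearEquiv.toSpanNonzeroSingleton F (Fin (2 * 2 + 1) → F) d hd0).toEquiv).symm
    rw [H742.card_adm (toFrame W) h1 (H742.card_ok hF W), ← pow_succ]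
  have h2 : Nat.card F = q ^ 2 := by rw [Nat.card_eq_fintype_card, hF]
  have h32 : q ^ 2 ≠ q ^ 3 := by
    have : q ^ 2 < q ^ 3 := Nat.pow_lt_pow_right (by omega) (by norm_num)
    omega
  have R := rgdC_model (KInstU.model hF (by omega) W) hA hp0 (CoxeterMatrix.B 2).toCoxeterSystem
  have hG1 := WittModel.G1_eq_top (KInstU.model hF (by omega) W) (by norm_num) (CoxeterMatrix.B 2).toCoxeterSystem
  have hC : CommGen (CoxeterMatrix.B 2).toCoxeterSystem (TypeC.isCartan 2)
      (WittModel.X (KInstU.model hF (by omega) W)) := by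
    have hGd := UOdd.gd (KInstU.model hF (by omega) W) ⟨d, by
      have h1 : (HU hF (2 * 2 + 1)).h d d = 1 := hd
      rw [h1]
      exact one_ne_zero, exists_ok hF W hW⟩
    exact fun _ hr h0 hs => hGd.gen _ hr h0 hs
  have hG := KFacts.RgdFilt.GG_eq_top (T := WittModel.T (KInstU.model hF (by omega) W)) hG1
  refine H211.Dl.many_classes R hG hC ?_ (i := 0) (j := 1) (by decide) (tau_of_card R hG1 ?_)
  · intro k l hkl
    fin_cases k <;> fin_cases l <;> first | exact absurd rfl hkl | decide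
  · intro k l hkl
    have ha := H742.card_X_of_lt (KInstU.model hF (by omega) W) (i := (0 : Fin 2)) (by norm_num)
    have hb := H742.card_X_last (KInstU.model hF (by omega) W) (i := (1 : Fin 2)) (by norm_num)
    fin_cases k <;> fin_cases l
    · exact absurd rfl hkl
    · change Nat.card (WittModel.X _ (sr (0 : Fin 2))) ≠ Nat.card (WittModel.X _ (sr (1 : Fin 2)))
      rw [ha, hb, h1, h2]
      exact h32
    · change Nat.card (WittModel.X _ (sr (1 : Fin 2))) ≠ Nat.card (WittModel.X _ (sr (0 : Fin 2)))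
      rw [ha, hb, h1, h2]
      exact h32.symm
    · exact absurd rfl hkl

/-- **`PSU_5(q)`** -/
theorem row_psu_five' {F : Type} [Field F] [Fintype F] {q : ℕ} (hF : Fintype.card F = q ^ 2) {p : ℕ} [Fact p.Prime]
    [CharP F p] : Row p (PSU 5 F q) :=
  row_psu_five q (many_five hF)

end five

end Cfsg.Agent.H152.Dl
end

-- part: H152/Dl/Final
section
/-!
# S4769, `p` the defining characteristic: classical groups, `PSL_2`, `PSU_3`, `Sz`, `Ree` (helper152, task DL-EQ-CLASS)

`S` is any finite simple group with an isomorphism to the group of the family over `F`, `p` a prime divisor of `|F|`.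
-/

set_option autoImplicit false
set_option linter.unusedSectionVars false

namespace Cfsg.Agent.H152.Dl

open Cfsg
open Cfsg.Agent.H246.Dl Cfsg.Agent.H596.OneFacts

universe u

theorem charP_of_dvd {F : Type*} [Field F] [Fintype F] {p : ℕ} (hp : p.Prime) (hd : p ∣ Fintype.card F) : CharP F p := by
  obtain ⟨r, hr⟩ := CharP.exists F
  have hpr : Fact r.Prime := ⟨(CharP.char_is_prime_or_zero F r).resolve_right (CharP.char_ne_zero_of_finite F r)⟩
  obtain ⟨n, -, hn⟩ := FiniteField.card F r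
  rw [hn] at hd
  rwa [(Nat.prime_dvd_prime_iff_eq hp hpr.out).1 (hp.dvd_of_dvd_pow hd)]

variable {S : Type u} [Group S] [Finite S] {F : Type} [Field F] [Fintype F] {p : ℕ}

/-- `PSL_n(q)`, `n ≥ 3` -/
theorem own_psl {n : ℕ} (hn : 3 ≤ n) (e : S ≃* Matrix.ProjectiveSpecialLinearGroup (Fin n) F) (hp : p.Prime)
    (hd : p ∣ Fintype.card F) : Row p S := by
  have : Fact p.Prime := ⟨hp⟩
  have := charP_of_dvd hp hd
  exact Row.of_equiv e (row_psl_eq thetaHyp hn)

/-- `PSp_{2m}(q)`, `q > 2` -/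
theorem own_psp {m : ℕ} (hm : 2 ≤ m) (hF : 2 < Fintype.card F) (e : S ≃* PSp m F) (hp : p.Prime)
    (hd : p ∣ Fintype.card F) : Row p S := by
  have : Fact p.Prime := ⟨hp⟩
  have := charP_of_dvd hp hd
  exact Row.of_equiv e (row_psp_eq thetaHyp hm hF)

/-- `PSU_n(q)`, `n ≥ 4` -/
theorem own_psu {n q : ℕ} (hF : Fintype.card F = q ^ 2) (hn : 4 ≤ n) (e : S ≃* PSU n F q) (hp : p.Prime)
    (hd : p ∣ Fintype.card F) : Row p S := by
  have : Fact p.Prime := ⟨hp⟩
  have := charP_of_dvd hp hd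
  by_cases h5 : n = 5
  · subst h5
    exact Row.of_equiv e (row_psu_five' hF)
  · exact Row.of_equiv e (row_psu_eq thetaHyp hF (by omega))

/-- `PΩ_{2m+1}(q)` -/
theorem own_podd {m : ℕ} (hm : 3 ≤ m) (ho : Odd (Fintype.card F)) (e : S ≃* POmega F (quadFormOdd m F)) (hp : p.Prime)
    (hd : p ∣ Fintype.card F) : Row p S := by
  have : Fact p.Prime := ⟨hp⟩
  have := charP_of_dvd hp hd
  refine Row.of_equiv e (row_podd_eq thetaHyp hm ?_)
  intro h2
  have h3 : CharP F 2 := CharTwo.of_one_ne_zero_of_two_eq_zero one_ne_zero h2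
  have hev : 2 ∣ Fintype.card F := by
    obtain ⟨n, -, hn⟩ := FiniteField.card F 2
    rw [hn]
    exact dvd_pow_self 2 n.ne_zero
  exact (Nat.not_even_iff_odd.2 ho) (even_iff_two_dvd.2 hev)

/-- `PΩ⁺_{2m}(q)` -/
theorem own_pplus {m : ℕ} (hm : 4 ≤ m) (e : S ≃* POmega F (quadFormPlus m F)) (hp : p.Prime)
    (hd : p ∣ Fintype.card F) : Row p S := by
  have : Fact p.Prime := ⟨hp⟩
  have := charP_of_dvd hp hd
  exact Row.of_equiv e (row_pplus_eq thetaHyp hm)

/-- `PΩ⁻_{2m}(q)` -/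
theorem own_pminus {m : ℕ} (hm : 4 ≤ m) {a b : F}
    (hab : ∀ z₁ z₂ : F, z₁ ^ 2 + a * z₁ * z₂ + b * z₂ ^ 2 = 0 → z₁ = 0 ∧ z₂ = 0)
    (e : S ≃* POmega F (quadFormMinus (m - 1) F a b)) (hp : p.Prime)
    (hd : p ∣ Fintype.card F) : Row p S := by
  have : Fact p.Prime := ⟨hp⟩
  have := charP_of_dvd hp hd
  exact Row.of_equiv e (row_pminus_eq thetaHyp hm hab)

section rankOne

variable [IsSimpleGroup S]

/-- `PSL_2(q)` -/
theorem own_l2 (I : H671.H5.FactIM.{u}) (hc : ¬ IsMulCommutative S) (e : S ≃* Matrix.ProjectiveSpecialLinearGroup (Fin 2) F)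
    (hp : p.Prime) (hd : p ∣ Fintype.card F) (hS : p ∣ Nat.card S) : Row p S := by
  have : Fact p.Prime := ⟨hp⟩
  have := charP_of_dvd hp hd
  exact H759.Dl.row_of_dl_one I hc hp hS ((dl_psl_two (F := F) (p := p)).of_equiv e)

/-- `PSU_3(q)` -/
theorem own_u3 (T : FactTwo.{u}) (I : H671.H5.FactIM.{u}) (hc : ¬ IsMulCommutative S) {q : ℕ} (e : S ≃* PSU 3 F q)
    (hp : p.Prime) (hd : p ∣ Fintype.card F) (hS : p ∣ Nat.card S) : Row p S := by
  have : Fact p.Prime := ⟨hp⟩
  have := charP_of_dvd hp hd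
  exact H759.Dl.row_of_dl_two T I hc hp hS ((dl_psu_three (F := F) (p := p) q).of_equiv e)

/-- `Sz(q)`, `p = 2` -/
theorem own_sz (T : FactTwo.{u}) (I : H671.H5.FactIM.{u}) (hc : ¬ IsMulCommutative S) (h : Lie.IsoSuzuki S)
    (hS : 2 ∣ Nat.card S) : Row 2 S :=
  H759.Dl.row_of_dl_two T I hc Nat.prime_two hS (dl_sz h)

/-- `Ree(q)`, `p = 3` -/
theorem own_ree (T : FactTwo.{u}) (I : H671.H5.FactIM.{u}) (hc : ¬ IsMulCommutative S) (h : Lie.IsoRee S)
    (hS : 3 ∣ Nat.card S) : Row 3 S :=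
  H759.Dl.row_of_dl_two T I hc Nat.prime_three hS (dl_ree h)

end rankOne

end Cfsg.Agent.H152.Dl
end

-- part: H674/Dl/OrthEight
section
/-!
# The Sylow 2-subgroups of `PΩ⁺_8(3)` have derived length at most 3 (helper674, S4769)

The form is `Σ x_i²` over the field with three elements; the signed permutation matrices `(ε, σ)` with `∏ ε = 1`, `σ` even lie in
`Ω` and contain a Sylow 2-subgroup of `Ω`; the Sylow 2-subgroups of `A₈ = GL_4(2)` have derived length 2.
-/

set_option autoImplicit false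

open Cfsg

namespace Cfsg.Agent.H674.Dl

open Module Cfsg.Agent.H53.HC Cfsg.Agent.H477.HC Cfsg.Agent.H749.Two Cfsg.Agent.H246.Dl

open scoped commutatorElement

universe u v w

section transfer

variable {G : Type u} [Group G] [Finite G] {H : Type v} [Group H] [Finite H] {p : ℕ} [hp : Fact p.Prime]

theorem derivedSeries_equiv {A : Type u} {B : Type v} [Group A] [Group B] (e : A ≃* B) {d : ℕ}
    (h : derivedSeries B d = ⊥) : derivedSeries A d = ⊥ := by
  have h1 := map_derivedSeries_eq e.symm.surjective d (f := e.symm.toMonoidHom)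
  rw [← h1, h, Subgroup.map_bot]

/-- a subgroup of index prime to `p` -/
theorem dlLe_of_sub (f : H →* G) (hf : Function.Injective f) {n d : ℕ} (hH : p ^ n ∣ Nat.card H)
    (hG : ¬ p ^ (n + 1) ∣ Nat.card G) (h : DlLe p d H) : DlLe p d G := by
  intro P
  obtain ⟨Q⟩ : Nonempty (Sylow p H) := inferInstance
  have hG0 : Nat.card G ≠ 0 := Nat.card_pos.ne'
  have hH0 : Nat.card H ≠ 0 := Nat.card_pos.ne'
  have hcQ : Nat.card ((Q : Subgroup H).map f) = p ^ (Nat.card H).factorization p := by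
    rw [← Sylow.card_eq_multiplicity Q]
    exact (Nat.card_congr ((Q : Subgroup H).equivMapOfInjective f hf).toEquiv).symm
  have h1 : n ≤ (Nat.card H).factorization p := (hp.out.pow_dvd_iff_le_factorization hH0).1 hH
  have h2 : (Nat.card G).factorization p < n + 1 := by
    by_contra hcon
    exact hG ((hp.out.pow_dvd_iff_le_factorization hG0).2 (not_lt.1 hcon))
  have h3 : (Nat.card H).factorization p ≤ (Nat.card G).factorization p := by
    rw [← hp.out.pow_dvd_iff_le_factorization hG0, ← hcQ]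
    exact Subgroup.card_subgroup_dvd_card _
  have h4 : (Nat.card H).factorization p = (Nat.card G).factorization p := by omega
  rw [h4] at hcQ
  let R : Sylow p G := Sylow.ofCard ((Q : Subgroup H).map f) hcQ
  have e1 : ↥(P : Subgroup G) ≃* ↥(R : Subgroup G) := Sylow.equiv P R
  have e2 : ↥(Q : Subgroup H) ≃* ↥((Q : Subgroup H).map f) := (Q : Subgroup H).equivMapOfInjective f hf
  refine derivedSeries_equiv e1 ?_
  exact derivedSeries_equiv e2.symm (h Q)

end transfer

/-! ### the group of signed permutations -/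

section mon

/-- the action -/
def act : Equiv.Perm (Fin 8) →* MulAut (Fin 8 → ℤˣ) where
  toFun σ :=
    { toFun := fun ε i => ε (σ⁻¹ i)
      invFun := fun ε i => ε (σ i)
      left_inv := fun ε => by ext i; simp
      right_inv := fun ε => by ext i; simp
      map_mul' := fun _ _ => rfl }
  map_one' := rfl
  map_mul' := fun _ _ => rfl

/-- signed permutations -/
abbrev SP : Type := (Fin 8 → ℤˣ) ⋊[act] Equiv.Perm (Fin 8)

theorem act_apply (σ : Equiv.Perm (Fin 8)) (ε : Fin 8 → ℤˣ) (i : Fin 8) : act σ ε i = ε (σ⁻¹ i) := rfl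

instance : Finite SP := Finite.of_equiv _ SemidirectProduct.equivProd.symm

/-- the two signs -/
def sgn2 : SP →* ℤˣ × ℤˣ where
  toFun g := (∏ i, g.left i, Equiv.Perm.sign g.right)
  map_one' := by
    apply Prod.ext
    · change ∏ i : Fin 8, (1 : ℤˣ) = 1
      simp
    · exact map_one _
  map_mul' := fun g h => by
    apply Prod.ext
    · change ∏ i, (g.left i * act g.right h.left i) = _
      rw [Finset.prod_mul_distrib]
      congr 1
      exact Equiv.prod_comp g.right⁻¹ h.left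
    · exact map_mul _ _ _

/-- the even signed permutations with product of the signs `1` -/
def ESP : Subgroup SP := sgn2.ker

theorem card_ESP : 2 ^ 13 ∣ Nat.card ESP := by
  have h1 : Nat.card SP = 2 ^ 15 * 315 := by
    rw [SemidirectProduct.card, Nat.card_eq_fintype_card, Nat.card_eq_fintype_card, Fintype.card_perm]
    simp only [Fintype.card_pi, Fintype.card_units_int, Finset.prod_const, Finset.card_univ, Fintype.card_fin]
    norm_num [Nat.factorial]
  have h2 : Nat.card ESP * Nat.card sgn2.range = Nat.card SP := by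
    rw [← Nat.card_congr (QuotientGroup.quotientKerEquivRange sgn2).toEquiv, mul_comm]
    exact (Subgroup.card_eq_card_quotient_mul_card_subgroup _).symm
  have h3 : Nat.card sgn2.range ∣ 4 := by
    have := Subgroup.card_subgroup_dvd_card sgn2.range
    have h4 : Nat.card (ℤˣ × ℤˣ) = 4 := by
      rw [Nat.card_eq_fintype_card]; rfl
    rwa [h4] at this
  have h4 : 2 ^ 13 * 4 ∣ Nat.card ESP * 4 := by
    have h5 : 2 ^ 13 * 4 ∣ Nat.card ESP * Nat.card sgn2.range := by
      rw [h2, h1]; exact ⟨315, by norm_num⟩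
    exact h5.trans (Nat.mul_dvd_mul_left _ h3)
  exact Nat.dvd_of_mul_dvd_mul_right (by norm_num) h4

/-- **in the commutator subgroup** -/
theorem ESP_le : ESP ≤ commutator SP := by
  intro g hg
  have hg' : sgn2 g = 1 := hg
  have h1 : ∏ i, g.left i = 1 := congrArg Prod.fst hg'
  have h2 : Equiv.Perm.sign g.right = 1 := congrArg Prod.snd hg'
  rw [← SemidirectProduct.inl_left_mul_inr_right g]
  refine Subgroup.mul_mem _ ?_ ?_
  · -- diagonal
    have h3 : g.left = ∏ i, (Pi.mulSingle i (g.left i) * Pi.mulSingle (0 : Fin 8) (g.left i)) := by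
      rw [Finset.prod_mul_distrib, Finset.univ_prod_mulSingle]
      have : ∏ i, Pi.mulSingle (0 : Fin 8) (g.left i) = (1 : Fin 8 → ℤˣ) := by
        have h4 := map_prod (MonoidHom.mulSingle (fun _ : Fin 8 => ℤˣ) 0) (fun i => g.left i) Finset.univ
        rw [h1, map_one] at h4
        exact h4.symm
      rw [this, mul_one]
    change g.left ∈ (commutator SP).comap SemidirectProduct.inl
    rw [h3]
    refine Subgroup.prod_mem _ fun i _ => ?_
    rw [Subgroup.mem_comap]
    have h4 : ∀ u : ℤˣ, (SemidirectProduct.inl (Pi.mulSingle i u * Pi.mulSingle (0 : Fin 8) u) : SP) =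
        ⁅(SemidirectProduct.inl (Pi.mulSingle i u) : SP), (SemidirectProduct.inr (Equiv.swap 0 i) : SP)⁆ := by
      intro u
      have hassoc : ∀ a b : SP, a * b * a⁻¹ * b⁻¹ = a * (b * (a⁻¹ * b⁻¹)) := fun a b => by group
      rw [commutatorElement_def, hassoc]
      have h5 : (SemidirectProduct.inr (Equiv.swap 0 i) : SP) * ((SemidirectProduct.inl (Pi.mulSingle i u) : SP)⁻¹ *
          (SemidirectProduct.inr (Equiv.swap 0 i) : SP)⁻¹) = SemidirectProduct.inl (act (Equiv.swap 0 i) (Pi.mulSingle i u)⁻¹) := by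
        rw [SemidirectProduct.inl_aut, map_inv, map_inv, mul_assoc]
      rw [h5, ← map_mul]
      congr 2
      ext j
      rw [act_apply, Pi.inv_apply, Equiv.swap_inv]
      have hu : u⁻¹ = u := Int.units_inv_eq_self u
      by_cases hj : j = 0
      · subst hj
        rw [Equiv.swap_apply_left, Pi.mulSingle_eq_same, Pi.mulSingle_eq_same, hu]
      · rw [Pi.mulSingle_eq_of_ne hj]
        have h6 : Equiv.swap 0 i j ≠ i := by
          intro h7
          apply hj
          have := congrArg (Equiv.swap 0 i) h7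
          rwa [Equiv.swap_apply_self, Equiv.swap_apply_right] at this
        rw [Pi.mulSingle_eq_of_ne h6, inv_one]
    rw [h4]
    exact Subgroup.commutator_mem_commutator (Subgroup.mem_top _) (Subgroup.mem_top _)
  · have h3 : g.right ∈ commutator (Equiv.Perm (Fin 8)) := by
      rw [alternatingGroup.commutator_perm_eq (by rw [Nat.card_fin]; norm_num), Equiv.Perm.mem_alternatingGroup]
      exact h2
    have h4 : (commutator (Equiv.Perm (Fin 8))).map (SemidirectProduct.inr : _ →* SP) ≤ commutator SP := by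
      rw [commutator_def, Subgroup.map_commutator]
      exact Subgroup.commutator_mono le_top le_top
    exact h4 (Subgroup.mem_map_of_mem _ h3)

/-- the permutation -/
def toAlt : ESP →* alternatingGroup (Fin 8) :=
  (SemidirectProduct.rightHom.comp ESP.subtype).codRestrict (alternatingGroup (Fin 8)) fun g => by
    have h : sgn2 (g : SP) = 1 := g.2
    rw [Equiv.Perm.mem_alternatingGroup]
    exact congrArg Prod.snd h

theorem dl_alt_eight (R : Subgroup (alternatingGroup (Fin 8))) (hR : IsPGroup 2 R) : derivedSeries R 2 = ⊥ := by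
  have : Fact (Nat.Prime 2) := ⟨Nat.prime_two⟩
  obtain ⟨e⟩ := H168.gl_equiv (F := ZMod 2) (by rw [ZMod.card])
  have h := H755.Dl.charp (p := 2) (n := 4) (F := ZMod 2) hR (ρ := e.symm.toMonoidHom.comp R.subtype)
    (e.symm.injective.comp R.subtype_injective)
  have h1 : Nat.clog 2 4 = 2 := by norm_num [Nat.clog]
  rwa [h1] at h

theorem dlLe_ESP : DlLe 2 3 ESP := by
  intro P
  have : Fact (Nat.Prime 2) := ⟨Nat.prime_two⟩
  have h1 := dl_alt_eight ((P : Subgroup ESP).map toAlt) (P.isPGroup'.map _)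
  let π : ↥(P : Subgroup ESP) →* ↥((P : Subgroup ESP).map toAlt) := toAlt.subgroupMap (P : Subgroup ESP)
  have h2 : ∀ x ∈ derivedSeries ↥(P : Subgroup ESP) 2, π x = 1 := by
    intro x hx
    have h3 : π x ∈ derivedSeries ↥((P : Subgroup ESP).map toAlt) 2 :=
      map_derivedSeries_le_derivedSeries π 2 (Subgroup.mem_map_of_mem _ hx)
    rw [h1] at h3
    exact Subgroup.mem_bot.1 h3
  have h3 : ∀ x ∈ derivedSeries ↥(P : Subgroup ESP) 2, ((x : ESP) : SP).right = 1 := by
    intro x hx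
    have h4 := congrArg (fun y => (((y : ↥((P : Subgroup ESP).map toAlt)) : alternatingGroup (Fin 8)) :
      Equiv.Perm (Fin 8))) (h2 x hx)
    exact h4
  rw [derivedSeries_succ, eq_bot_iff, Subgroup.commutator_le]
  intro x hx y hy
  rw [Subgroup.mem_bot, commutatorElement_eq_one_iff_mul_comm]
  apply Subtype.ext
  apply Subtype.ext
  change ((x : ESP) : SP) * ((y : ESP) : SP) = ((y : ESP) : SP) * ((x : ESP) : SP)
  apply SemidirectProduct.ext
  · rw [SemidirectProduct.mul_left, SemidirectProduct.mul_left, h3 x hx, h3 y hy, map_one, MulAut.one_apply,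
      MulAut.one_apply, mul_comm]
  · rw [SemidirectProduct.mul_right, SemidirectProduct.mul_right, h3 x hx, h3 y hy]

end mon

/-! ### the representation -/

section rep

variable {K : Type} [Field K]

/-- the matrices -/
def mn0 : SP →* Module.End K (Fin 8 → K) where
  toFun g :=
    { toFun := fun x i => ((g.left i : ℤ) : K) * x (g.right⁻¹ i)
      map_add' := fun x y => by ext i; simp only [mul_add, _root_.Equiv.Perm.coe_inv, _root_.Pi.add_apply]
      map_smul' := fun c x => by ext i; simp only [Pi.smul_apply, smul_eq_mul, RingHom.id_apply]; ring }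
  map_one' := by
    ext x i
    simp only [_root_.SemidirectProduct.one_left, _root_.Pi.one_apply, _root_.Units.val_one, _root_.Int.cast_one, _root_.SemidirectProduct.one_right, _root_.inv_one, _root_.Equiv.Perm.coe_one, _root_.id_eq, _root_.one_mul, _root_.LinearMap.coe_comp, _root_.LinearMap.coe_mk, _root_.AddHom.coe_mk, _root_.LinearMap.coe_single, _root_.Function.comp_apply, _root_.Module.End.one_apply]
  map_mul' := fun g h => by
    apply LinearMap.ext
    intro x
    ext i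
    change ((((g.left * act g.right h.left) i : ℤˣ) : ℤ) : K) * x ((g.right * h.right)⁻¹ i) =
      ((g.left i : ℤ) : K) * (((h.left (g.right⁻¹ i) : ℤ) : K) * x (h.right⁻¹ (g.right⁻¹ i)))
    rw [Pi.mul_apply, act_apply, Units.val_mul, Int.cast_mul, mul_assoc, mul_inv_rev]
    rfl

theorem mn0_apply (g : SP) (x : Fin 8 → K) (i : Fin 8) : mn0 g x i = ((g.left i : ℤ) : K) * x (g.right⁻¹ i) := rfl

theorem unit_sq (u : ℤˣ) : ((u : ℤ) : K) ^ 2 = 1 := by
  rcases Int.units_eq_one_or u with rfl | rfl <;> simp only [_root_.Units.val_one, _root_.Int.cast_one, _root_.one_pow, _root_.Units.val_neg, _root_.Int.reduceNeg, _root_.Int.cast_neg, _root_.even_two, _root_.Even.neg_pow]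

theorem mn0_sq (g : SP) (x : Fin 8 → K) : ∑ i, (mn0 g x i) ^ 2 = ∑ i, x i ^ 2 := by
  have h1 : ∀ i, (mn0 g x i) ^ 2 = (x (g.right⁻¹ i)) ^ 2 := fun i => by
    rw [mn0_apply, mul_pow, unit_sq, one_mul]
  rw [Finset.sum_congr rfl fun i _ => h1 i]
  exact Equiv.sum_comp g.right⁻¹ fun i => x i ^ 2

theorem mn0_inj (h2 : (2 : K) ≠ 0) : Function.Injective (mn0 (K := K)) := by
  rw [injective_iff_map_eq_one]
  intro g hg
  have h1 : ∀ (x : Fin 8 → K) (i : Fin 8), ((g.left i : ℤ) : K) * x (g.right⁻¹ i) = x i := fun x i => by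
    rw [← mn0_apply, hg]; rfl
  have h3 : ∀ i, g.right⁻¹ i = i := by
    intro i
    by_contra hne
    have h4 := h1 (Pi.single i 1) i
    rw [Pi.single_eq_of_ne hne, Pi.single_eq_same, mul_zero] at h4
    exact zero_ne_one h4
  apply SemidirectProduct.ext
  · ext i
    have h4 := h1 (fun _ => 1) i
    rw [mul_one] at h4
    rcases Int.units_eq_one_or (g.left i) with h | h
    · rw [h]; rfl
    · rw [h] at h4
      exfalso
      apply h2
      have h5 : (-1 : K) = 1 := by simpa using h4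
      linear_combination -h5
  · have h4 : g.right⁻¹ = 1 := Equiv.ext h3
    rw [SemidirectProduct.one_right]
    exact inv_eq_one.1 h4

/-- half of the base change -/
def fL (x : Fin 8 → K) : Fin 4 ⊕ Fin 4 → K :=
  Sum.elim ![x 0 + x 2 + x 3, x 1 + x 2 - x 3, x 4 + x 6 + x 7, x 5 + x 6 - x 7]
    ![x 0 - x 2 - x 3, x 1 - x 2 + x 3, x 4 - x 6 - x 7, x 5 - x 6 + x 7]

/-- the base change -/
def phi (h3 : (3 : K) = 0) : (Fin 8 → K) ≃ₗ[K] (Fin 4 ⊕ Fin 4 → K) where
  toFun := fL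
  map_add' x y := by
    ext i
    rcases i with i | i <;> (revert i; simp only [fL, _root_.Fin.forall_fin_succ, Fin.isValue, _root_.Pi.add_apply, _root_.Sum.elim_inl, _root_.Matrix.cons_val_zero, _root_.Matrix.cons_val_succ, _root_.Matrix.cons_val_fin_one, _root_.forall_const, _root_.Sum.elim_inr]) <;> (repeat' with_reducible apply And.intro) <;> ring
  map_smul' c x := by
    ext i
    rcases i with i | i <;> (revert i; simp only [fL, _root_.Fin.forall_fin_succ, Fin.isValue, _root_.Pi.smul_apply, _root_.smul_eq_mul, _root_.Sum.elim_inl, _root_.RingHom.id_apply, _root_.Matrix.cons_val_zero, _root_.Matrix.cons_val_succ, _root_.Matrix.cons_val_fin_one, _root_.forall_const, _root_.Sum.elim_inr]) <;> (repeat' with_reducible apply And.intro) <;> ring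
  invFun y := ![-(y (.inl 0) + y (.inr 0)), -(y (.inl 1) + y (.inr 1)),
    y (.inl 0) - y (.inr 0) + (y (.inl 1) - y (.inr 1)), y (.inl 0) - y (.inr 0) - (y (.inl 1) - y (.inr 1)),
    -(y (.inl 2) + y (.inr 2)), -(y (.inl 3) + y (.inr 3)),
    y (.inl 2) - y (.inr 2) + (y (.inl 3) - y (.inr 3)), y (.inl 2) - y (.inr 2) - (y (.inl 3) - y (.inr 3))]
  left_inv x := by
    ext i
    (revert i; simp only [fL, _root_.Fin.forall_fin_succ, _root_.Nat.succ_eq_add_one, Nat.reduceAdd, Fin.isValue, _root_.Sum.elim_inl, _root_.Matrix.cons_val_zero, _root_.Sum.elim_inr, _root_.add_add_sub_cancel, _root_.neg_add_rev, _root_.Matrix.cons_val_one, _root_.sub_add_add_cancel, _root_.Matrix.cons_val, _root_.Matrix.cons_val_succ, _root_.Fin.succ_zero_eq_one, _root_.Fin.succ_one_eq_two, Fin.reduceSucc, _root_.Matrix.cons_val_fin_one, _root_.IsEmpty.forall_iff, _root_.and_true, _root_.true_and]) <;> (repeat' with_reducible apply And.intro)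
    · linear_combination (-x 0) * h3
    · linear_combination (-x 1) * h3
    · linear_combination (x 2) * h3
    · linear_combination (x 3) * h3
    · linear_combination (-x 4) * h3
    · linear_combination (-x 5) * h3
    · linear_combination (x 6) * h3
    · linear_combination (x 7) * h3
  right_inv y := by
    ext i
    rcases i with i | i <;> (revert i; simp only [fL, _root_.Fin.forall_fin_succ, Fin.isValue, _root_.neg_add_rev, _root_.Matrix.cons_val_zero, _root_.Matrix.cons_val, _root_.Matrix.cons_val_one, _root_.Sum.elim_inl, _root_.Matrix.cons_val_succ, _root_.Fin.succ_zero_eq_one, _root_.Fin.succ_one_eq_two, _root_.Matrix.cons_val_fin_one, Fin.reduceSucc, _root_.IsEmpty.forall_iff, _root_.Sum.elim_inr, _root_.and_true, _root_.true_and]) <;> (repeat' with_reducible apply And.intro)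
    · linear_combination (-y (.inr 0)) * h3
    · linear_combination (-y (.inr 1)) * h3
    · linear_combination (-y (.inr 2)) * h3
    · linear_combination (-y (.inr 3)) * h3
    · linear_combination (-y (.inl 0)) * h3
    · linear_combination (-y (.inl 1)) * h3
    · linear_combination (-y (.inl 2)) * h3
    · linear_combination (-y (.inl 3)) * h3

theorem quad_phi (h3 : (3 : K) = 0) (x : Fin 8 → K) : quadFormPlus 4 K (phi h3 x) = ∑ i, x i ^ 2 := by
  change quadFormPlus 4 K (fL x) = _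
  rw [quadFormPlus, Fin.sum_univ_four, Fin.sum_univ_eight]
  simp only [fL, Sum.elim_inl, Sum.elim_inr]
  simp only [_root_.Fin.isValue, _root_.Matrix.cons_val_zero, _root_.Matrix.cons_val_one, _root_.Matrix.cons_val]
  linear_combination (-(x 2) ^ 2 - (x 3) ^ 2 - (x 6) ^ 2 - (x 7) ^ 2) * h3

/-- conjugation with the base change -/
def cj {V W : Type*} [AddCommGroup V] [Module K V] [AddCommGroup W] [Module K W] (e : V ≃ₗ[K] W) :
    (V ≃ₗ[K] V) →* (W ≃ₗ[K] W) where
  toFun g := (e.symm.trans g).trans e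
  map_one' := by
    ext x
    simp
  map_mul' g h := by
    ext x
    simp only [_root_.LinearEquiv.trans_apply, _root_.LinearEquiv.mul_apply, _root_.LinearEquiv.symm_apply_apply]

/-- the representation in `GL` -/
noncomputable def psi0 (h3 : (3 : K) = 0) : SP →* GL (Fin 4 ⊕ Fin 4) K :=
  matE.symm.toMonoidHom.comp ((cj (phi h3)).comp
    ((LinearMap.GeneralLinearGroup.generalLinearEquiv K (Fin 8 → K)).toMonoidHom.comp (mn0 (K := K)).toHomUnits))

theorem psi0_apply (h3 : (3 : K) = 0) (g : SP) (v : Fin 4 ⊕ Fin 4 → K) :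
    ((psi0 h3 g : GL (Fin 4 ⊕ Fin 4) K) : Matrix _ _ K).mulVec v = phi h3 (mn0 g ((phi h3).symm v)) := by
  rw [← matE_apply]
  change matE (matE.symm _) v = _
  rw [MulEquiv.apply_symm_apply]
  rfl

theorem psi0_inj (h3 : (3 : K) = 0) (h2 : (2 : K) ≠ 0) : Function.Injective (psi0 h3) := by
  rw [injective_iff_map_eq_one]
  intro g hg
  have h4 : mn0 (K := K) g = 1 := by
    apply LinearMap.ext
    intro x
    have h5 := psi0_apply h3 g (phi h3 x)
    rw [hg, LinearEquiv.symm_apply_apply, Units.val_one, Matrix.one_mulVec] at h5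
    exact ((phi h3).injective h5).symm
  exact mn0_inj h2 (h4.trans (map_one _).symm)

/-- the representation -/
noncomputable def psi (h3 : (3 : K) = 0) : SP →* isometryGroup K (quadFormPlus 4 K) :=
  (psi0 h3).codRestrict _ fun g => by
    intro u v
    change quadFormPlus 4 K (((psi0 h3 g : GL (Fin 4 ⊕ Fin 4) K) : Matrix _ _ K).mulVec u) = quadFormPlus 4 K u
    rw [psi0_apply, quad_phi, mn0_sq, ← quad_phi h3, LinearEquiv.apply_symm_apply]

theorem psi_inj (h3 : (3 : K) = 0) (h2 : (2 : K) ≠ 0) : Function.Injective (psi h3) := fun _ _ hgh =>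
  psi0_inj h3 h2 (congrArg Subtype.val hgh)

/-- even signed permutations in `Ω` -/
noncomputable def psiE (h3 : (3 : K) = 0) : ESP →* Omega K (quadFormPlus 4 K) :=
  ((psi h3).comp ESP.subtype).codRestrict _ fun g => by
    have h4 : (commutator SP).map (psi h3) ≤ Omega K (quadFormPlus 4 K) := by
      rw [Omega, commutator_def, commutator_def, Subgroup.map_commutator]
      exact Subgroup.commutator_mono le_top le_top
    exact h4 (Subgroup.mem_map_of_mem _ (ESP_le g.2))

theorem psiE_inj (h3 : (3 : K) = 0) (h2 : (2 : K) ≠ 0) : Function.Injective (psiE h3) := fun _ _ hgh =>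
  Subtype.ext (psi_inj h3 h2 (congrArg Subtype.val hgh))

theorem dlLe_sub {G : Type u} [Group G] {p d : ℕ} (h : DlLe p d G) (Q : Subgroup G) (hQ : IsPGroup p Q) :
    derivedSeries ↥Q d = ⊥ := by
  obtain ⟨P, hP⟩ := hQ.exists_le_sylow
  have h1 : (derivedSeries ↥Q d).map (Subgroup.inclusion hP) ≤ derivedSeries ↥(P : Subgroup G) d :=
    map_derivedSeries_le_derivedSeries _ d
  rw [h P, le_bot_iff, Subgroup.map_eq_bot_iff] at h1
  rw [eq_bot_iff]
  intro x hx
  have h2 := h1 hx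
  rw [MonoidHom.mem_ker] at h2
  rw [Subgroup.mem_bot]
  exact Subgroup.inclusion_injective hP (by rw [map_one]; exact h2)

theorem plusEightThree : PlusEightThree := by
  intro K _ _ hK
  have : Fact (Nat.Prime 2) := ⟨Nat.prime_two⟩
  have : Fact (Nat.Prime 3) := ⟨Nat.prime_three⟩
  have hch : CharP K 3 := by
    obtain ⟨p, hp⟩ := CharP.exists K
    let _ := Fintype.ofFinite K
    obtain ⟨n, hpp, hn⟩ := FiniteField.card K p
    rw [← Nat.card_eq_fintype_card, hK] at hn
    have h3 : p ∣ 3 := by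
      rw [hn]
      exact dvd_pow_self p n.2.ne'
    rwa [← (Nat.prime_dvd_prime_iff_eq hpp Nat.prime_three).1 h3]
  have h3 : (3 : K) = 0 := by exact_mod_cast CharP.cast_eq_zero K 3
  have ho : Odd (Nat.card K) := by rw [hK]; decide
  have h2 : (2 : K) ≠ 0 := two_ne_zero_of_odd (K := K) (p := 3) ho
  have hiso : Finite (isometryGroup K (quadFormPlus 4 K)) := inferInstance
  have hidx := plus_idx_four K (p := 3) ho (m := 4) le_rfl
  have hc1 : Nat.card (isometryGroup K (quadFormPlus 4 K)) = 2 * 3 ^ 12 * 80 * (8 * 80 * 728) := by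
    have h4 := card_plusF K (m := 4) (by norm_num)
    rw [← Nat.card_congr (isoQuad (CForm.plusF K 4) (plus_hB K 4)).toEquiv, hK] at h4
    refine Eq.trans h4 ?_
    simp only [Finset.prod_range_succ, _root_.Nat.add_one_sub_one, _root_.Nat.reduceMul, _root_.Nat.reducePow, _root_.Finset.range_one, _root_.Finset.prod_singleton, _root_.zero_add, _root_.mul_one, _root_.Nat.reduceAdd]
  have hc2 : 4 * Nat.card (Omega K (quadFormPlus 4 K)) = 2 * 3 ^ 12 * 80 * (8 * 80 * 728) := by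
    have h4 := Subgroup.index_mul_card (Omega K (quadFormPlus 4 K))
    rw [hidx] at h4
    rw [← hc1, ← h4]
  have hc3 : ¬ 2 ^ (13 + 1) ∣ Nat.card (Omega K (quadFormPlus 4 K)) := by
    rintro ⟨c, hc⟩
    rw [hc] at hc2
    omega
  have hO : DlLe 2 3 (Omega K (quadFormPlus 4 K)) :=
    dlLe_of_sub (psiE h3) (psiE_inj h3 h2) card_ESP hc3 dlLe_ESP
  exact H755.Dl.DlLe_of_surjective (QuotientGroup.mk'_surjective _) (dlLe_sub hO)

end rep

end Cfsg.Agent.H674.Dl
end

-- part: H674/Dl/OrthAll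
section
/-!
# The orthogonal rows of S4769 (helper674)

* `row_odd`, `row_plus'`, `row_minus` : the rows for `p ≠ r`;
* `rowF_odd`, `rowF_plus`, `rowF_minus` : the fields of `H759.Dl.Missing`, from the rows `p = r` (`EqOdd`, `EqPlus`, `EqMinus`).
-/

set_option autoImplicit false

open Cfsg

namespace Cfsg.Agent.H674.Dl

open Module Cfsg.Agent.H53.HC Cfsg.Agent.H477.HC Cfsg.Agent.H749.Two Cfsg.Agent.H246.Dl Cfsg.Agent.H759.Dl

universe u

theorem row_plus' (T : H596.OneFacts.FactTwo.{u}) (I : H671.H5.FactIM.{u}) {K : Type} [Field K]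
    [Finite K] (p : ℕ) [Fact p.Prime] [CharP K p] {m : ℕ} (hm : 4 ≤ m) {S : Type u} [Group S] [Finite S]
    [IsSimpleGroup S] (iso : S ≃* POmega K (quadFormPlus m K)) {r : ℕ} (hr : r.Prime) (hd : r ∣ Nat.card S)
    (hrp : r ≠ p) : Row r S :=
  row_plus plusEightThree T I p hm iso hr hd hrp

/-- the rows `p = r` -/
def EqOdd : Prop := ∀ {K : Type} [Field K] [Finite K] (p : ℕ) [Fact p.Prime] [CharP K p] {m : ℕ}, 3 ≤ m →
  Odd (Nat.card K) → ∀ {S : Type u} [Group S] [Finite S] [IsSimpleGroup S], (S ≃* POmega K (quadFormOdd m K)) → Row p S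

/-- the rows `p = r` -/
def EqPlus : Prop := ∀ {K : Type} [Field K] [Finite K] (p : ℕ) [Fact p.Prime] [CharP K p] {m : ℕ}, 4 ≤ m →
  ∀ {S : Type u} [Group S] [Finite S] [IsSimpleGroup S], (S ≃* POmega K (quadFormPlus m K)) → Row p S

/-- the rows `p = r` -/
def EqMinus : Prop := ∀ {K : Type} [Field K] [Finite K] (p : ℕ) [Fact p.Prime] [CharP K p] {l : ℕ} {a b : K},
  (∀ z₁ z₂ : K, z₁ ^ 2 + a * z₁ * z₂ + b * z₂ ^ 2 = 0 → z₁ = 0 ∧ z₂ = 0) → 3 ≤ l →
  ∀ {S : Type u} [Group S] [Finite S] [IsSimpleGroup S], (S ≃* POmega K (quadFormMinus l K a b)) → Row p S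

theorem exists_char (K : Type) [Field K] [Finite K] : ∃ p, p.Prime ∧ CharP K p := by
  obtain ⟨p, hp⟩ := CharP.exists K
  let _ := Fintype.ofFinite K
  obtain ⟨n, hpp, hn⟩ := FiniteField.card K p
  exact ⟨p, hpp, hp⟩

theorem rowF_odd (T : H596.OneFacts.FactTwo.{u}) (I : H671.H5.FactIM.{u}) (E : EqOdd.{u}) :
    RowF.{u} (fun S => IsPOmegaOdd S) := by
  intro S _ _ _ h r hr hd
  obtain ⟨K, _, _, m, hm, ho, ⟨iso⟩⟩ := h
  obtain ⟨p, hp, hch⟩ := exists_char K
  have : Fact p.Prime := ⟨hp⟩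
  rw [← Nat.card_eq_fintype_card] at ho
  by_cases hrp : r = p
  · subst hrp
    exact E r hm ho iso
  · exact row_odd T I p ho hm iso hr hd hrp

theorem rowF_plus (T : H596.OneFacts.FactTwo.{u}) (I : H671.H5.FactIM.{u}) (E : EqPlus.{u}) :
    RowF.{u} (fun S => IsPOmegaPlus S) := by
  intro S _ _ _ h r hr hd
  obtain ⟨K, _, _, m, hm, ⟨iso⟩⟩ := h
  obtain ⟨p, hp, hch⟩ := exists_char K
  have : Fact p.Prime := ⟨hp⟩
  by_cases hrp : r = p
  · subst hrp
    exact E r hm iso
  · exact row_plus' T I p hm iso hr hd hrp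

theorem rowF_minus (T : H596.OneFacts.FactTwo.{u}) (I : H671.H5.FactIM.{u}) (E : EqMinus.{u}) :
    RowF.{u} (fun S => IsPOmegaMinus S) := by
  intro S _ _ _ h r hr hd
  obtain ⟨K, _, _, m, a, b, hm, hab, ⟨iso⟩⟩ := h
  obtain ⟨p, hp, hch⟩ := exists_char K
  have : Fact p.Prime := ⟨hp⟩
  by_cases hrp : r = p
  · subst hrp
    exact E r hab (by omega) iso
  · exact row_minus T I p hab (by omega) iso hr hd hrp

end Cfsg.Agent.H674.Dl
end

-- part: H152/Dl/OrthF
section
/-!
# The orthogonal rows of S4769 (helper152, helper674): the fields `odd`, `plus`, `minus` of `H759.Dl.Missing`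
-/

set_option autoImplicit false

namespace Cfsg.Agent.H152.Dl

open Cfsg
open Cfsg.Agent.H246.Dl Cfsg.Agent.H596.OneFacts Cfsg.Agent.H674.Dl Cfsg.Agent.H759.Dl

universe u

theorem dvd_card_of_charP {K : Type*} [Field K] [Fintype K] (p : ℕ) [Fact p.Prime] [CharP K p] : p ∣ Fintype.card K := by
  obtain ⟨n, -, hn⟩ := FiniteField.card K p
  rw [hn]
  exact dvd_pow_self p n.ne_zero

theorem eqOdd : EqOdd.{u} := by
  intro K _ _ p hp _ m hm ho S _ _ _ e
  let _ : Fintype K := Fintype.ofFinite K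
  rw [Nat.card_eq_fintype_card] at ho
  exact own_podd hm ho e hp.out (dvd_card_of_charP p)

theorem eqPlus : EqPlus.{u} := by
  intro K _ _ p hp _ m hm S _ _ _ e
  let _ : Fintype K := Fintype.ofFinite K
  exact own_pplus hm e hp.out (dvd_card_of_charP p)

theorem eqMinus : EqMinus.{u} := by
  intro K _ _ p hp _ l a b hab hl S _ _ _ e
  let _ : Fintype K := Fintype.ofFinite K
  exact own_pminus (m := l + 1) (by omega) hab e hp.out (dvd_card_of_charP p)

theorem rowF_odd (T : FactTwo.{u}) (I : H671.H5.FactIM.{u}) : RowF.{u} (fun S => IsPOmegaOdd S) :=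
  H674.Dl.rowF_odd T I eqOdd

theorem rowF_plus (T : FactTwo.{u}) (I : H671.H5.FactIM.{u}) : RowF.{u} (fun S => IsPOmegaPlus S) :=
  H674.Dl.rowF_plus T I eqPlus

theorem rowF_minus (T : FactTwo.{u}) (I : H671.H5.FactIM.{u}) : RowF.{u} (fun S => IsPOmegaMinus S) :=
  H674.Dl.rowF_minus T I eqMinus

end Cfsg.Agent.H152.Dl
end

-- part: H70/Dl/Classes
section
/-!
# Counting classes by the orders of the elements (helper70)
-/

set_option autoImplicit false

open Cfsg

namespace Cfsg.Agent.H70.Dl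

open Cfsg.Agent.H246.Dl Cfsg.Agent.H596.OneFacts Cfsg.Agent.H651.Two Cfsg.Agent.H759.Dl Cfsg.Agent.H680.Dl
open Cfsg.Agent.H713.Count

universe u

/-- `m` classes of elements of order `n` -/
def Cls (G : Type*) [Group G] (n m : ℕ) : Prop :=
  ∃ f : Fin m → G, (∀ i, orderOf (f i) = n) ∧ ∀ i j, IsConj (f i) (f j) → i = j

variable {G : Type*} [Group G]

theorem orderOf_eq_of_isConj {a b : G} (h : IsConj a b) : orderOf a = orderOf b := by
  obtain ⟨c, hc⟩ := isConj_iff.1 h
  have h2 : orderOf (c * a * c⁻¹) = orderOf a := by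
    have := orderOf_injective (MulAut.conj c).toMonoidHom (MulAut.conj c).injective a
    simpa using this
  rw [← h2, hc]

theorem Cls.one {n : ℕ} {g : G} (h : orderOf g = n) : Cls G n 1 :=
  ⟨fun _ => g, fun _ => h, fun _ _ _ => Subsingleton.elim _ _⟩

theorem Cls.two {n : ℕ} {a b : G} (ha : orderOf a = n) (hb : orderOf b = n) (h : ¬ IsConj a b) : Cls G n 2 := by
  refine ⟨![a, b], ?_, ?_⟩
  · intro i
    fin_cases i
    · exact ha
    · exact hb
  · intro i j hij
    fin_cases i <;> fin_cases j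
    · rfl
    · exact absurd hij h
    · exact absurd hij.symm h
    · rfl

theorem Cls.three {n : ℕ} {a b c : G} (ha : orderOf a = n) (hb : orderOf b = n) (hc : orderOf c = n)
    (h1 : ¬ IsConj a b) (h2 : ¬ IsConj a c) (h3 : ¬ IsConj b c) : Cls G n 3 := by
  refine ⟨![a, b, c], ?_, ?_⟩
  · intro i
    fin_cases i
    · exact ha
    · exact hb
    · exact hc
  · intro i j hij
    fin_cases i <;> fin_cases j <;> first | rfl | skip
    · exact absurd hij h1
    · exact absurd hij h2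
    · exact absurd hij.symm h1
    · exact absurd hij h3
    · exact absurd hij.symm h2
    · exact absurd hij.symm h3

/-- Two classes of elements of prime order from the fusion of the powers. -/
theorem Cls.of_fus {p : ℕ} [hp : Fact p.Prime] {x : G} (hx : orderOf x = p)
    (h : (fus (p := p) x).card < p - 1) : Cls G p 2 := by
  classical
  have h1 : ∃ m : ZMod p, m ≠ 0 ∧ m ∉ fus (p := p) x := by
    by_contra hcon
    push Not at hcon
    have h2 : (Finset.univ.erase (0 : ZMod p)) ⊆ fus (p := p) x := by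
      intro m hm
      exact hcon m (Finset.ne_of_mem_erase hm)
    have h3 := Finset.card_le_card h2
    rw [Finset.card_erase_of_mem (Finset.mem_univ _), Finset.card_univ, ZMod.card] at h3
    omega
  obtain ⟨m, hm, hm'⟩ := h1
  have h2 : ¬ IsConj x (x ^ m.val) := fun h3 => hm' (mem_fus.2 ⟨hm, h3⟩)
  refine Cls.two hx ?_ h2
  have h3 : m.val ≠ 0 := fun h4 => hm ((ZMod.val_eq_zero m).1 h4)
  have h4 : Nat.Coprime (orderOf x) m.val := by
    rw [hx]
    refine (Nat.Prime.coprime_iff_not_dvd hp.out).2 fun h5 => ?_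
    have := Nat.le_of_dvd (Nat.pos_of_ne_zero h3) h5
    exact absurd (ZMod.val_lt m) (not_lt.2 this)
  rw [h4.orderOf_pow, hx]

/-- **Lower bound for the number of classes.** -/
theorem sum_le_classes [Finite G] (S : Finset ℕ) (w : ℕ → ℕ) (h : ∀ n ∈ S, Cls G n (w n)) :
    ∑ n ∈ S, w n ≤ Nat.card (ConjClasses G) := by
  classical
  choose! f hf hf' using h
  have h1 := Cfsg.Agent.H593.IMRank.card_le_conjClasses (G := G) (ι := (n : S) × Fin (w n))
    (fun i => f i.1 i.2) (fun i j hij => by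
      obtain ⟨⟨n, hn⟩, i⟩ := i
      obtain ⟨⟨m, hm⟩, j⟩ := j
      have h2 : n = m := by
        rw [← hf n hn i, ← hf m hm j]
        exact orderOf_eq_of_isConj hij
      subst h2
      have h3 := hf' n hn i j hij
      rw [h3])
  rw [Fintype.card_sigma] at h1
  simp only [Fintype.card_fin] at h1
  rwa [Finset.sum_coe_sort S w] at h1

theorem out_le_two {K : Type*} [Group K] {T : Type*} [Group T] (h : Nonempty (K ≃* T)) {n : ℕ}
    (hn : Nat.card (Out T) = n) (h2 : n ≤ 2) : Nat.card (Out K) ≤ 2 := by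
  obtain ⟨e⟩ := h
  rw [H55.OutGen.card_out_congr e, hn]
  exact h2

/-- **Many even characters** from the number of classes and a 2-element with a small centralizer. -/
theorem many_of_classes {S : Type u} [Group S] [Finite S] {p : ℕ} [Fact p.Prime] {m n : ℕ} {x : S}
    (hx : ∃ j : ℕ, orderOf x = p ^ j) (hC : Nat.card (Subgroup.centralizer ({x} : Set S)) = p ^ n)
    (ho : Nat.card (Out S) ≤ 2) (h : (m - 1) * 2 + p ^ n < Nat.card (ConjClasses S)) : Many p S m := by
  refine many_of_nd ?_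
  have h1 := classes_le_pgroup hx (IsPGroup.iff_card.2 ⟨n, hC⟩)
  rw [hC] at h1
  have h2 : (m - 1) * Nat.card (Out S) ≤ (m - 1) * 2 := Nat.mul_le_mul_left _ ho
  omega

end Cfsg.Agent.H70.Dl
end

private theorem dce_73a8c33a09aa : _root_.True := by
  try have : _root_.True := by simp only [_root_.Cfsg.Agent.H674.Dl.fL.eq_1]
  try have : _root_.True := by simp only [_root_.Cfsg.Agent.H674.Dl.cj.eq_1]
  exact _root_.True.intro
end

-- part: H810/Dl/BabyBlock_mg
section
prune_inst 0x474707f346de2020000180516c0007e66ea000092106b8000d96001460c8bff22a902af20ae901b06122aa2c4403d0008130000a0420000000e040400413d05a190c01602f1c9e119b2001f01308c610000008000000000000000000000041004014410000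
set_option linter.all false
open scoped Cfsg.Agent.FastGrp

-- part: H810/Dl/Block
section
/-!
# Three characters of a block from a local subgroup (helper810, task 2520)

* `NNd p k M F` : some irreducible character `χ` with `∑ F g χ g / χ 1` not in the local ideal at `M` has a degree whose
  exponent of `p` is at most `k`;
* `block_step` : `H = C(P)`, `NNd p k M F|H`, `k + 2 ≤ v_p |H|`: there is a block `B` of `G` with at least three members,
  all of them with `om F χ` not in the local ideal;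
* `exists_ext` : extension of a character of a quotient of a normal subgroup with a cyclic factor group.
-/

set_option autoImplicit false

open Cfsg
open scoped ComplexConjugate

namespace Cfsg.Agent.H810.Dl

open Cfsg.Agent.Blocks.LocalRing
open Cfsg.Agent.Blocks
open Cfsg.Agent.H652.Four
open Cfsg.Agent.H648.Loc
open Cfsg.Agent.Characters.Core

universe u v

/-- `NN` with a bound for the degree. -/
def NNd {G : Type u} [Group G] (p k : ℕ) (M : Ideal AlgInt) (F : G → ℂ) : Prop :=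
  ∃ χ : IrrCharacter G, ¬ MemLocalIdeal M (om F (χ : G → ℂ)) ∧ (charDegree (χ : G → ℂ)).factorization p ≤ k

section

variable {G : Type u} [Group G] [Finite G] {p : ℕ} {M : Ideal AlgInt}

/-- the companions of an irreducible character of a local subgroup form a block -/
theorem companion_block (hM : IsPModular p M) {P H : Subgroup G} (hP : IsPGroup p P)
    (hPH : P ≤ H) (hCH : Subgroup.centralizer (P : Set G) ≤ H)
    (hHN : H ≤ Subgroup.normalizer (P : Set G)) (ξ : IrrCharacter H) :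
    ∃ B : Set (IrrCharacter G), IsInducedBlock M H (blockOf M (ξ : H → ℂ)) B ∧ ∀ χ ∈ B, ∀ x : G,
      MemLocalIdeal M (brauerCentralChar P H (ξ : H → ℂ) x - centralChar (χ : G → ℂ) x) := by
  have : Fact p.Prime := ⟨prime hM⟩
  have : M.IsPrime := isPrime hM
  have hb : IsPBlock M (blockOf M (ξ : H → ℂ)) := Basic.isPBlock_blockOf ξ
  obtain ⟨B, hB⟩ := Cfsg.Agent.S0919.result p M hM P H hP hPH hCH hHN _ hb
  have h := (Cfsg.Agent.S0918.result p M hM P H hP hPH hCH hHN _ hb B hB.2.1).1 hB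
  exact ⟨B, hB, fun χ hχ => h ξ (Basic.mem_blockOf_self ξ) χ hχ⟩

omit [Finite G] in
/-- the central character at the part of `F` centralising `P`, for `H = C_G(P)` -/
theorem om_brauer [Finite G] [Fintype (ConjClasses G)] {P : Subgroup G} {F : G → ℂ}
    (hF : ∀ g x : G, F (g * x * g⁻¹) = F x) (ξ : IrrCharacter (Subgroup.centralizer (P : Set G))) :
    om (fun h : Subgroup.centralizer (P : Set G) => F (h : G)) (ξ : Subgroup.centralizer (P : Set G) → ℂ) =
      ∑ C : ConjClasses G, F (Quotient.out C) *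
        brauerCentralChar P (Subgroup.centralizer (P : Set G)) (ξ : Subgroup.centralizer (P : Set G) → ℂ)
          (Quotient.out C) := by
  classical
  have := Fintype.ofFinite G
  have := Fintype.ofFinite (Subgroup.centralizer (P : Set G))
  have hb : ∀ x : G, brauerCentralChar P (Subgroup.centralizer (P : Set G)) (ξ : Subgroup.centralizer (P : Set G) → ℂ) x =
      (∑ h : Subgroup.centralizer (P : Set G), cl x (h : G) * (ξ : Subgroup.centralizer (P : Set G) → ℂ) h) / (ξ : Subgroup.centralizer (P : Set G) → ℂ) 1 := by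
    intro x
    refine Eq.trans ?_ (CliffordCentral.inducedCentralChar_eq_sum
      (Subgroup.centralizer (P : Set G)) (ξ : Subgroup.centralizer (P : Set G) → ℂ) x)
    rw [Basic.brauerCentralChar_def, Basic.inducedCentralChar_def]
    have : {h : Subgroup.centralizer (P : Set G) | IsConj x (h : G) ∧
        (h : G) ∈ Subgroup.centralizer (P : Set G)} =
        {h : Subgroup.centralizer (P : Set G) | IsConj x (h : G)} := by
      ext h
      simp only [Set.mem_ofPred_eq, h.2, and_true]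
    rw [this]
  rw [om_eq]
  simp_rw [hb]
  have e : ∀ C : ConjClasses G, F (Quotient.out C) *
      ((∑ h : Subgroup.centralizer (P : Set G), cl (Quotient.out C) (h : G) * (ξ : Subgroup.centralizer (P : Set G) → ℂ) h) /
        (ξ : Subgroup.centralizer (P : Set G) → ℂ) 1) =
      (∑ h : Subgroup.centralizer (P : Set G),
        F (Quotient.out C) * (cl (Quotient.out C) (h : G) * (ξ : Subgroup.centralizer (P : Set G) → ℂ) h)) / (ξ : Subgroup.centralizer (P : Set G) → ℂ) 1 := by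
    intro C
    rw [← Finset.mul_sum, mul_div_assoc]
  rw [Finset.sum_congr rfl fun C _ => e C, ← Finset.sum_div, Finset.sum_comm]
  congr 1
  refine Finset.sum_congr rfl fun h _ => ?_
  rw [Finset.sum_eq_single (ConjClasses.mk (h : G))]
  · have hc : IsConj (Quotient.out (ConjClasses.mk (h : G))) (h : G) := by
      rw [← ConjClasses.mk_eq_mk_iff_isConj]
      exact Quotient.out_eq (ConjClasses.mk (h : G))
    rw [cl_pos hc, one_mul]
    obtain ⟨c, hc⟩ := isConj_iff.1 hc
    congr 1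
    conv_lhs => rw [← hc]
    exact hF _ _
  · intro C _ hC
    rw [cl_neg, zero_mul, mul_zero]
    intro hc
    apply hC
    rw [← ConjClasses.mk_eq_mk_iff_isConj] at hc
    rw [← hc]
    exact (Quotient.out_eq C).symm
  · intro h'
    exact absurd (Finset.mem_univ _) h'

/-- a defect group exists -/
theorem exists_defectGroup [hp : Fact p.Prime] (hM : IsPModular p M) {B : Set (IrrCharacter G)} (hB : IsPBlock M B) :
    ∃ D : Subgroup G, IsDefectGroup p M B D := by
  obtain ⟨g, hg⟩ := Cfsg.Agent.S0906.result p M hM B hB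
  exact ⟨_, g, hg, default, rfl⟩

/-- **The local step.** -/
theorem block_step (hM : IsPModular p M) {P : Subgroup G} (hP : IsPGroup p P)
    (hPC : P ≤ Subgroup.centralizer (P : Set G)) {F : G → ℂ}
    (hF : ∀ g x : G, F (g * x * g⁻¹) = F x) (hFR : ∀ g, MemLocalRing M (F g)) {k : ℕ}
    (hk : k + 2 ≤ (Nat.card (Subgroup.centralizer (P : Set G))).factorization p)
    (h : NNd p k M (fun h : Subgroup.centralizer (P : Set G) => F (h : G))) :
    ∃ B : Set (IrrCharacter G), 3 ≤ Nat.card B ∧ (∀ χ ∈ B, ¬ MemLocalIdeal M (om F (χ : G → ℂ))) ∧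
      ∃ χ ∈ B, (charDegree (χ : G → ℂ)).factorization p + 2 ≤ (Nat.card G).factorization p := by
  classical
  have hp : Fact p.Prime := ⟨prime hM⟩
  have hMp : M.IsPrime := isPrime hM
  have := Fintype.ofFinite (ConjClasses G)
  obtain ⟨ξ, hξ, hd⟩ := h
  obtain ⟨B, hB, hχ⟩ := companion_block hM hP hPC le_rfl (Subgroup.centralizer_le_normalizer _) ξ
  have hb : IsPBlock M (blockOf M (ξ : Subgroup.centralizer (P : Set G) → ℂ)) := Basic.isPBlock_blockOf ξ
  obtain ⟨D, hD⟩ := exists_defectGroup hM hb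
  obtain ⟨E, hE, hDE⟩ := Cfsg.Agent.S0917.result p M hM _ _ hb B hB.2.1 hB D hD
  have h1 := Cfsg.Agent.S0908.result p M hM _ hb D hD
  have h2 : 2 ≤ blockDefect p (blockOf M (ξ : Subgroup.centralizer (P : Set G) → ℂ)) := by
    have h3 : sInf ((fun χ : IrrCharacter (Subgroup.centralizer (P : Set G)) =>
        (charDegree (χ : Subgroup.centralizer (P : Set G) → ℂ)).factorization p) ''
          (blockOf M (ξ : Subgroup.centralizer (P : Set G) → ℂ))) ≤
        (charDegree (ξ : Subgroup.centralizer (P : Set G) → ℂ)).factorization p :=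
      Nat.sInf_le ⟨ξ, Basic.mem_blockOf_self ξ, rfl⟩
    unfold blockDefect
    omega
  have h4 : p ^ 2 ≤ Nat.card E := by
    calc p ^ 2 ≤ p ^ blockDefect p (blockOf M (ξ : Subgroup.centralizer (P : Set G) → ℂ)) :=
          Nat.pow_le_pow_right hp.out.pos h2
      _ = Nat.card D := h1.symm
      _ = Nat.card (D.map (Subgroup.centralizer (P : Set G)).subtype) :=
          (Subgroup.card_map_of_injective (Subgroup.subtype_injective _)).symm
      _ ≤ Nat.card E := Subgroup.card_le_of_le hDE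
  have h5 : 3 ≤ Nat.card E := by
    have h6 : 2 ^ 2 ≤ p ^ 2 := Nat.pow_le_pow_left hp.out.two_le 2
    omega
  refine ⟨B, H651.Two.three_le_card_block hM hB.2.1 hE h5, fun χ hχB h' => hξ ?_, ?_⟩
  · rw [om_brauer hF ξ]
    rw [om_eq_sum_classes χ.2 hF] at h'
    have h2 : MemLocalIdeal M (∑ C : ConjClasses G, F (Quotient.out C) *
        (brauerCentralChar P (Subgroup.centralizer (P : Set G)) (ξ : Subgroup.centralizer (P : Set G) → ℂ) (Quotient.out C) -
          centralChar (χ : G → ℂ) (Quotient.out C))) :=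
      memLocalIdeal_sum hM _ _ fun C _ => memLocalIdeal_mul_left hM (hFR _) (hχ χ hχB _)
    have h3 := memLocalIdeal_add hM h2 h'
    rw [← Finset.sum_add_distrib] at h3
    refine (congrArg _ (Finset.sum_congr rfl fun C _ => ?_)).mp h3
    ring
  · have h6 := Cfsg.Agent.S0908.result p M hM B hB.2.1 E hE
    have h7 : 2 ≤ blockDefect p B := by
      rw [h6] at h4
      exact (Nat.pow_le_pow_iff_right hp.out.one_lt).1 h4
    have hne : ((fun χ : IrrCharacter G => (charDegree (χ : G → ℂ)).factorization p) '' B).Nonempty :=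
      (Basic.isPBlock_nonempty hB.2.1).image _
    obtain ⟨χ, hχB, hχ1⟩ := Nat.sInf_mem hne
    refine ⟨χ, hχB, ?_⟩
    unfold blockDefect at h7
    have h8 : (charDegree (χ : G → ℂ)).factorization p =
        sInf ((fun χ : IrrCharacter G => (charDegree (χ : G → ℂ)).factorization p) '' B) := hχ1
    omega

/-- The local step for the class of `x`, where all elements of order `r` of `C(P)` are conjugate to `x`. -/
theorem block_cl (hM : IsPModular p M) {P : Subgroup G} (hP : IsPGroup p P)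
    (hPC : P ≤ Subgroup.centralizer (P : Set G)) {x : G} {r : ℕ} (hx : orderOf x = r)
    (hc : ∀ y : G, y ∈ Subgroup.centralizer (P : Set G) → orderOf y = r → IsConj x y) {k : ℕ}
    (hk : k + 2 ≤ (Nat.card (Subgroup.centralizer (P : Set G))).factorization p)
    (h : NNd p k M (ind (Subgroup.centralizer (P : Set G)) r)) :
    ∃ B : Set (IrrCharacter G), 3 ≤ Nat.card B ∧ (∀ χ ∈ B, ¬ MemLocalIdeal M (centralChar (χ : G → ℂ) x)) ∧
      ∃ χ ∈ B, (charDegree (χ : G → ℂ)).factorization p + 2 ≤ (Nat.card G).factorization p := by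
  have e : (fun n : Subgroup.centralizer (P : Set G) => cl x (n : G)) =
      ind (Subgroup.centralizer (P : Set G)) r := by
    funext n
    by_cases hn : orderOf n = r
    · rw [ind_pos hn, cl_pos (hc n n.2 (by rw [Subgroup.orderOf_coe]; exact hn))]
    · rw [ind_neg hn, cl_neg]
      intro hcc
      apply hn
      obtain ⟨c, hcc⟩ := isConj_iff.1 hcc
      rw [← Subgroup.orderOf_coe, ← hcc, ← hx]
      exact MulEquiv.orderOf_eq (MulAut.conj c) x
  rw [← e] at h
  obtain ⟨B, h1, h2, h3⟩ := block_step hM hP hPC (F := cl x) (fun g y => cl_conj x y g) (fun g => by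
    by_cases hg : IsConj x g
    · rw [cl_pos hg]
      exact_mod_cast memLocalRing_natCast hM 1
    · rw [cl_neg hg]
      exact_mod_cast memLocalRing_natCast hM 0) hk h
  refine ⟨B, h1, fun χ hχ => ?_, h3⟩
  have h4 := h2 χ hχ
  rwa [om_cl χ.2] at h4

end

/-! ### quotients and extensions -/

section

variable {G : Type u} [Group G] [Finite G] {p : ℕ} {M : Ideal AlgInt}

theorem charDegree_comp {Q : Type v} [Group Q] (φ : G →* Q) (χ : Q → ℂ) :
    charDegree (fun g => χ (φ g)) = charDegree χ := by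
  unfold charDegree
  beta_reduce
  rw [map_one]

/-- the indicator function of the elements of order `r`, from a central quotient -/
theorem om_ind_quot {p r : ℕ} {Q : Type v} [Group Q] {φ : G →* Q}
    (hφ : Function.Surjective φ) (hker : φ.ker ≤ Subgroup.center G) (hp : IsPGroup p φ.ker)
    (hr : r.Prime) (hpr : r.Coprime p) (χ : Q → ℂ) : om (ind G r) (fun g => χ (φ g)) = om (ind Q r) χ := by
  classical
  have := Fintype.ofFinite G
  have := Fintype.ofSurjective φ hφ
  rw [om_eq, om_eq]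
  congr 1
  · rw [← Finset.sum_fiberwise (s := Finset.univ) (g := fun g : G => φ g)]
    refine Finset.sum_congr rfl fun q _ => ?_
    have hs : ∑ g ∈ Finset.univ.filter (fun g => φ g = q), ind G r g = ind Q r q := by
      by_cases hq : orderOf q = r
      · rw [ind_pos hq]
        obtain ⟨g, hg, hgr⟩ := exists_lift hφ hp hr hpr hq
        rw [Finset.sum_eq_single g]
        · exact ind_pos hgr
        · intro g' hg' hne
          rw [Finset.mem_filter] at hg'
          refine ind_neg fun h' => hne ?_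
          refine eq_of_map_eq hpr hker hp ?_ ?_ (hg'.2.trans hg.symm)
          · rw [← h']; exact pow_orderOf_eq_one _
          · rw [← hgr]; exact pow_orderOf_eq_one _
        · intro hn
          exact absurd ((Finset.mem_filter (p := fun g => φ g = q)).2 ⟨Finset.mem_univ _, hg⟩) hn
      · rw [ind_neg hq]
        refine Finset.sum_eq_zero fun g hg => ind_neg fun hg' => hq ?_
        rw [Finset.mem_filter] at hg
        rw [← hg.2]
        have h1 : orderOf (φ g) ∣ r := by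
          rw [← hg']
          exact orderOf_map_dvd φ g
        rcases (Nat.dvd_prime hr).1 h1 with h2 | h2
        · exfalso
          rw [orderOf_eq_one_iff] at h2
          have h3 : g ∈ φ.ker := h2
          obtain ⟨k, hk⟩ := hp ⟨g, h3⟩
          have hk' : g ^ p ^ k = 1 := by simpa using congrArg Subtype.val hk
          have h4 := orderOf_dvd_of_pow_eq_one hk'
          rw [hg'] at h4
          have h5 := Nat.eq_one_of_dvd_coprimes (hpr.pow_right k) dvd_rfl h4
          exact hr.one_lt.ne' h5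
        · exact h2
    rw [← hs, Finset.sum_mul]
    refine Finset.sum_congr rfl fun g hg => ?_
    rw [(Finset.mem_filter.1 hg).2]
  · rw [map_one]

/-- from a central quotient -/
theorem NNd_ind_quot {p q r k : ℕ} {Q : Type v} [Group Q] {φ : G →* Q}
    (hφ : Function.Surjective φ) (hker : φ.ker ≤ Subgroup.center G) (hp : IsPGroup p φ.ker)
    (hr : r.Prime) (hpr : r.Coprime p) (h : NNd q k M (ind Q r)) : NNd q k M (ind G r) := by
  obtain ⟨χ, h1, h2⟩ := h
  refine ⟨⟨fun g => (χ : Q → ℂ) (φ g), CliffordCentral.isIrrCharacter_comp χ.2 φ hφ⟩, ?_, ?_⟩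
  · show ¬ MemLocalIdeal M (om (ind G r) (fun g => (χ : Q → ℂ) (φ g)))
    rw [om_ind_quot hφ hker hp hr hpr]
    exact h1
  · show (charDegree (fun g => (χ : Q → ℂ) (φ g))).factorization q ≤ k
    rw [charDegree_comp]
    exact h2

/-- **Extension** of a character `χ₀ ∘ φ` of a normal subgroup `N` with cyclic factor group, where `χ₀` is the unique
irreducible character of `p`-defect zero of `Q`. -/
theorem exists_ext {H : Type u} [Group H] [Finite H] (N : Subgroup H) [hN : N.Normal] {Q : Type v} [Group Q]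
    [Finite Q] {p : ℕ} (φ : N →* Q) (hφ : Function.Surjective φ)
    (hker : ∀ (g : H) (n : N), φ n = 1 → φ ⟨g * n * g⁻¹, hN.conj_mem _ n.2 g⟩ = 1)
    (huniq : ∀ χ χ' : IrrCharacter Q, ¬ p ∣ Nat.card Q / charDegree (χ : Q → ℂ) →
      ¬ p ∣ Nat.card Q / charDegree (χ' : Q → ℂ) → χ = χ') (hcyc : IsCyclic (H ⧸ N)) (χ₀ : IrrCharacter Q)
    (h0 : ¬ p ∣ Nat.card Q / charDegree (χ₀ : Q → ℂ)) :
    ∃ ξ : IrrCharacter H, ∀ n : N, (ξ : H → ℂ) n = (χ₀ : Q → ℂ) (φ n) := by
  have hinv : ∀ (g : H) (n : N), (χ₀ : Q → ℂ) (φ ⟨g * n * g⁻¹, hN.conj_mem _ n.2 g⟩) = (χ₀ : Q → ℂ) (φ n) := by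
    intro g
    let c : N →* N := (MulAut.conjNormal g : MulAut N).toMonoidHom
    have hc : ∀ n : N, c n = ⟨g * n * g⁻¹, hN.conj_mem _ n.2 g⟩ := fun n => rfl
    have hcs : Function.Surjective c := (MulAut.conjNormal g : MulAut N).surjective
    let f : N →* Q := φ.comp c
    have hf : Function.Surjective f := hφ.comp hcs
    have hk : φ.ker ≤ f.ker := by
      intro n hn
      rw [MonoidHom.mem_ker] at hn ⊢
      exact hker g n hn
    let α : Q →* Q := φ.liftOfSurjective hφ ⟨f, hk⟩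
    have hα : ∀ n, α (φ n) = f n := fun n => φ.liftOfRightInverse_comp_apply _ _ ⟨f, hk⟩ n
    have hαs : Function.Surjective α := by
      intro q
      obtain ⟨n, hn⟩ := hf q
      exact ⟨φ n, by rw [hα, hn]⟩
    have h1 : (⟨fun q => (χ₀ : Q → ℂ) (α q), CliffordCentral.isIrrCharacter_comp χ₀.2 α hαs⟩ : IrrCharacter Q) = χ₀ := by
      refine huniq _ _ ?_ h0
      show ¬ p ∣ Nat.card Q / charDegree (fun q => (χ₀ : Q → ℂ) (α q))
      rw [charDegree_comp]
      exact h0
    intro n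
    have h2 := congrFun (congrArg (fun χ : IrrCharacter Q => (χ : Q → ℂ)) h1) (φ n)
    have h3 : (χ₀ : Q → ℂ) (α (φ n)) = (χ₀ : Q → ℂ) (φ n) := h2
    rw [hα] at h3
    exact h3
  obtain ⟨ξ, hξ, hres⟩ := Cfsg.Agent.S0886.result N hcyc (fun n => (χ₀ : Q → ℂ) (φ n))
    (CliffordCentral.isIrrCharacter_comp χ₀.2 φ hφ) hinv
  exact ⟨⟨ξ, hξ⟩, hres⟩

/-- `om` of a function supported in a subgroup to which the character restricts irreducibly -/
theorem om_ind_sub {H : Type u} [Group H] [Finite H] (N : Subgroup H) {r : ℕ} (hN : ∀ g : H, orderOf g = r → g ∈ N)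
    (ξ : H → ℂ) (θ : N → ℂ) (h : ∀ n : N, ξ n = θ n) : om (ind H r) ξ = om (ind N r) θ := by
  classical
  have := Fintype.ofFinite H
  have := Fintype.ofFinite N
  rw [om_eq, om_eq]
  have h1 : ξ 1 = θ 1 := h 1
  rw [h1]
  congr 1
  rw [← Finset.sum_filter_add_sum_filter_not Finset.univ (fun g => g ∈ N)]
  rw [Finset.sum_eq_zero (s := Finset.univ.filter (fun g => ¬ g ∈ N)), add_zero]
  · rw [Finset.sum_subtype (p := fun g => g ∈ N) _ (by simp)]
    refine Finset.sum_congr rfl fun n _ => ?_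
    rw [h n, ind_congr (g := (n : H)) (h := n) (Subgroup.orderOf_coe n)]
  · intro g hg
    rw [ind_neg (fun h' => (Finset.mem_filter.1 hg).2 (hN g h')), zero_mul]

end

end Cfsg.Agent.H810.Dl
end

-- part: H810/Dl/BabyBlock
section
/-!
# A 2-block of the Baby Monster with at least three characters (helper810, task 2520)

`b_block` : the block of the Baby Monster induced from the block of `C(t)`, `t` of class 2A, of the extension of the Steinberg
character of `²E₆(2)`. At the elements of order 13 all its central characters are not in the local ideal.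
-/

set_option autoImplicit false
set_option maxRecDepth 100000

open Subgroup Cfsg Cfsg.Lie

namespace Cfsg.Agent.H810.Dl

open Cfsg.Agent.Blocks.LocalRing
open Cfsg.Agent.Blocks
open Cfsg.Agent.H652.Four
open Cfsg.Agent.H648.Loc

universe u

/-- `²E₆(2)` -/
theorem nnd_e6 (K : Type) [Field K] [Fintype K] (hK : Fintype.card K = 4) {M : Ideal AlgInt} (hM : IsPModular 2 M) :
    (∀ χ χ' : IrrCharacter ↥(twistedE6 K 2), ¬ 2 ∣ Nat.card ↥(twistedE6 K 2) / charDegree (χ : ↥(twistedE6 K 2) → ℂ) →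
      ¬ 2 ∣ Nat.card ↥(twistedE6 K 2) / charDegree (χ' : ↥(twistedE6 K 2) → ℂ) → χ = χ') ∧
    ∃ χ : IrrCharacter ↥(twistedE6 K 2), ¬ MemLocalIdeal M (om (ind ↥(twistedE6 K 2) 13) (χ : ↥(twistedE6 K 2) → ℂ)) ∧
      (charDegree (χ : ↥(twistedE6 K 2) → ℂ)).factorization 2 ≤ 36 ∧
      ¬ 2 ∣ Nat.card ↥(twistedE6 K 2) / charDegree (χ : ↥(twistedE6 K 2) → ℂ) := by
  have hcard : Nat.card ↥(twistedE6 K 2) = 76532479683774853939200 := card_e6 K hK
  have hfin : Finite ↥(twistedE6 K 2) := Nat.finite_of_card_ne_zero (by rw [hcard]; norm_num)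
  have h13 : Fact (Nat.Prime 13) := ⟨by norm_num⟩
  have h2 : Fact (Nat.Prime 2) := ⟨Nat.prime_two⟩
  have hs : IsSimpleGroup ↥(twistedE6 K 2) := (H897.Cas.simple hK).1
  have hch : CharP K 2 := by
    have hF : Fintype.card K = 2 ^ 2 := by rw [hK]; norm_num
    exact charP_of_card_eq_prime_pow hF
  have hL : IsLieTypeChar 2 ↥(twistedE6 K 2) :=
    Or.inr (Or.inr (Or.inr (Or.inr (Or.inr (Or.inr (Or.inr (Or.inl
      ⟨K, inferInstance, inferInstance, hch, 2, Nat.prime_two.isPrimePow, Or.inl ⟨by rw [hK]; norm_num,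
        ⟨MulEquiv.refl _⟩⟩⟩)))))))
  have hS := H716.SplitAb.hasSplitAb_of_lie Nat.prime_two hL
  refine ⟨fun χ χ' => Cfsg.Agent.H330.GowOne.unique_of_hasSplitAb hS
    (Cfsg.Agent.H330.Gow.perfect_of_split (Cfsg.Agent.H330.Gow.hasSplit_of_ab hS)) χ χ', ?_⟩
  obtain ⟨χ, hχ⟩ := nn_e6 K hK hM
  obtain ⟨x, hx⟩ := exists_prime_orderOf_dvd_card' (G := ↥(twistedE6 K 2)) 13 (by rw [hcard]; norm_num)
  obtain ⟨hcl, -⟩ := e6_class K hK hx
  obtain ⟨-, hc2⟩ := e6_cent hK hx
  have hχ' := hχ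
  rw [← cl_eq_ind hx hcl, om_cl χ.2] at hχ'
  have hidx := (centralizer ({x} : Set ↥(twistedE6 K 2))).card_mul_index
  rw [hcard] at hidx
  have h36 : 2 ^ 36 ∣ (centralizer ({x} : Set ↥(twistedE6 K 2))).index := by
    have h3 : 2 ^ 36 ∣ Nat.card (centralizer ({x} : Set ↥(twistedE6 K 2))) *
        (centralizer ({x} : Set ↥(twistedE6 K 2))).index := by
      rw [hidx]
      norm_num
    exact (Nat.Coprime.pow_left 36 ((Nat.Prime.coprime_iff_not_dvd Nat.prime_two).2 hc2)).dvd_of_dvd_mul_left h3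
  have hd := dvd_charDegree hM hχ' h36
  have hpos := Cfsg.Agent.Blocks.Basic.charDegree_pos χ.2
  have hdv := Cfsg.Agent.Blocks.Knorr.charDegree_dvd χ.2
  rw [hcard] at hdv
  refine ⟨χ, hχ, ?_, ?_⟩
  · by_contra hcon
    push Not at hcon
    have h4 : 2 ^ 37 ∣ charDegree (χ : ↥(twistedE6 K 2) → ℂ) :=
      (Nat.prime_two.pow_dvd_iff_le_factorization hpos.ne').2 hcon
    have h5 := h4.trans hdv
    norm_num at h5
  · rw [hcard]
    rintro ⟨j, hj⟩
    have h4 : 76532479683774853939200 = charDegree (χ : ↥(twistedE6 K 2) → ℂ) * (2 * j) := by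
      rw [← hj]
      exact (Nat.mul_div_cancel' hdv).symm
    obtain ⟨i, hi⟩ := hd
    rw [hi] at h4
    have h5 : 2 ^ 37 ∣ 76532479683774853939200 := ⟨i * j, by rw [h4]; ring⟩
    norm_num at h5

set_option maxHeartbeats 1000000 in
/-- **The block of the Baby Monster.** -/
theorem b_block {M : Ideal AlgInt} (hM : IsPModular 2 M) {x : Spor.BabyMonster} (hx : orderOf x = 13) :
    ∃ B : Set (IrrCharacter Spor.BabyMonster), 3 ≤ Nat.card B ∧
      (∀ χ ∈ B, ¬ MemLocalIdeal M (centralChar (χ : Spor.BabyMonster → ℂ) x)) ∧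
      ∃ χ ∈ B, (charDegree (χ : Spor.BabyMonster → ℂ)).factorization 2 ≤ 39 := by
  have hfin : Finite Spor.BabyMonster := CTwoTab.BInst.finite_B
  have h13 : Nat.Prime 13 := by norm_num
  obtain ⟨-, hone, -⟩ := b_main
  obtain ⟨K, iF, iT, hK, t, X₀, σ, D, -, hcard⟩ := CTwoTab.BInst.exists_sec
  have hcardE : Nat.card ↥(twistedE6 K 2) = 76532479683774853939200 := card_e6 K hK
  have hfinE : Finite ↥(twistedE6 K 2) := Nat.finite_of_card_ne_zero (by rw [hcardE]; norm_num)
  -- the centralizer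
  have hcc : centralizer ((zpowers t : Subgroup Spor.BabyMonster) : Set Spor.BabyMonster) =
      centralizer ({t} : Set Spor.BabyMonster) := by
    ext g
    rw [mem_centralizer_singleton_iff, mem_centralizer_iff]
    constructor
    · intro h
      exact (h t (mem_zpowers t)).symm
    · rintro h _ ⟨m, rfl⟩
      exact ((show Commute g t from h).zpow_right m).eq.symm
  have ht2 : orderOf t = 2 := orderOf_eq_prime (by rw [pow_two, D.t_sq]) D.t_ne
  have hP : IsPGroup 2 (zpowers t) := by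
    refine IsPGroup.of_card (n := 1) ?_
    rw [Nat.card_zpowers, pow_one]
    exact ht2
  obtain ⟨C, hC⟩ : ∃ C, C = centralizer ((zpowers t : Subgroup Spor.BabyMonster) : Set Spor.BabyMonster) := ⟨_, rfl⟩
  have hmem : ∀ g, g ∈ C ↔ g * t = t * g := fun g => by rw [hC, hcc, mem_centralizer_singleton_iff]
  have hPC : zpowers t ≤ C := by
    rw [zpowers_le, hmem]
  have hcardC : Nat.card C = 306129918735099415756800 := by rw [hC, hcc, hcard]
  have hle : X₀ ≤ C := fun m hm => (hmem m).2 (D.comm m hm)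
  -- the normal subgroup
  let N : Subgroup C := X₀.subgroupOf C
  have hN : N.Normal := by
    constructor
    intro n hn g
    exact D.nrm g ((hmem g).1 g.2) _ hn
  let e : N ≃* X₀ := subgroupOfEquivOfLe hle
  have he : ∀ n : N, ((e n : X₀) : Spor.BabyMonster) = ((n : C) : Spor.BabyMonster) := fun n => rfl
  let φ : N →* ↥(twistedE6 K 2) := σ.comp e.toMonoidHom
  have hφ : Function.Surjective φ := D.surj.comp e.surjective
  have hφ1 : ∀ n : N, φ n = 1 ↔ ((n : C) : Spor.BabyMonster) = 1 ∨ ((n : C) : Spor.BabyMonster) = t := fun n =>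
    D.ker (e n)
  have hker : ∀ (g : C) (n : N), φ n = 1 → φ ⟨g * n * g⁻¹, hN.conj_mem _ n.2 g⟩ = 1 := by
    intro g n hn
    rw [hφ1] at hn ⊢
    rcases hn with h | h
    · left
      show (g : Spor.BabyMonster) * ((n : C) : Spor.BabyMonster) * (g : Spor.BabyMonster)⁻¹ = 1
      rw [h]; group
    · right
      show (g : Spor.BabyMonster) * ((n : C) : Spor.BabyMonster) * (g : Spor.BabyMonster)⁻¹ = t
      rw [h, (hmem g).1 g.2]; group
  have hkc : φ.ker ≤ center N := by
    intro m hm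
    rw [MonoidHom.mem_ker, hφ1] at hm
    rw [mem_center_iff]
    intro g
    apply Subtype.ext
    apply Subtype.ext
    show ((g : C) : Spor.BabyMonster) * ((m : C) : Spor.BabyMonster) =
      ((m : C) : Spor.BabyMonster) * ((g : C) : Spor.BabyMonster)
    rcases hm with h | h
    · rw [h, mul_one, one_mul]
    · rw [h]
      exact (hmem _).1 (g : C).2
  have hk2 : IsPGroup 2 φ.ker := by
    intro m
    have hm := m.2
    rw [MonoidHom.mem_ker, hφ1] at hm
    refine ⟨1, Subtype.ext (Subtype.ext (Subtype.ext ?_))⟩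
    show (((m : N) : C) : Spor.BabyMonster) ^ 2 ^ 1 = 1
    rw [pow_one, pow_two]
    rcases hm with h | h
    · rw [h, mul_one]
    · rw [h, D.t_sq]
  -- orders and index
  have hkcard : Nat.card φ.ker = 2 := by
    have ht : t ∈ C := hle D.mem
    have htN : (⟨t, ht⟩ : C) ∈ N := D.mem
    have h1 : ∀ m : φ.ker, m = 1 ∨ m = ⟨⟨⟨t, ht⟩, htN⟩, (hφ1 _).2 (Or.inr rfl)⟩ := by
      intro m
      have hm := m.2
      rw [MonoidHom.mem_ker, hφ1] at hm
      rcases hm with h | h
      · exact Or.inl (Subtype.ext (Subtype.ext (Subtype.ext h)))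
      · exact Or.inr (Subtype.ext (Subtype.ext (Subtype.ext h)))
    rw [Nat.card_eq_two_iff]
    refine ⟨1, ⟨⟨⟨t, ht⟩, htN⟩, (hφ1 _).2 (Or.inr rfl)⟩, ?_, ?_⟩
    · intro h
      apply D.t_ne
      exact (congrArg (fun z : φ.ker => (((z : N) : C) : Spor.BabyMonster)) h).symm
    · ext m
      simp only [Set.mem_insert_iff, Set.mem_singleton_iff, Set.mem_univ, iff_true]
      exact h1 m
  have hNcard : Nat.card N = 153064959367549707878400 := by
    rw [← φ.ker.card_mul_index, index_ker, MonoidHom.range_eq_top.2 hφ, card_top, hkcard, hcardE]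
  have hNidx : N.index = 2 := by
    have h1 := N.card_mul_index
    rw [hNcard, hcardC] at h1
    omega
  have h13N : ∀ g : C, orderOf g = 13 → g ∈ N := by
    intro g hg
    have h4 : orderOf (QuotientGroup.mk g : C ⧸ N) ∣ 13 := by
      rw [← hg]
      exact orderOf_map_dvd (QuotientGroup.mk' _) g
    rcases (Nat.dvd_prime h13).1 h4 with h5 | h5
    · rw [orderOf_eq_one_iff, QuotientGroup.eq_one_iff] at h5
      exact h5
    · exfalso
      have h6 : orderOf (QuotientGroup.mk g : C ⧸ N) ∣ Nat.card (C ⧸ N) := orderOf_dvd_natCard _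
      rw [h5] at h6
      change 13 ∣ N.index at h6
      rw [hNidx] at h6
      norm_num at h6
  have hcyc : IsCyclic (C ⧸ N) := by
    have hf2 : Fact (Nat.Prime 2) := ⟨Nat.prime_two⟩
    exact isCyclic_of_prime_card (p := 2) hNidx
  -- the character
  obtain ⟨huniq, χ₀, h0, h36, hz⟩ := nnd_e6 K hK hM
  obtain ⟨ξ, hξ⟩ := exists_ext N φ hφ hker huniq hcyc χ₀ hz
  have hξd : charDegree (ξ : C → ℂ) = charDegree (χ₀ : ↥(twistedE6 K 2) → ℂ) := by
    have h1 := hξ 1
    rw [map_one] at h1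
    unfold charDegree
    rw [← h1]
    rfl
  have hnnd : NNd 2 36 M (ind C 13) := by
    refine ⟨ξ, ?_, by rw [hξd]; exact h36⟩
    rw [om_ind_sub N h13N (ξ : C → ℂ) (fun n => (χ₀ : ↥(twistedE6 K 2) → ℂ) (φ n)) hξ,
      om_ind_quot hφ hkc hk2 h13 (by norm_num)]
    exact h0
  have hk : 36 + 2 ≤ (Nat.card C).factorization 2 := by
    rw [hcardC]
    exact (Nat.prime_two.pow_dvd_iff_le_factorization (by norm_num)).1 (by norm_num)
  subst hC
  obtain ⟨B, hB3, hB, χ, hχ, hχd⟩ := block_cl hM hP hPC hx (fun y _ hy => hone x y hx hy) hk hnnd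
  refine ⟨B, hB3, hB, χ, hχ, ?_⟩
  have h1 : (Nat.card Spor.BabyMonster).factorization 2 < 42 := by
    by_contra hcon
    push Not at hcon
    have h2 := (Nat.prime_two.pow_dvd_iff_le_factorization (Nat.card_pos (α := Spor.BabyMonster)).ne').2 hcon
    rw [card_b] at h2
    norm_num at h2
  omega

end Cfsg.Agent.H810.Dl
end

-- part: H810/Dl/Tool
section
/-!
# Small tools (helper810, task 2520)
-/

set_option autoImplicit false

open Cfsg

namespace Cfsg.Agent.H810.Dl

open Cfsg.Agent.Blocks.LocalRing Cfsg.Agent.Blocks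
open Cfsg.Agent.H454.DlCrit Cfsg.Agent.H246.Dl

universe u

/-- A character whose degree is divisible by the full power of `p` vanishes at the elements of order divisible by `p`. -/
theorem van {G : Type u} [Group G] [Finite G] {p : ℕ} (hp : p.Prime) (χ : IrrCharacter G) {a : ℕ}
    (h1 : ¬ p ^ (a + 1) ∣ Nat.card G) (h2 : p ^ a ∣ charDegree (χ : G → ℂ)) {y : G} (hy : p ∣ orderOf y) :
    (χ : G → ℂ) y = 0 := by
  have := Fintype.ofFinite G
  have h3 : (Nat.card G).factorization p ≤ a := by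
    by_contra hcon
    push Not at hcon
    exact h1 ((hp.pow_dvd_iff_le_factorization Nat.card_pos.ne').2 hcon)
  have h4 : p ^ (Nat.card G).factorization p ∣ charDegree (χ : G → ℂ) := (pow_dvd_pow p h3).trans h2
  obtain ⟨n, ρ, hρ, hχ⟩ := χ.2
  have h5 : charDegree (χ : G → ℂ) = n := by
    apply H670.PSing.charDegree_eq_of
    rw [← hχ, Representation.char_one]
    simp
  rw [h5] at h4
  rw [← hχ]
  refine Cfsg.Agent.S0165.result ρ p ((Nat.card G).factorization p) hp (Nat.ordProj_dvd _ _)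
    (Nat.pow_succ_factorization_not_dvd Nat.card_pos.ne' hp) ?_ y hy
  rw [Module.finrank_fin_fun]
  exact h4

/-- the central character at an element where the character vanishes -/
theorem memLocalIdeal_of_zero {G : Type u} [Group G] {p : ℕ} {M : Ideal AlgInt} (hM : IsPModular p M) {χ : G → ℂ}
    {x : G} (h : χ x = 0) : MemLocalIdeal M (centralChar χ x) := by
  have : M.IsPrime := isPrime hM
  rw [Basic.centralChar_def, h, mul_zero, zero_div]
  exact Blocks.Local.memLocalIdeal_zero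

/-- `Many` for a group with no outer automorphisms, from a set of characters. -/
theorem many_of_set {S : Type u} [Group S] [Finite S] {p m : ℕ} (ho : Nat.card (OutQ S) ≤ 1)
    (T : Set (IrrCharacter S)) (hT : ∀ χ ∈ T, p ∣ charDegree (χ : S → ℂ)) (hm : m ≤ T.ncard) : Many p S m := by
  classical
  have : Finite (IrrCharacter S) := Cfsg.Agent.Characters.Core.finite_irr
  rcases Nat.eq_zero_or_pos m with rfl | h0
  · exact ⟨fun i => i.elim0, fun i => i.elim0, fun i => i.elim0⟩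
  refine Many.of_card_irr (T.toFinite.toFinset) (fun χ hχ => hT χ ((Set.Finite.mem_toFinset _).1 hχ)) ?_
  rw [← Set.ncard_eq_toFinset_card]
  calc (m - 1) * Nat.card (OutQ S) ≤ (m - 1) * 1 := Nat.mul_le_mul_left _ ho
    _ = m - 1 := Nat.mul_one _
    _ < T.ncard := by omega

end Cfsg.Agent.H810.Dl
end
end

-- part: H152/Dl/Fields_mg
section
prune_inst 0x464101a3001a2020000000004800042241800009010008000c822004400006022090200000400100402200000000500000200002000000000040404000025052190c0540060814019860019000088610000008000000000000000000000000000014410000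
set_option linter.all false
open scoped Cfsg.Agent.FastGrp

-- part: H321/Dl/PslRow
section
/-!
# The row of S4769 for `PSL_n(q)`, `n ≥ 3`, `p ∤ q` (helper321)

`row_of_dl` : from the bound `log_p (n / e) + 1` for the derived length.
`row_psl_ne` : the row.
-/

set_option autoImplicit false

open Cfsg Matrix

namespace Cfsg.Agent.H321.Dl.PslRow

open Cfsg.Agent.H113.PSL Facts Main
open Cfsg.Agent.H246.Dl Cfsg.Agent.H321.Dl.PslMany

universe u

/-- `log_p N < (N + 1) / 2` for `N ≥ 5` -/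
theorem log_le {p N : ℕ} (hp : 2 ≤ p) (hN : 5 ≤ N) : Nat.log p N + 1 ≤ (N + 1) / 2 := by
  have h1 : Nat.log p N ≤ Nat.log 2 N := Nat.log_anti_left (by norm_num) hp
  have h2 : Nat.log 2 N < (N + 1) / 2 := by
    apply Nat.log_lt_of_lt_pow (by omega)
    obtain ⟨k, hk⟩ : ∃ k, (N + 1) / 2 = k + 3 := ⟨(N + 1) / 2 - 3, by omega⟩
    have h3 : N ≤ 2 * (k + 3) := by omega
    rw [hk]
    refine lt_of_le_of_lt h3 ?_
    clear * -
    induction k with
    | zero => norm_num
    | succ k ih =>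
      have h4 : 2 ^ (k + 1 + 3) = 2 * 2 ^ (k + 3) := by ring
      rw [h4]
      have h5 : 2 ≤ 2 ^ (k + 3) := by
        calc 2 ≤ 2 ^ 3 := by norm_num
          _ ≤ _ := Nat.pow_le_pow_right (by norm_num) (by omega)
      omega
  omega

variable {F : Type u} [Field F] [Fintype F]

local notation "𝔮" => Fintype.card F

/-- **The row `PSL_n(q)`, `n ≥ 3`, `p ∤ q`.** -/
theorem row_of_dl {n p : ℕ} (hn : 3 ≤ n) (hp : p.Prime) (hd : p ∣ Nat.card (ProjectiveSpecialLinearGroup (Fin n) F))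
    (hq : ¬ p ∣ 𝔮) (hlin : ∀ e : ℕ, 0 < e → (∀ k, 0 < k → p ∣ 𝔮 ^ k - 1 → e ≤ k) →
      DlLe p (Nat.log p (n / e) + 1) (ProjectiveSpecialLinearGroup (Fin n) F)) :
    Row p (ProjectiveSpecialLinearGroup (Fin n) F) := by
  classical
  have hq1 := one_lt_q (F := F)
  have hp2 := hp.two_le
  -- some `k ≤ n` with `p ∣ q^k - 1`
  have hex : ∃ k, 0 < k ∧ p ∣ 𝔮 ^ k - 1 ∧ k ≤ n := by
    rcases cover hp hd with h | ⟨i, h1, h2, h3⟩ | h | ⟨i, h1, h2, h3⟩
    · exact absurd h hq
    · exact ⟨i, h1, h3, by omega⟩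
    · exact ⟨n, by omega, h, le_rfl⟩
    · exact ⟨i, h1, h3, by omega⟩
  obtain ⟨k0, hk0, hk0p, hk0n⟩ := hex
  have hex' : ∃ k, 0 < k ∧ p ∣ 𝔮 ^ k - 1 := ⟨k0, hk0, hk0p⟩
  set! e := Nat.find hex' with he
  obtain ⟨he0, hep⟩ := Nat.find_spec hex'
  rw [← he] at he0 hep
  have hmin : ∀ k, 0 < k → p ∣ 𝔮 ^ k - 1 → e ≤ k := fun k h1 h2 => Nat.find_min' hex' ⟨h1, h2⟩
  have hen : e ≤ n := (hmin k0 hk0 hk0p).trans hk0n
  have hdl := hlin e he0 hmin
  by_cases h3A : n = 3 ∧ ¬ IsA F n p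
  · -- here the Sylow subgroups are abelian
    obtain ⟨rfl, hA⟩ := h3A
    have he3 : e = 3 := by
      by_contra hne
      exact hA ⟨e, he0, by omega, hep⟩
    have h1 : Nat.log p (3 / e) = 0 := by
      rw [he3]
      simp
    rw [h1, zero_add] at hdl
    exact Row.of_im hdl (im (F := F) le_rfl (fun m hm => hasCusp F m hm) hp hd)
  by_cases hlt : n / e < p ^ 2
  · -- derived length two
    have h1 : Nat.log p (n / e) < 2 := Nat.log_lt_of_lt_pow' (by norm_num) hlt
    refine Row.of_twoStrict (hdl.mono (by omega)) ?_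
    exact H113.Two.PslGen.two_psl_gen hn hp hd hq fun hA h3 => absurd ⟨h3, hA⟩ h3A
  · push Not at hlt
    have h4 : 4 ≤ p ^ 2 := by
      calc 4 = 2 ^ 2 := by norm_num
        _ ≤ _ := Nat.pow_le_pow_left hp2 2
    have h5 : 4 * e ≤ n := by
      have := (Nat.le_div_iff_mul_le he0).1 (h4.trans hlt)
      omega
    rcases Nat.lt_or_ge n 5 with hn5 | hn5
    · -- `n = 4`, `p = 2`
      have hn4 : n = 4 := by omega
      subst hn4
      have he1 : e = 1 := by omega
      rw [he1] at hlt hdl hep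
      have hp2' : p = 2 := by
        by_contra hne
        have h6 : 3 ≤ p := by omega
        have h7 : 3 ^ 2 ≤ p ^ 2 := Nat.pow_le_pow_left h6 2
        omega
      subst hp2'
      rw [pow_one] at hep
      refine Row.of_le hdl (many_psl_four hep) ?_
      have : Nat.log 2 (4 / 1) = 2 := by
        rw [Nat.div_one]
        exact Nat.log_pow (by norm_num) 2
      omega
    · refine Row.of_le hdl (many_psl hn5 he0 (by omega) (by omega) hep) ?_
      have h6 : Nat.log p (n / e) ≤ Nat.log p n := Nat.log_mono_right (Nat.div_le_self n e)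
      have h7 := log_le hp2 hn5
      omega

omit [Fintype F] in
theorem toGL_injective {n : ℕ} : Function.Injective (SpecialLinearGroup.toGL (n := Fin n) (R := F)) := by
  intro a b h
  have h1 := congrArg (fun x : GL (Fin n) F => (x : Matrix (Fin n) (Fin n) F)) h
  exact Subtype.ext h1

/-- **The row `PSL_n(q)`, `n ≥ 3`, `p ∤ q`.** -/
theorem row_psl {n p : ℕ} (hn : 3 ≤ n) (hp : p.Prime) (hd : p ∣ Nat.card (ProjectiveSpecialLinearGroup (Fin n) F))
    (hq : ¬ p ∣ 𝔮) : Row p (ProjectiveSpecialLinearGroup (Fin n) F) := by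
  classical
  have hfact : Fact p.Prime := ⟨hp⟩
  have hpF : (p : F) ≠ 0 := by
    intro h
    obtain ⟨r, hr⟩ := CharP.exists F
    have hpr : r.Prime := (CharP.char_is_prime_or_zero F r).resolve_right (CharP.char_ne_zero_of_finite F r)
    have : Fact r.Prime := ⟨hpr⟩
    have h1 : r ∣ p := (CharP.cast_eq_zero_iff F r p).1 h
    have h2 : r = p := (Nat.prime_dvd_prime_iff_eq hpr hp).1 h1
    subst h2
    obtain ⟨s, hs0, hs⟩ := FiniteField.card F r
    apply hq
    rw [hs]
    exact dvd_pow_self _ s.ne_zero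
  refine row_of_dl hn hp hd hq fun e he0 he => ?_
  exact H755.Dl.DlLe_ne_ord (G := _root_.Matrix.SpecialLinearGroup (Fin n) F)
    (f := QuotientGroup.mk' (Subgroup.center (_root_.Matrix.SpecialLinearGroup (Fin n) F))) (ρ := SpecialLinearGroup.toGL)
    hpF he0 (by rw [Nat.card_eq_fintype_card]; exact he) (QuotientGroup.mk'_surjective _) toGL_injective

/-- **The row `PSL_n(q)`, `n ≥ 3`, `p` not the characteristic**, up to isomorphism. -/
theorem row_psl_ne {S : Type*} [Group S] [Finite S] {n p : ℕ} (hn : 3 ≤ n)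
    (e : S ≃* ProjectiveSpecialLinearGroup (Fin n) F) (hp : p.Prime) (hd : p ∣ Nat.card S) (hq : ¬ p ∣ 𝔮) :
    Row p S := by
  have hfact : Fact p.Prime := ⟨hp⟩
  exact Row.of_equiv e (row_psl hn hp (by rwa [← Nat.card_congr e.toEquiv]) hq)

end Cfsg.Agent.H321.Dl.PslRow
end

-- part: H519/Dl/PermEven
section
/-!
# Constituents of even degree of the rank 3 permutation characters of the unitary groups (helper519, for S4769)

* `hasFix_of_perm` : a constituent of a transitive permutation character of degree prime to `r` has fixed vectors under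
  all `r`-subgroups;
* `HasFix.of_comp` : quotients;
* `exists_rank3` : the two constituents as characters of the quotient by a normal subgroup acting trivially;
* `exists_even_fix` : `PSU_4(q)`, `PSU_5(q)`, `q` odd: a character of even degree with fixed vectors under a Sylow
  `r`-subgroup, `r ∣ q`.
-/

set_option autoImplicit false
set_option linter.unusedSectionVars false

open scoped ComplexConjugate
open Cfsg

namespace Cfsg.Agent.H519.Dl

open Cfsg.Agent.Characters Cfsg.Agent.Characters.Core Cfsg.Agent.H246.Dl Cfsg.Agent.H211.Dl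
open Cfsg.Agent.H690.Spor.RankThree Cfsg.Agent.H690.Spor.RankThree.R3

section perm

variable {G X : Type*} [Group G] [MulAction G X]

theorem fixN_stabilizer [Finite X] [MulAction.IsPretransitive G X] (x : X) (g : G) :
    fixN (MulAction.stabilizer G x) g = Nat.card (MulAction.fixedBy X g) := by
  unfold fixN
  let f : G ⧸ MulAction.stabilizer G x → X := MulAction.ofQuotientStabilizer G x
  have hf : Function.Bijective f := by
    refine ⟨MulAction.injective_ofQuotientStabilizer G x, fun y => ?_⟩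
    obtain ⟨g, hg⟩ := MulAction.exists_smul_eq G x y
    exact ⟨(g : G ⧸ MulAction.stabilizer G x), hg⟩
  refine Nat.card_congr (Equiv.subtypeEquiv (Equiv.ofBijective f hf) fun a => ?_)
  rw [MulAction.mem_fixedBy, MulAction.mem_fixedBy, Equiv.ofBijective_apply]
  constructor
  · intro h
    rw [← MulAction.ofQuotientStabilizer_smul, h]
  · intro h
    apply hf.1
    exact (MulAction.ofQuotientStabilizer_smul G x g a).trans h

theorem hasFix_of_perm [Finite G] [Finite X] [MulAction.IsPretransitive G X] [Fintype G] {χ : G → ℂ}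
    (hχ : IsIrrCharacter G χ) (hne : classInner (fun x : G => (Nat.card (MulAction.fixedBy X x) : ℂ)) χ ≠ 0) {r : ℕ}
    [Fact r.Prime] (hr : ¬ r ∣ Nat.card X) (S : Subgroup G) (hS : IsPGroup r S) : HasFix χ S := by
  classical
  have := Fintype.ofFinite X
  obtain ⟨x, hx⟩ := hS.nonempty_fixed_point_of_prime_not_dvd_card X hr
  have hle : S ≤ MulAction.stabilizer G x := fun s hs => hx ⟨s, hs⟩
  have h1 : classInner (fun g : G => (fixN (MulAction.stabilizer G x) g : ℂ)) χ ≠ 0 := by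
    simp only [fixN_stabilizer]
    exact hne
  have h2 := sum_ne_zero_of_le (isIrr_isCharacter hχ) hle
    (sum_ne_zero_of_classInner (isIrr_isClassFunction hχ) h1)
  have := Fintype.ofFinite S
  rw [finsum_eq_sum_of_fintype] at h2
  exact ⟨_, h2⟩

/-- quotients -/
theorem HasFix.of_comp {G' : Type*} [Group G'] [Finite G] {χ : G' → ℂ} (f : G →* G') {S : Subgroup G}
    (h : HasFix (χ ∘ f) S) : HasFix χ (S.map f) := by
  classical
  have : Finite (S.map f) := Finite.of_surjective (f.subgroupMap S) (f.subgroupMap_surjective S)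
  have := Fintype.ofFinite (S.map f)
  have := Fintype.ofFinite S
  rw [hasFix_iff] at h ⊢
  intro h0
  apply h
  let g : S →* S.map f := f.subgroupMap S
  have h1 : ∀ s : S, (χ ∘ f) s = χ (g s) := fun s => rfl
  rw [Finset.sum_congr rfl fun s _ => h1 s, ← Finset.sum_fiberwise Finset.univ g]
  have h2 : ∀ t : S.map f, ∑ s with g s = t, χ (g s) = (Nat.card g.ker : ℂ) * χ t := by
    intro t
    rw [Finset.sum_congr rfl (g := fun _ => χ t) fun s hs => by rw [(Finset.mem_filter.1 hs).2], Finset.sum_const,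
      nsmul_eq_mul]
    congr 2
    obtain ⟨s, hs⟩ := f.subgroupMap_surjective S t
    rw [Nat.card_eq_fintype_card, ← Fintype.card_subtype]
    refine Fintype.card_congr
      { toFun := fun u => ⟨s⁻¹ * u.1, ?_⟩
        invFun := fun k => ⟨s * k.1, ?_⟩
        left_inv := fun u => by simp
        right_inv := fun k => by simp }
    · rw [MonoidHom.mem_ker, map_mul, map_inv, u.2]
      exact inv_mul_eq_one.2 hs
    · rw [map_mul, MonoidHom.mem_ker.1 k.2, mul_one]
      exact hs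
  rw [Finset.sum_congr rfl fun t _ => h2 t, ← Finset.mul_sum, h0, mul_zero]

end perm

section rank3

universe u

variable {G : Type u} {X : Type*} [Group G] [MulAction G X] [Finite G] [Finite X]

/-- norm bound -/
theorem norm_le_of_irr {χ : G → ℂ} (hχ : IsIrrCharacter G χ) {d : ℕ} (hd : χ 1 = d) (g : G) : ‖χ g‖ ≤ d := by
  obtain ⟨n, ρ, hρ, rfl⟩ := hχ
  have h1 := Cfsg.Agent.Characters.Values.norm_character_le ρ g
  have h2 : ((Module.finrank ℂ (Fin n → ℂ) : ℕ) : ℂ) = (d : ℂ) := by rw [← hd, Representation.char_one]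
  have h3 : Module.finrank ℂ (Fin n → ℂ) = d := by exact_mod_cast h2
  rw [← h3]
  exact h1

/-- **the two constituents, for the quotient by a normal subgroup acting trivially** -/
theorem exists_rank3 {R : X → X → Prop} {k l : ℕ} (h : R3 G X R k l) (Z : Subgroup G) [Z.Normal]
    (hZ : ∀ z ∈ Z, ∀ x : X, z • x = x) :
    ∃ (χ₁ χ₂ : (G ⧸ Z) → ℂ) (f g : ℕ), IsIrrCharacter _ χ₁ ∧ IsIrrCharacter _ χ₂ ∧ χ₁ 1 = f ∧ χ₂ 1 = g ∧
      f + g = k + l ∧ ∀ x : G, (Nat.card (MulAction.fixedBy X x) : ℂ) = 1 + χ₁ x + χ₂ x := by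
  classical
  have := Fintype.ofFinite X
  obtain ⟨θ₁, θ₂, f, g, -, hf, hg, hfix, hfg, -, -⟩ := h.frame
  have key : ∀ z ∈ Z, (θ₁ : G → ℂ) z = (θ₁ : G → ℂ) 1 ∧ (θ₂ : G → ℂ) z = (θ₂ : G → ℂ) 1 := by
    intro z hz
    have h1 := hfix z
    have h2 : Nat.card (MulAction.fixedBy X z) = Nat.card X := by
      have : MulAction.fixedBy X z = Set.univ := Set.eq_univ_of_forall (hZ z hz)
      rw [this]
      exact Nat.card_univ
    rw [h2, h.cardn, add_assoc, ← hfg] at h1
    push_cast at h1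
    have h3 := norm_le_of_irr θ₁.2 hf z
    have h4 := norm_le_of_irr θ₂.2 hg z
    have h5 : ((θ₁ : G → ℂ) z).re + ((θ₂ : G → ℂ) z).re = f + g := by
      have h6 := congrArg Complex.re h1
      simp only [Complex.add_re, Complex.one_re, Complex.natCast_re] at h6
      linarith only [h6]
    have h6 := Complex.re_le_norm ((θ₁ : G → ℂ) z)
    have h7 := Complex.re_le_norm ((θ₂ : G → ℂ) z)
    have aux : ∀ {w : ℂ} {d : ℕ}, ‖w‖ ≤ d → (d : ℝ) ≤ w.re → w = d := by
      intro w d hw hd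
      have h8 : w.re = ‖w‖ := le_antisymm (Complex.re_le_norm w) (hw.trans hd)
      have h9 := (Complex.re_eq_norm.1 h8)
      have h10 := (Complex.nonneg_iff.1 h9).2
      apply Complex.ext
      · rw [Complex.natCast_re]
        exact le_antisymm (h8.le.trans hw) hd
      · rw [Complex.natCast_im]
        exact h10.symm
    exact ⟨by rw [hf]; exact aux h3 (by linarith only [h4, h5, h7]), by rw [hg]; exact aux h4 (by linarith only [h3, h5, h6])⟩
  obtain ⟨η₁, hη₁, hη₁'⟩ := Cfsg.Agent.H477.HC.exists_quot Z θ₁.2 fun z hz => (key z hz).1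
  obtain ⟨η₂, hη₂, hη₂'⟩ := Cfsg.Agent.H477.HC.exists_quot Z θ₂.2 fun z hz => (key z hz).2
  refine ⟨η₁, η₂, f, g, hη₁, hη₂, ?_, ?_, hfg, fun x => ?_⟩
  · rw [← hf, ← hη₁' 1]; rfl
  · rw [← hg, ← hη₂' 1]; rfl
  · rw [hfix x, hη₁', hη₂']

/-- **A constituent of even degree.** -/
theorem exists_even_of_rank3 {R : X → X → Prop} {k l : ℕ} (h : R3 G X R k l) (Z : Subgroup G) [Z.Normal]
    (hZ : ∀ z ∈ Z, ∀ x : X, z • x = x) (hodd : Odd (k + l)) {r : ℕ} [Fact r.Prime] (hr : r ∣ k + l)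
    (P : Sylow r (G ⧸ Z)) : ∃ φ : (G ⧸ Z) → ℂ, IsIrrCharacter _ φ ∧ 2 ∣ charDegree φ ∧
      HasFix φ (P : Subgroup (G ⧸ Z)) := by
  classical
  have := Fintype.ofFinite G
  have := h.trans
  obtain ⟨χ₁, χ₂, f, g, h1, h2, hf, hg, hfg, hfix⟩ := exists_rank3 h Z hZ
  let π : G →* G ⧸ Z := QuotientGroup.mk' Z
  have hπ : Function.Surjective π := QuotientGroup.mk'_surjective Z
  have h1' : IsIrrCharacter G (χ₁ ∘ π) := isIrr_comp π hπ h1
  have h2' : IsIrrCharacter G (χ₂ ∘ π) := isIrr_comp π hπ h2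
  have hr' : ¬ r ∣ Nat.card X := by
    rw [h.cardn, add_assoc]
    intro hd
    exact (Fact.out : r.Prime).one_lt.ne' (Nat.dvd_one.1 ((Nat.dvd_add_left hr).1 hd))
  have hsum : (fun x : G => (Nat.card (MulAction.fixedBy X x) : ℂ)) = (1 : G → ℂ) + (χ₁ ∘ π) + (χ₂ ∘ π) := by
    funext x
    exact hfix x
  have hone := isCharacter_one (G := G)
  -- inner products
  have hin : ∀ {α β : G → ℂ}, IsIrrCharacter G α → IsIrrCharacter G β →
      (fun x : G => (Nat.card (MulAction.fixedBy X x) : ℂ)) = (1 : G → ℂ) + α + β →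
      classInner (fun x : G => (Nat.card (MulAction.fixedBy X x) : ℂ)) α ≠ 0 := by
    intro α β hα hβ e
    rw [e, classInner_add_left, classInner_add_left, classInner_irr_self hα]
    obtain ⟨a, ha⟩ := classInner_isNat hone (isIrr_isCharacter hα)
    obtain ⟨b, hb⟩ := classInner_isNat (isIrr_isCharacter hβ) (isIrr_isCharacter hα)
    rw [ha, hb]
    intro h0
    have h3 : a + 1 + b = 0 := by exact_mod_cast h0
    omega
  -- the Sylow subgroup
  obtain ⟨S⟩ : Nonempty (Sylow r G) := inferInstance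
  obtain ⟨x, hx⟩ := MulAction.exists_smul_eq (G ⧸ Z) (S.mapSurjective hπ) P
  have hfixP : ∀ {α : (G ⧸ Z) → ℂ}, IsIrrCharacter _ α →
      classInner (fun x : G => (Nat.card (MulAction.fixedBy X x) : ℂ)) (α ∘ π) ≠ 0 →
      HasFix α (P : Subgroup (G ⧸ Z)) := by
    intro α hα hne
    have h3 := HasFix.of_comp π (hasFix_of_perm (isIrr_comp π hπ hα) hne hr' (S : Subgroup G) S.isPGroup')
    refine HasFix.conj (isIrr_isClassFunction hα) x h3 ?_
    rw [← hx]
    rfl
  have hdeg : ∀ {α : (G ⧸ Z) → ℂ} {d : ℕ}, α 1 = d → charDegree α = d := fun hd => H670.PSing.charDegree_eq_of hd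
  rw [← hfg] at hodd
  rcases Nat.even_or_odd f with hef | hef
  · refine ⟨χ₁, h1, by rw [hdeg hf]; exact hef.two_dvd, hfixP h1 (hin h1' h2' hsum)⟩
  · have heg : Even g := by
      by_contra hcon
      exact (Nat.not_even_iff_odd.2 hodd) (hef.add_odd (Nat.not_even_iff_odd.1 hcon))
    refine ⟨χ₂, h2, by rw [hdeg hg]; exact heg.two_dvd, hfixP h2 (hin h2' h1' ?_)⟩
    rw [hsum]
    ring

end rank3

section psu

universe u

variable {F : Type u} [Field F] [Fintype F] {q m : ℕ}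

/-- **the rank 3 character of even degree, with fixed vectors** -/
theorem exists_even_fix (hF : Fintype.card F = q ^ 2) (hm : m = 2 ∨ m = 3) (hq : Odd q) {r : ℕ} [Fact r.Prime]
    (hr : r ∣ q) (P : Sylow r (PSU (m + 2) F q)) : ∃ φ : PSU (m + 2) F q → ℂ, IsIrrCharacter _ φ ∧
      2 ∣ charDegree φ ∧ (HasFix φ (P : Subgroup (PSU (m + 2) F q)) :) := by
  have hq2 := LieClassical.HermBasic.two_le hF
  obtain ⟨b, hb0, hb, hr3, -⟩ := H113.PSU.Points.r3 (F := F) (m := m) hF (by omega)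
  have hqZ : (2 : ℤ) ≤ q := by exact_mod_cast hq2
  have hbe : Even b := by
    rcases hm with rfl | rfl
    · have h1 : ((q : ℤ) ^ 2 - 1) * b = ((q : ℤ) ^ 2 - 1) * (q + 1) := by rw [hb]; ring
      have h2 := mul_left_cancel₀ (by nlinarith only [hq2]) h1
      have h3 : b = q + 1 := by exact_mod_cast h2
      rw [h3]
      exact hq.add_one
    · have h1 : ((q : ℤ) ^ 2 - 1) * b = ((q : ℤ) ^ 2 - 1) * (q ^ 3 + 1) := by rw [hb]; ring
      have h2 := mul_left_cancel₀ (by nlinarith only [hq2]) h1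
      have h3 : b = q ^ 3 + 1 := by exact_mod_cast h2
      rw [h3]
      exact (hq.pow).add_one
  refine exists_even_of_rank3 hr3 (Subgroup.center (SU (m + 2) F q)) ?_ ?_ ?_ P
  · intro z hz y
    obtain ⟨c, hc, -, hc'⟩ := Cfsg.Agent.ClassicalGeometry.PSUAutBasic.exists_scalar_of_mem_center hF (by omega) hz
    obtain ⟨v, h0, hv, rfl⟩ := H113.PSU.Points.exists_pt y
    rw [H113.PSU.Points.smul_pt, H113.PSU.Points.pt_eq_iff]
    exact ⟨c, hc, hc' v⟩
  · exact (hbe.mul_left _).add_odd hq.pow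
  · exact dvd_add ((hr.trans (dvd_pow_self q two_ne_zero)).mul_right _) (hr.trans (dvd_pow_self q (by omega)))

end psu

end Cfsg.Agent.H519.Dl
end

-- part: H519/Dl/PsuSmall
section
/-!
# `PSU_4(q)`, `PSU_5(q)`, `q` odd, `p = 2` (helper519, for S4769)

`many_small` : there are three irreducible characters of even degree which are not conjugate under automorphisms.
-/

set_option autoImplicit false
set_option linter.unusedSectionVars false

namespace Cfsg.Agent.H519.Dl

open Cfsg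
open CoxeterSystem Cfsg.Agent.ChevalleyStructure.CoxeterGeom Cfsg.Agent.Tits.Roots
  Cfsg.Agent.Nodes.Comb Cfsg.Agent.Nodes.Reps Cfsg.Agent.Nodes.BNOf
  Cfsg.Agent.Nodes.RGDLib Cfsg.Agent.Nodes.TypeC
open Cfsg.Agent.Nodes Cfsg.Agent.Nodes.WittAll Cfsg.Agent.Nodes.WittU Cfsg.Agent.Nodes.WittInst
  Cfsg.Agent.Nodes.WittRoot
  Cfsg.Agent.TitsThree Cfsg.Agent.TitsThree.Siegel Cfsg.Agent.TitsThree.SiegelGen
  Cfsg.Agent.TitsThree.WittFrame Cfsg.Agent.TitsThree.WBridge Cfsg.Agent.TitsThree.WittWeyl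
  Cfsg.Agent.TitsThree.FrameCN
open Cfsg.Agent.LieClassical.HermBasic Cfsg.Agent.TitsThree.KSideU Cfsg.Agent.H742 Cfsg.Agent.H246.Dl
open Cfsg.Agent.Nodes.WittRGD (Tor mem_Tor)

universe u

variable {F : Type u} [Field F] [Fintype F] {q : ℕ}

/-- an element of 2-power order -/
theorem exists_two_elt (hF : Fintype.card F = q ^ 2) (hq : Odd q) : ∃ (k : ℕ) (t : F), t ≠ 0 ∧ t ^ 2 ^ k = 1 ∧
    t ^ 2 ≠ 1 ∧ t * t ^ q ≠ 1 := by
  classical
  have hq2 := two_le hF
  have hq3 : 3 ≤ q := by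
    obtain ⟨c, hc⟩ := hq
    omega
  obtain ⟨g, hg⟩ := IsCyclic.exists_generator (α := Fˣ)
  have hord : orderOf g = q ^ 2 - 1 := by
    rw [orderOf_eq_card_of_forall_mem_zpowers hg, Nat.card_eq_fintype_card, Fintype.card_units, hF]
  have hpos : q ^ 2 - 1 ≠ 0 := by
    have : 3 ^ 2 ≤ q ^ 2 := Nat.pow_le_pow_left hq3 2
    omega
  obtain ⟨k, o, ho, hko⟩ := Nat.exists_eq_two_pow_mul_odd hpos
  have hfac : q ^ 2 - 1 = (q - 1) * (q + 1) := by
    obtain ⟨c, rfl⟩ : ∃ c, q = c + 1 := ⟨q - 1, by omega⟩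
    have : (c + 1) ^ 2 - 1 = c * (c + 2) := by
      have e : (c + 1) ^ 2 = c * (c + 2) + 1 := by ring
      rw [e, Nat.add_sub_cancel]
    rw [this]
    rfl
  have hopos : 0 < o := ho.pos
  have h8 : 4 ∣ 2 ^ k := by
    have h1 : 4 ∣ q ^ 2 - 1 := by
      obtain ⟨c, rfl⟩ := hq
      rw [hfac]
      exact ⟨c * (c + 1), by
        have e1 : 2 * c + 1 - 1 = 2 * c := by omega
        rw [e1]; ring⟩
    rw [hko] at h1
    have h2 : Nat.Coprime 4 o := by
      rw [show 4 = 2 ^ 2 by norm_num]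
      exact Nat.Coprime.pow_left 2 ((Nat.coprime_two_left).2 ho)
    exact h2.dvd_of_dvd_mul_right h1
  refine ⟨k, ((g ^ o : Fˣ) : F), Units.ne_zero _, ?_, ?_, ?_⟩
  · rw [← Units.val_pow_eq_pow_val, ← pow_mul, mul_comm, ← hko, ← hord, pow_orderOf_eq_one, Units.val_one]
  · intro h1
    rw [← Units.val_pow_eq_pow_val, Units.val_eq_one, ← pow_mul] at h1
    have h2 := orderOf_dvd_of_pow_eq_one h1
    rw [hord, hko, mul_comm o 2] at h2
    have h3 := Nat.dvd_of_mul_dvd_mul_right hopos h2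
    have h4 := h8.trans h3
    exact absurd h4 (by decide)
  · intro h1
    have h2 : ((g ^ (o * (q + 1)) : Fˣ) : F) = 1 := by
      rw [← h1, mul_add, mul_one, pow_add, Units.val_mul, pow_mul, Units.val_pow_eq_pow_val, mul_comm]
    rw [Units.val_eq_one] at h2
    have h3 := orderOf_dvd_of_pow_eq_one h2
    rw [hord, hko, mul_comm o (q + 1)] at h3
    obtain ⟨c, hc⟩ := Nat.dvd_of_mul_dvd_mul_right hopos h3
    rw [hfac, hc] at hko
    have h4 : 2 ^ k * ((q - 1) * c) = 2 ^ k * o := by rw [← hko]; ring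
    have h5 := Nat.eq_of_mul_eq_mul_left (by positivity) h4
    have h6 : Even (q - 1) := Nat.Odd.sub_odd hq odd_one
    exact (Nat.not_even_iff_odd.2 ho) (by rw [← h5]; exact h6.mul_right c)

/-- **a frame of index two** -/
theorem many_of_frame {m : ℕ} (hF : Fintype.card F = q ^ 2) (hm : m = 2 ∨ m = 3) (hq : Odd q)
    (W : WFrame (PU hF (m + 2)) 2) (hadm : Nat.card (toFrame W).Adm ≠ q ^ 2) (hadm2 : 2 ≤ Nat.card (toFrame W).Adm) :
    Many 2 (PSU (m + 2) F q) 3 := by
  classical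
  have hq2 := two_le hF
  obtain ⟨r, hr⟩ := CharP.exists F
  have hrp : r.Prime := CharP.char_is_prime F r
  have : Fact r.Prime := ⟨hrp⟩
  have hrq : r ∣ q := by
    have h1 : r ∣ Fintype.card F := by
      rw [← CharP.cast_eq_zero_iff F r]
      exact Nat.cast_card_eq_zero F
    rw [hF] at h1
    exact hrp.dvd_of_dvd_pow h1
  have h2r : (2 : ℕ) ≠ r := by
    rintro rfl
    exact (Nat.not_even_iff_odd.2 hq) (even_iff_two_dvd.2 hrq)
  obtain ⟨p0, hp0, -⟩ := exists_adm hF W
  have hA := AmbT.of_amb (amb_U hF W) r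
  let M := KInstU.model hF (by omega) W
  have R := rgdC_model M hA hp0 (CoxeterMatrix.B 2).toCoxeterSystem
  have hW : Finite (CoxeterMatrix.B 2).Group := TypeC.finite_W (CoxeterMatrix.B 2).toCoxeterSystem
  have hG := Cfsg.Agent.KFacts.RgdFilt.GG_eq_top (T := WittModel.T M)
    (WittModel.G1_eq_top M (by omega) (CoxeterMatrix.B 2).toCoxeterSystem)
  have hT : ∀ s ∈ WittModel.T M, ∀ t ∈ WittModel.T M, s * t = t * s := by
    rintro _ ⟨s, hs, rfl⟩ _ ⟨t, ht, rfl⟩
    rw [← map_mul, ← map_mul]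
    congr 1
    exact Subtype.ext (H716.RGDAb.tor_comm_of hA.V0 (Subgroup.mem_subgroupOf.1 hs) (Subgroup.mem_subgroupOf.1 ht)
      (comm_V0_U hF (by omega) W hA (Subgroup.mem_subgroupOf.1 hs) (Subgroup.mem_subgroupOf.1 ht)))
  obtain ⟨k, t, ht0, ht, ht2, htσ⟩ := exists_two_elt (F := F) hF hq
  obtain ⟨Q, hQ, hQT, hQC⟩ := WittTor.exists_QC M hA hp0 (CoxeterMatrix.B 2).toCoxeterSystem le_rfl hT (ℓ := 2) ht0 ht
    ht2 htσ
  obtain ⟨P, hP⟩ := BpExc.TorRgd.exists_sylow_eq R hG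
  obtain ⟨φ, hφ, hφ2, hφU⟩ := exists_even_fix (F := F) hF hm hq hrq P
  rw [hP] at hφU
  have hX0 : Nat.card (WittModel.X M (sr (0 : Fin 2))) = q ^ 2 := by
    rw [card_X_of_lt M (by norm_num), Nat.card_eq_fintype_card, hF]
  have hX1 : Nat.card (WittModel.X M (sr (1 : Fin 2))) = Nat.card (toFrame W).Adm := card_X_last M (by norm_num)
  refine many_two_nodes R hG hT h2r Q hQ hQT hQC (i := 0) (j := 1) ?_ ?_ ?_ hφ hφ2 hφU
  · rw [hX0]
    nlinarith only [hq2]
  · rw [hX1]
    exact hadm2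
  · rw [hX0, hX1]
    exact hadm.symm

/-- **`PSU_4(q)`, `PSU_5(q)`, `q` odd, `p = 2`.** -/
theorem many_small {n : ℕ} (hF : Fintype.card F = q ^ 2) (hn : n = 4 ∨ n = 5) (hq : Odd q) :
    Many 2 (PSU n F q) 3 := by
  have hq2 := two_le hF
  rcases hn with rfl | rfl
  · obtain ⟨W, hW⟩ := exists_wframe_even (N := 4) (m := 2) hF (by norm_num)
    have h1 : Nat.card (toFrame W).V0 = 1 := by
      change Nat.card W.V0 = 1
      rw [hW]
      exact Nat.card_unique
    have h2 : Nat.card (toFrame W).Adm = q := by rw [card_adm (toFrame W) h1 (card_ok hF W), one_mul]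
    refine many_of_frame (m := 2) hF (Or.inl rfl) hq W ?_ ?_
    · rw [h2]
      nlinarith only [hq2]
    · rw [h2]
      exact hq2
  · obtain ⟨W, d, hd, hW⟩ := exists_wframe_odd (N := 5) (m := 2) hF (by norm_num)
    have hd0 : d ≠ 0 := by
      rintro rfl
      rw [herm_zero_left] at hd
      exact zero_ne_one hd
    have h1 : Nat.card (toFrame W).V0 = q ^ 2 := by
      change Nat.card W.V0 = q ^ 2
      rw [hW, ← hF, ← Nat.card_eq_fintype_card]
      exact (Nat.card_congr (LinearEquiv.toSpanNonzeroSingleton F (Fin 5 → F) d hd0).toEquiv).symm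
    have h2 : Nat.card (toFrame W).Adm = q ^ 3 := by rw [card_adm (toFrame W) h1 (card_ok hF W), ← pow_succ]
    refine many_of_frame (m := 3) hF (Or.inr rfl) hq W ?_ ?_
    · rw [h2]
      intro h3
      have := Nat.pow_right_injective hq2 h3
      omega
    · rw [h2]
      calc 2 ≤ q := hq2
        _ ≤ q ^ 3 := Nat.le_self_pow (by norm_num) q

end Cfsg.Agent.H519.Dl
end

-- part: H519/Dl/Row
section
/-!
# S4769 for the unitary groups, `p` different from the characteristic (helper519)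

`LinNe` : the bound for linear `p`-groups (task DL-LIN (b)) as a hypothesis;
`dlLe_psu` : the derived length of a Sylow `p`-subgroup of `PSU_n(q)` is at most `log_p n + 1`;
`many_odd`, `many_two` : enough characters; `row_psu_ne` : the row, `PSU_4(q)`, `PSU_5(q)` with `p = 2` as a hypothesis.
-/

set_option autoImplicit false

namespace Cfsg.Agent.H519.Dl

open Cfsg Cfsg.Agent.H246.Dl Cfsg.Agent.H113.PSU.Levi Cfsg.Agent.H477.HC

universe u v

/-- the derived length of a linear `p`-group, `p` not the characteristic -/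
def LinNe : Prop := ∀ (F : Type u) [Field F] [Finite F] (n p : ℕ) [Fact p.Prime], (p : F) ≠ 0 → 0 < n →
  ∀ P : Subgroup (GL (Fin n) F), IsPGroup p ↥P → derivedSeries ↥P (Nat.log p n + 1) = ⊥

section Dl

variable {p : ℕ} [hp : Fact p.Prime] {G : Type u} [Group G] [Finite G] {S : Type v} [Group S]

/-- quotients -/
theorem DlLe.of_surjective {d : ℕ} (f : G →* S) (hf : Function.Surjective f) (h : DlLe p d G) : DlLe p d S := by
  intro P
  have hfin : Finite S := Finite.of_surjective f hf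
  let Q : Sylow p G := default
  let e : ↥(Q.mapSurjective hf : Subgroup S) ≃* ↥(P : Subgroup S) := Sylow.equiv (Q.mapSurjective hf) P
  let g : ↥(Q : Subgroup G) →* ↥(Q.mapSurjective hf : Subgroup S) := f.subgroupMap (Q : Subgroup G)
  have hg : Function.Surjective (e.toMonoidHom.comp g) := by
    intro x
    obtain ⟨y, hy⟩ := f.subgroupMap_surjective (Q : Subgroup G) (e.symm x)
    refine ⟨y, ?_⟩
    change e (g y) = x
    rw [show g y = e.symm x from hy, e.apply_symm_apply]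
  rw [← map_derivedSeries_eq hg, h Q, Subgroup.map_bot]

end Dl

section Unitary

variable {F : Type u} [Field F] [Fintype F] {q n : ℕ}

theorem cast_ne (hF : Fintype.card F = q ^ 2) {p : ℕ} (hp : p.Prime) (hpq : ¬ p ∣ q) : (p : F) ≠ 0 := by
  obtain ⟨r, hr, hc, hrq⟩ := H113.PSU.Facts.prime_pow hF
  intro h
  have h1 : r ∣ p := (CharP.cast_eq_zero_iff F r p).1 h
  exact hpq ((hrq p hp).2 ((Nat.prime_dvd_prime_iff_eq hr hp).1 h1).symm)

theorem dlLe_su (hl : LinNe.{u}) (hF : Fintype.card F = q ^ 2) (hn : 0 < n) {p : ℕ} [hp : Fact p.Prime]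
    (hpq : ¬ p ∣ q) : DlLe p (Nat.log p n + 1) (SU n F q) := by
  refine DlLe.of_hom (Matrix.SpecialLinearGroup.toGL.comp (SU n F q).subtype) (fun g hg _ => ?_) fun Q hQ =>
    hl F n p (cast_ne hF hp.out hpq) hn Q hQ
  apply Subtype.ext
  exact Matrix.SpecialLinearGroup.toGL_injective (by rw [Subgroup.coe_one, map_one]; exact hg)

/-- **the derived length** -/
theorem dlLe_psu (hl : LinNe.{u}) (hF : Fintype.card F = q ^ 2) (hn : 0 < n) {p : ℕ} [hp : Fact p.Prime]
    (hpq : ¬ p ∣ q) : DlLe p (Nat.log p n + 1) (PSU n F q) :=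
  DlLe.of_surjective (QuotientGroup.mk' _) (QuotientGroup.mk'_surjective _) (dlLe_su hl hF hn hpq)

/-- the degrees -/
theorem exists_fun (hF : Fintype.card F = q ^ 2) (hn : 3 ≤ n) : ∃ e : ℕ → ℕ,
    (∀ k, 2 ≤ k → 2 * k ≤ n → ∃ η : PSU n F q → ℂ, IsIrrCharacter _ η ∧ η 1 = e k) ∧
    (∀ j k, 2 ≤ j → j < k → 2 * k ≤ n → e j ≠ e k) ∧
    (∀ k i, 2 ≤ k → 2 * k ≤ n → 2 ≤ i → i < 2 * k → uu q i ∣ e k) ∧
    (∀ k r, 2 ≤ k → 2 * k ≤ n → r.Prime → r ∣ q → ¬ r ∣ e k) := by
  classical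
  have hq : Nat.card F = q ^ 2 := by rw [Nat.card_eq_fintype_card, hF]
  have hq2 := LieClassical.HermBasic.two_le hF
  have hD := degSys (n := n) hF hq
  have h0 : ∀ k, 2 ≤ k → 2 * k ≤ n → ∃ (e t : ℕ), (∃ η : PSU n F q → ℂ, IsIrrCharacter _ η ∧ η 1 = e) ∧
      t ∣ q + 1 ∧ e * t = dg (CForm.hermF F hq n) k := by
    intro k hk hkn
    obtain ⟨η, e, t, h1, h2, h3, h4⟩ := exists_ek hF hq hn hk hkn
    exact ⟨e, t, ⟨η, h1, h2⟩, h3, h4⟩
  choose! e t h1 h2 h3 using h0
  refine ⟨e, h1, fun j k hj hjk hk => ?_, fun k i hk hkn hi hik => ?_, fun k r hk hkn hr hrq => ?_⟩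
  · exact hD.ne hq2 (by omega) hjk hk (h3 j hj (by omega)) (h3 k (by omega) hk) (h2 j hj (by omega)) (h2 k (by omega) hk)
  · exact hD.dvd hq2 (by omega) hkn (h3 k hk hkn) (h2 k hk hkn) hi hik
  · exact hD.not_dvd (by omega) hkn hq2 hr hrq (h3 k hk hkn)

/-- `p` divides `q^(p-1) - 1` -/
theorem dvd_uu_sub {p : ℕ} (hp : p.Prime) (hp2 : p ≠ 2) (hpq : ¬ p ∣ q) (hq : 1 ≤ q) : p ∣ uu q (p - 1) := by
  have : Fact p.Prime := ⟨hp⟩
  have h1 : Even (p - 1) := by
    obtain ⟨b, hb⟩ := hp.odd_of_ne_two hp2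
    exact ⟨b, by omega⟩
  unfold uu
  rw [if_pos h1, ← ZMod.natCast_eq_zero_iff, Nat.cast_sub (Nat.one_le_pow _ _ hq)]
  push_cast
  rw [ZMod.pow_card_sub_one_eq_one, sub_self]
  rwa [Ne, ZMod.natCast_eq_zero_iff]

theorem log_aux {p L : ℕ} (hp : 3 ≤ p) (hL : 2 ≤ L) : 2 * L + p + 1 ≤ p ^ L := by
  induction L, hL using Nat.le_induction with
  | base => nlinarith
  | succ L hL ih =>
    rw [pow_succ]
    nlinarith only [hp, ih]

/-- **the characters, `p` odd** -/
theorem many_odd (hF : Fintype.card F = q ^ 2) {p : ℕ} (hp : p.Prime) (hp2 : p ≠ 2) (hpq : ¬ p ∣ q)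
    (hn : p ^ 2 ≤ n) : Many p (PSU n F q) (Nat.log p n + 1) := by
  classical
  have hq2 := LieClassical.HermBasic.two_le hF
  have hp3 : 3 ≤ p := by have := hp.two_le; omega
  have hpo := hp.odd_of_ne_two hp2
  have hL : 2 ≤ Nat.log p n := by
    have := Nat.log_mono_right (b := p) hn
    rwa [Nat.log_pow hp.one_lt] at this
  have h1 := log_aux hp3 hL
  have hn0 : n ≠ 0 := by
    rintro rfl
    have : 0 < p ^ 2 := by positivity
    omega
  have h2 : p ^ Nat.log p n ≤ n := Nat.pow_log_le_self p hn0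
  obtain ⟨e, he1, he2, he3, -⟩ := exists_fun (F := F) (q := q) (n := n) hF (by omega)
  obtain ⟨b, hb⟩ := hpo
  have hinj : Set.InjOn e (Finset.Icc (b + 1) (n / 2) : Finset ℕ) := by
    intro j hj k hk hjk
    rw [Finset.coe_Icc, Set.mem_Icc] at hj hk
    rcases lt_trichotomy j k with h | h | h
    · exact absurd hjk (he2 j k (by omega) h (by omega))
    · exact h
    · exact absurd hjk.symm (he2 k j (by omega) h (by omega))
  have h3 : Many p (PSU n F q) ((Finset.Icc (b + 1) (n / 2)).image e).card := by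
    refine Many.of_finset fun d hd => ?_
    obtain ⟨k, hk, rfl⟩ := Finset.mem_image.1 hd
    rw [Finset.mem_Icc] at hk
    exact ⟨(dvd_uu_sub hp hp2 hpq (by omega)).trans (he3 k (p - 1) (by omega) (by omega) (by omega) (by omega)),
      he1 k (by omega) (by omega)⟩
  rw [Finset.card_image_of_injOn hinj, Nat.card_Icc] at h3
  exact h3.mono (by omega)

/-- parity of `(q^(2b) - 1) / (q^2 - 1)` -/
theorem parity (hq2 : 2 ≤ q) (hqo : ¬ 2 ∣ q) {b x : ℕ} (hx : uu q (2 * b) = (q ^ 2 - 1) * x) : x % 2 = b % 2 := by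
  have h4 := pow_ge_four hq2 le_rfl
  have h1 : ∀ b : ℕ, ∃ s, (q ^ 2) ^ b = (q ^ 2 - 1) * s + 1 ∧ s % 2 = b % 2 := by
    intro b
    induction b with
    | zero => exact ⟨0, by simp, rfl⟩
    | succ b ih =>
      obtain ⟨s, hs, hs2⟩ := ih
      obtain ⟨z, hz⟩ : ∃ z, q ^ 2 = z + 1 := ⟨q ^ 2 - 1, by omega⟩
      refine ⟨s * q ^ 2 + 1, ?_, ?_⟩
      · rw [pow_succ, hs, hz, Nat.add_sub_cancel]; ring
      · have h5 : q ^ 2 % 2 = 1 := by
          rw [Nat.pow_mod]
          have : q % 2 = 1 := by omega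
          rw [this]
        rw [Nat.add_mod, Nat.mul_mod, h5, hs2]
        (clear * -; solve | lia | omega)
  obtain ⟨s, hs, hs2⟩ := h1 b
  rw [uu_two_mul, pow_mul, hs, Nat.add_sub_cancel] at hx
  have h5 := Nat.eq_of_mul_eq_mul_left (by omega : 0 < q ^ 2 - 1) hx
  omega

/-- **a rank 3 character of even degree** -/
theorem exists_even (hF : Fintype.card F = q ^ 2) (hn : 4 ≤ n) (hqo : ¬ 2 ∣ q) :
    ∃ φ : IrrCharacter (PSU n F q), 2 ∣ charDegree (φ : PSU n F q → ℂ) ∧ q ∣ charDegree (φ : PSU n F q → ℂ) := by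
  have hq2 := LieClassical.HermBasic.two_le hF
  have key : ∀ {k b c D : ℕ}, 1 ≤ k → Even b → (q ^ 2 - 1) * (q + 1) * D = q ^ k * uu q (2 * b) * uu q c →
      2 ∣ D ∧ q ∣ D := by
    intro k b c D hk hb h
    obtain ⟨x, w, hx, hw, rfl⟩ := H113.PSU.Facts.cancel hq2 (even_two_mul b) h
    have h1 := parity hq2 hqo hx
    obtain ⟨b', hb'⟩ := hb
    have h2 : 2 ∣ x := by omega
    exact ⟨(h2.mul_left _).mul_right _, ((dvd_pow_self q (by omega)).mul_right _).mul_right _⟩
  obtain ⟨φF, hφF⟩ := H113.PSU.Facts.exF (F := F) hF hn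
  obtain ⟨φG, hφG⟩ := H113.PSU.Facts.exG (F := F) hF hn
  rcases Nat.even_or_odd' n with ⟨m, hm | hm⟩
  · by_cases h : Even m
    · refine ⟨φF, key (k := 2) (b := m) (c := n - 3) (by omega) h ?_⟩
      rw [hφF, ← hm]
    · refine ⟨φG, key (k := 3) (b := m - 1) (c := n - 1) (by omega) ?_ ?_⟩
      · obtain ⟨s, hs⟩ := Nat.not_even_iff_odd.1 h
        exact ⟨s, by omega⟩
      · rw [hφG, show n - 2 = 2 * (m - 1) by omega]; ring
  · by_cases h : Even m
    · refine ⟨φG, key (k := 3) (b := m) (c := n - 2) (by omega) h ?_⟩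
      rw [hφG, show n - 1 = 2 * m by omega]
    · refine ⟨φF, key (k := 2) (b := m - 1) (c := n) (by omega) ?_ ?_⟩
      · obtain ⟨s, hs⟩ := Nat.not_even_iff_odd.1 h
        exact ⟨s, by omega⟩
      · rw [hφF, show n - 3 = 2 * (m - 1) by omega]; ring

/-- **the characters, `p = 2`** -/
theorem many_two (hF : Fintype.card F = q ^ 2) (hqo : ¬ 2 ∣ q) (hn : 4 ≤ n) : Many 2 (PSU n F q) (n / 2) := by
  classical
  have hq2 := LieClassical.HermBasic.two_le hF
  obtain ⟨e, he1, he2, he3, he4⟩ := exists_fun (F := F) (q := q) (n := n) hF (by omega)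
  obtain ⟨φ, hφ2, hφq⟩ := exists_even (F := F) hF hn hqo
  obtain ⟨r, hr, hrq⟩ := Nat.exists_prime_and_dvd (show q ≠ 1 by omega)
  have hinj : Set.InjOn e (Finset.Icc 2 (n / 2) : Finset ℕ) := by
    intro j hj k hk hjk
    rw [Finset.coe_Icc, Set.mem_Icc] at hj hk
    rcases lt_trichotomy j k with h | h | h
    · exact absurd hjk (he2 j k (by omega) h (by omega))
    · exact h
    · exact absurd hjk.symm (he2 k j (by omega) h (by omega))
  have hnot : charDegree (φ : PSU n F q → ℂ) ∉ (Finset.Icc 2 (n / 2)).image e := by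
    intro h
    obtain ⟨k, hk, hk'⟩ := Finset.mem_image.1 h
    rw [Finset.mem_Icc] at hk
    exact he4 k r (by omega) (by omega) hr hrq (by rw [hk']; exact hrq.trans hφq)
  have h2 : 2 ∣ uu q 2 := by
    have h3 : uu q 2 = q ^ 2 - 1 := uu_two_mul 1
    have h4 : q ^ 2 % 2 = 1 := by
      rw [Nat.pow_mod]
      have : q % 2 = 1 := by omega
      rw [this]
    have h5 := pow_ge_four hq2 le_rfl
    omega
  have h3 : Many 2 (PSU n F q) (insert (charDegree (φ : PSU n F q → ℂ)) ((Finset.Icc 2 (n / 2)).image e)).card := by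
    refine Many.of_finset fun d hd => ?_
    rcases Finset.mem_insert.1 hd with rfl | hd
    · exact ⟨hφ2, φ, φ.2, Blocks.Knorr.charDegree_eq φ.2⟩
    · obtain ⟨k, hk, rfl⟩ := Finset.mem_image.1 hd
      rw [Finset.mem_Icc] at hk
      exact ⟨h2.trans (he3 k 2 (by omega) (by omega) le_rfl (by omega)), he1 k (by omega) (by omega)⟩
  rw [Finset.card_insert_of_notMem hnot, Finset.card_image_of_injOn hinj, Nat.card_Icc] at h3
  exact h3.mono (by omega)

theorem log_two_aux {n : ℕ} (hn : 6 ≤ n) : Nat.log 2 n + 1 ≤ n / 2 := by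
  rcases Nat.lt_or_ge n 8 with h | h
  · have h1 : Nat.log 2 n = 2 := by
      rw [Nat.log_eq_iff (Or.inl (by norm_num))]
      omega
    omega
  · have hL : 3 ≤ Nat.log 2 n := by
      have := Nat.log_mono_right (b := 2) h
      rwa [show (8 : ℕ) = 2 ^ 3 by norm_num, Nat.log_pow (by norm_num)] at this
    have h2 : 2 ^ Nat.log 2 n ≤ n := Nat.pow_log_le_self 2 (by omega)
    have h3 : ∀ L : ℕ, 3 ≤ L → 2 * (L + 1) ≤ 2 ^ L := by
      intro L hL
      induction L, hL using Nat.le_induction with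
      | base => norm_num
      | succ L hL ih => rw [pow_succ]; omega
    have h4 := h3 _ hL
    omega

end Unitary

end Cfsg.Agent.H519.Dl
end

-- part: H519/Dl/PsuRow
section
/-!
# The row of S4769 for the unitary groups, `p` not the characteristic (helper519)

* `linNe`, `dlLe` : `DlLe p (log_p n + 1) (PSU_n(q))`;
* `many` : enough characters if `log_p n ≥ 2`;
* `not_comm`;
* **`row_psu_ne_all`** : the row.
-/

set_option autoImplicit false

namespace Cfsg.Agent.H519.Dl

open Cfsg Cfsg.Agent.H246.Dl Cfsg.Agent.H113.PSU.Levi Cfsg.Agent.H477.HC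

universe u v

theorem linNe : LinNe.{u} := by
  intro F _ _ n p _ hpF _ P hP
  have : Fintype F := Fintype.ofFinite F
  have : Finite (GL (Fin n) F) := inferInstance
  exact H755.Dl.derivedSeries_ne hpF P hP

section Unitary

variable {F : Type u} [Field F] [Fintype F] {q n : ℕ}

theorem dlLe (hF : Fintype.card F = q ^ 2) (hn : 3 ≤ n) {p : ℕ} (hp : p.Prime) (hpq : ¬ p ∣ q) :
    DlLe p (Nat.log p n + 1) (PSU n F q) := by
  have : Fact p.Prime := ⟨hp⟩
  exact dlLe_psu (F := F) (q := q) (n := n) linNe hF (by omega) (p := p) hpq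

theorem odd_of_not_dvd {q : ℕ} (h : ¬ 2 ∣ q) : Odd q := by
  rw [← Nat.not_even_iff_odd, even_iff_two_dvd]
  exact h

/-- **enough characters** -/
theorem many (hF : Fintype.card F = q ^ 2) (hn : 3 ≤ n) {p : ℕ} (hp : p.Prime) (hpq : ¬ p ∣ q)
    (hL : 2 ≤ Nat.log p n) : Many p (PSU n F q) (Nat.log p n + 1) := by
  have : Fact p.Prime := ⟨hp⟩
  by_cases hp2 : p = 2
  · subst hp2
    rcases Nat.lt_or_ge n 6 with h | h
    · rcases Nat.lt_or_ge n 4 with h' | h'
      · have h3 : n = 3 := by omega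
        subst h3
        exfalso
        have : Nat.log 2 3 = 1 := by
          rw [Nat.log_eq_iff (Or.inl (by norm_num))]
          omega
        omega
      · have h1 : Nat.log 2 n = 2 := by
          rw [Nat.log_eq_iff (Or.inl (by norm_num))]
          omega
        rw [h1]
        exact many_small hF (by omega) (odd_of_not_dvd hpq)
    · exact (many_two hF hpq (by omega)).mono (log_two_aux h)
  · have hn2 : p ^ 2 ≤ n := by
      rw [← Nat.le_log_iff_pow_le hp.one_lt (by omega)]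
      exact hL
    exact many_odd hF hp hp2 hpq hn2

end Unitary

section NotComm

open Cfsg.Agent.H50.Her Cfsg.Agent.H742

variable {F : Type u} [Field F] [Fintype F] {q : ℕ}

theorem not_comm_of_pan {r l : ℕ} {M : CoxeterMatrix (Fin l)} {y : Fin l → ℕ} {G : Type*} [Group G] [Finite G]
    (h : HasPan r M y G) (hl : 0 < l) : ¬ IsMulCommutative G := by
  intro hc
  obtain ⟨A, hA, T, n, X, hW, R, -⟩ := h
  apply H64.Dl.X_ne R (⟨0, hl⟩ : Fin l)
  rw [← H64.Dl.cj_n R]
  ext g
  rw [Nodes.Reps.mem_cj]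
  have h1 : ∀ a b : G, a * b = b * a := hc.is_comm.comm
  rw [h1 _ g, mul_assoc, inv_mul_cancel, mul_one]

theorem not_comm {n : ℕ} (hF : Fintype.card F = q ^ 2) (hn : 3 ≤ n) : ¬ IsMulCommutative (PSU n F q) := by
  obtain ⟨r, hr⟩ := CharP.exists F
  have : Fact r.Prime := ⟨CharP.char_is_prime F r⟩
  rcases Nat.even_or_odd' n with ⟨m, rfl | rfl⟩
  · exact not_comm_of_pan (pan_psu_even hF (m := m) (by omega) (p := r)) (by omega)
  · exact not_comm_of_pan (pan_psu_odd hF (m := m) (by omega) (p := r)) (by omega)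

end NotComm

/-- **The row, `p` not the characteristic.** -/
theorem row_psu_ne_all (T : H596.OneFacts.FactTwo.{u}) (I : H671.H5.FactIM.{u}) {F : Type} [Field F] [Fintype F]
    {q n : ℕ} (hF : Fintype.card F = q ^ 2) (hn : 3 ≤ n) {S : Type u} [Group S] [Finite S] [IsSimpleGroup S]
    (iso : S ≃* PSU n F q) {p : ℕ} (hp : p.Prime) (hd : p ∣ Nat.card S) (hpq : ¬ p ∣ q) : Row p S := by
  have : Fact p.Prime := ⟨hp⟩
  have hL := dlLe (F := F) hF hn hp hpq
  rcases Nat.lt_or_ge (Nat.log p n) 2 with h | h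
  · refine H759.Dl.row_of_dl_two T I (fun h1 => not_comm (F := F) hF hn ⟨⟨fun a b => iso.symm.injective ?_⟩⟩) hp hd
      ((hL.of_equiv iso).mono (by omega))
    rw [map_mul, map_mul]
    exact h1.is_comm.comm _ _
  · exact Row.of_equiv iso (Row.of_le hL (many hF hn hp hpq h) le_rfl)

end Cfsg.Agent.H519.Dl
end

-- part: H362/Dl/RowPsp
section
/-!
# S4769: the row of `PSp_{2m}(q)`, `p` prime to `q` (helper362)

`row_psp_ne`.
-/

set_option autoImplicit false
set_option linter.unusedSectionVars false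

open Cfsg

namespace Cfsg.Agent.H362.Dl

open Cfsg.Agent.H477.HC Module Cfsg.Agent.H53.HC Cfsg.Agent.H246.Dl Cfsg.Agent.Characters

universe u v

section

variable (K : Type v) [Field K] [Finite K]

/-- the natural representation -/
noncomputable def natRep (m : ℕ) : Matrix.symplecticGroup (Fin m) K →* GL (Fin (m + m)) K :=
  (Units.mapEquiv (Matrix.reindexAlgEquiv K K (finSumFinEquiv (m := m) (n := m))).toMulEquiv).toMonoidHom.comp (spHom m K)

theorem natRep_injective (m : ℕ) : Function.Injective (natRep K m) := by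
  refine (Units.mapEquiv (Matrix.reindexAlgEquiv K K (finSumFinEquiv (m := m) (n := m))).toMulEquiv).injective.comp ?_
  intro A B hAB
  have h2 := congrArg (fun g : GL (Fin m ⊕ Fin m) K => (g : Matrix (Fin m ⊕ Fin m) (Fin m ⊕ Fin m) K)) hAB
  exact Subtype.ext h2

theorem finite_psp (m : ℕ) : Finite (PSp m K) := by
  unfold PSp
  infer_instance

theorem dlLe_psp {m r e : ℕ} (hr : r.Prime) (hrK : ¬ r ∣ Nat.card K) (he0 : 0 < e)
    (he : ∀ k, 0 < k → r ∣ Nat.card K ^ k - 1 → e ≤ k) : DlLe r (Nat.log r (2 * m / e) + 1) (PSp m K) := by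
  have : Fact r.Prime := ⟨hr⟩
  have hrF : (r : K) ≠ 0 := by
    intro h
    obtain ⟨p, hp⟩ := CharP.exists K
    have hpr : p.Prime := (CharP.char_is_prime_or_zero K p).resolve_right (CharP.char_ne_zero_of_finite K p)
    have : Fact p.Prime := ⟨hpr⟩
    rw [CharP.cast_eq_zero_iff K p] at h
    have h1 : p = r := (Nat.prime_dvd_prime_iff_eq hpr hr).1 h
    obtain ⟨s, hs⟩ := card_pow K p
    have hs0 : s ≠ 0 := by
      rintro rfl
      rw [pow_zero] at hs
      have : 1 < Nat.card K := Finite.one_lt_card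
      omega
    apply hrK
    rw [hs, h1]
    exact dvd_pow_self r hs0
  have h1 := H755.Dl.DlLe_ne_ord (f := QuotientGroup.mk' (Subgroup.center (Matrix.symplecticGroup (Fin m) K)))
    (ρ := natRep K m) hrF he0 he (QuotientGroup.mk'_surjective _) (natRep_injective K m)
  rw [← two_mul] at h1
  exact h1

/-- `PSp` is not commutative -/
theorem not_comm_psp {m : ℕ} (hm : 2 ≤ m) : ¬ ∀ a b : PSp m K, a * b = b * a := by
  intro hc
  let _ := Fintype.ofFinite K
  have hq : 1 < Nat.card K := Finite.one_lt_card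
  obtain ⟨χ₁, χ₂, f, g, hχ₁, hχ₂, hf, hg, hf', hg'⟩ := Cfsg.Agent.H677.SpRank.exists_chars (F := K) hm
  have h1 := CCBasic.irr_apply_one_of_comm hc hχ₁
  rw [hf] at h1
  have h2 : f = 1 := by exact_mod_cast h1
  rw [h2] at hf'
  have hqz : (2 : ℤ) ≤ Nat.card K := by exact_mod_cast hq
  have h3 : (Nat.card K : ℤ) ≤ (Nat.card K : ℤ) ^ m := by
    calc (Nat.card K : ℤ) = (Nat.card K : ℤ) ^ 1 := (pow_one _).symm
      _ ≤ (Nat.card K : ℤ) ^ m := pow_le_pow_right₀ (by omega) (by omega)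
  have h4 : (Nat.card K : ℤ) ≤ (Nat.card K : ℤ) ^ (m - 1) := by
    calc (Nat.card K : ℤ) = (Nat.card K : ℤ) ^ 1 := (pow_one _).symm
      _ ≤ (Nat.card K : ℤ) ^ (m - 1) := pow_le_pow_right₀ (by omega) (by omega)
  obtain ⟨q, hq'⟩ : ∃ q : ℤ, q = (Nat.card K : ℤ) := ⟨_, rfl⟩
  obtain ⟨a, ha⟩ : ∃ a : ℤ, a = (Nat.card K : ℤ) ^ m := ⟨_, rfl⟩
  obtain ⟨b, hb⟩ : ∃ b : ℤ, b = (Nat.card K : ℤ) ^ (m - 1) := ⟨_, rfl⟩
  rw [← ha, ← hb, ← hq'] at hf'
  rw [← ha, ← hq'] at h3
  rw [← hb, ← hq'] at h4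
  rw [← hq'] at hqz
  have h5 : q * (a - 1) * (b + 1) ≥ 2 * (q - 1) * 3 := by
    have h6 : q * (a - 1) ≥ 2 * (q - 1) := by nlinarith only [hqz, h3]
    nlinarith only [hqz, h4, h6]
  push_cast at hf'
  linarith only [hqz, h5, hf']

theorem dvd_card_center (m : ℕ) (hm : 0 < m) (h2 : (2 : K) ≠ 0) :
    2 ∣ Nat.card (Subgroup.center (Matrix.symplecticGroup (Fin m) K)) := by
  classical
  have h1 : (⟨-1, by rw [SymplecticGroup.mem_iff]; simp⟩ : Matrix.symplecticGroup (Fin m) K) ∈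
      Subgroup.center (Matrix.symplecticGroup (Fin m) K) := by
    rw [Subgroup.mem_center_iff]
    intro g
    apply Subtype.ext
    change (g : Matrix (Fin m ⊕ Fin m) (Fin m ⊕ Fin m) K) * (-1) = (-1) * (g : Matrix (Fin m ⊕ Fin m) (Fin m ⊕ Fin m) K)
    rw [mul_neg, neg_mul, mul_one, one_mul]
  have h3 : orderOf (⟨_, h1⟩ : Subgroup.center (Matrix.symplecticGroup (Fin m) K)) = 2 := by
    refine orderOf_eq_prime ?_ ?_
    · apply Subtype.ext
      apply Subtype.ext
      change (-1 : Matrix (Fin m ⊕ Fin m) (Fin m ⊕ Fin m) K) ^ 2 = 1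
      rw [neg_one_sq]
    · intro h
      have h4 : (-1 : Matrix (Fin m ⊕ Fin m) (Fin m ⊕ Fin m) K) = 1 := congrArg (fun z => ((z : Subgroup.center (Matrix.symplecticGroup (Fin m) K)) : Matrix.symplecticGroup (Fin m) K).1) h
      have h5 := congrFun (congrFun h4 (Sum.inl ⟨0, hm⟩)) (Sum.inl ⟨0, hm⟩)
      rw [Matrix.neg_apply, Matrix.one_apply_eq] at h5
      apply h2
      linear_combination -h5
  rw [← h3]
  exact orderOf_dvd_natCard _

/-- `PSp_4(3)`, `PSp_4(5)` -/
theorem dlLe_two_four (h : Nat.card K = 3 ∨ Nat.card K = 5) : DlLe 2 2 (PSp 2 K) := by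
  have := finite_psp K 2
  refine dlLe_two_of_two_pow fun hd => ?_
  have h2 : (2 : K) ≠ 0 := by
    intro h2
    obtain ⟨p, hp⟩ := CharP.exists K
    have hpr : p.Prime := (CharP.char_is_prime_or_zero K p).resolve_right (CharP.char_ne_zero_of_finite K p)
    have : Fact p.Prime := ⟨hpr⟩
    have h3 : ((2 : ℕ) : K) = 0 := by exact_mod_cast h2
    rw [CharP.cast_eq_zero_iff K p] at h3
    have h4 := (Nat.prime_dvd_prime_iff_eq hpr Nat.prime_two).1 h3
    subst h4
    obtain ⟨s, hs⟩ := card_pow K 2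
    rcases s with _ | s
    · rw [hs] at h
      omega
    · rw [pow_succ] at hs
      omega
  have h3 := Subgroup.card_eq_card_quotient_mul_card_subgroup (Subgroup.center (Matrix.symplecticGroup (Fin 2) K))
  have h4 := dvd_card_center K 2 (by norm_num) h2
  have h5 : 2 ^ 7 * 2 ∣ Nat.card (Matrix.symplecticGroup (Fin 2) K) := by
    rw [h3]
    exact Nat.mul_dvd_mul hd h4
  rw [Nat.card_congr (isoSp 2 K).toEquiv, card_spF] at h5
  rcases h with h | h
  · rw [h] at h5
    norm_num [Finset.prod_range_succ] at h5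
  · rw [h] at h5
    norm_num [Finset.prod_range_succ] at h5

theorem exists_ord {r : ℕ} (hr : r.Prime) (hrK : ¬ r ∣ Nat.card K) : ∃ e, 0 < e ∧ r ∣ Nat.card K ^ e - 1 ∧
    ∀ k, 0 < k → r ∣ Nat.card K ^ k - 1 → e ≤ k := by
  classical
  have hf : Fact r.Prime := ⟨hr⟩
  have hex : ∃ e, 0 < e ∧ r ∣ Nat.card K ^ e - 1 := by
    refine ⟨r - 1, by have := hr.two_le; omega, ?_⟩
    have h1 : ((Nat.card K : ℕ) : ZMod r) ≠ 0 := by
      rw [Ne, ZMod.natCast_eq_zero_iff]
      exact hrK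
    have h2 := ZMod.pow_card_sub_one_eq_one h1
    have h3 : 1 ≤ Nat.card K ^ (r - 1) := Nat.one_le_pow _ _ Nat.card_pos
    rw [← ZMod.natCast_eq_zero_iff, Nat.cast_sub h3, Nat.cast_pow, h2, Nat.cast_one, sub_self]
  exact ⟨Nat.find hex, (Nat.find_spec hex).1, (Nat.find_spec hex).2, fun k hk hk' => Nat.find_min' hex ⟨hk, hk'⟩⟩

/-- **the characters**: derived length at most `2`, or enough characters -/
theorem dl_or_many {m : ℕ} (hm : 2 ≤ m) (hmq : m = 2 → 3 ≤ Nat.card K) {r : ℕ} (hr : r.Prime)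
    (hrK : ¬ r ∣ Nat.card K) : DlLe r 2 (PSp m K) ∨ Row r (PSp m K) := by
  have hf : Fact r.Prime := ⟨hr⟩
  obtain ⟨e, he0, he, hmin⟩ := exists_ord K hr hrK
  have hdl := dlLe_psp K (m := m) hr hrK he0 hmin
  rcases Nat.lt_or_ge 2 (Nat.log r (2 * m / e) + 1) with hL | hL
  swap
  · exact Or.inl (hdl.mono hL)
  rcases hr.eq_two_or_odd' with h2 | hodd
  · -- `r = 2`
    subst h2
    obtain ⟨p, hp⟩ := CharP.exists K
    have hpr : p.Prime := (CharP.char_is_prime_or_zero K p).resolve_right (CharP.char_ne_zero_of_finite K p)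
    have : Fact p.Prime := ⟨hpr⟩
    have hp2 : p ≠ 2 := by
      rintro rfl
      obtain ⟨s, hs⟩ := card_pow K 2
      apply hrK
      rw [hs]
      refine dvd_pow_self 2 ?_
      rintro rfl
      rw [pow_zero] at hs
      have : 1 < Nat.card K := Finite.one_lt_card
      omega
    have he1 : e = 1 := by
      have h3 : e ≤ 1 := by
        refine hmin 1 one_pos ?_
        rw [pow_one]
        have h4 : Nat.card K % 2 = 1 := by omega
        omega
      omega
    subst he1
    rw [Nat.div_one] at hdl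
    by_cases hs : (Nat.card K = 3 → 5 ≤ m) ∧ (Nat.card K = 5 → 3 ≤ m)
    · exact Or.inr ⟨_, hdl, many_two K hp2 hm hs.1 hs.2⟩
    · by_cases h5 : Nat.card K = 5
      · have hm2 : m = 2 := by
          by_contra hne
          apply hs
          exact ⟨fun h => by omega, fun _ => by omega⟩
        subst hm2
        exact Or.inl (dlLe_two_four K (Or.inr h5))
      · have h3 : Nat.card K = 3 := by
          by_contra hne
          exact hs ⟨fun h => absurd h hne, fun h => absurd h h5⟩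
        have hm4 : m ≤ 4 := by
          by_contra hne
          apply hs
          exact ⟨fun h => by omega, fun h => by omega⟩
        interval_cases m
        · exact Or.inl (dlLe_two_four K (Or.inl h3))
        · have h6 : Nat.log 2 (2 * 3) + 1 = 3 := by
            rw [show Nat.log 2 (2 * 3) = 2 from by norm_num]
          exact Or.inr ⟨3, by rw [h6] at hdl; exact hdl, many_six_three K h3⟩
        · have h6 : Nat.log 2 (2 * 4) + 1 = 4 := by
            rw [show Nat.log 2 (2 * 4) = 3 from by norm_num]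
          exact Or.inr ⟨4, by rw [h6] at hdl; exact hdl, many_eight_three K h3⟩
  · -- `r` odd
    refine Or.inr ⟨_, hdl, many_odd K he0 he (by omega) ?_⟩
    rw [Nat.add_sub_cancel]
    have hr3 : 3 ≤ r := by
      have := hr.two_le
      rcases hodd with ⟨c, hc⟩
      omega
    have hx : 2 * m / e ≠ 0 := by
      intro h
      rw [h, Nat.log_zero_right] at hL
      omega
    calc 3 ^ Nat.log r (2 * m / e) * e ≤ r ^ Nat.log r (2 * m / e) * e :=
          Nat.mul_le_mul_right _ (Nat.pow_le_pow_left hr3 _)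
      _ ≤ (2 * m / e) * e := Nat.mul_le_mul_right _ (Nat.pow_log_le_self r hx)
      _ ≤ 2 * m := Nat.div_mul_le_self _ _

end

/-- **The row of `PSp_{2m}(q)`, `r` prime to `q`.** -/
theorem row_psp_ne (T : H596.OneFacts.FactTwo.{u}) (I : H671.H5.FactIM.{u}) {S : Type u} [Group S] [Finite S]
    [IsSimpleGroup S] {K : Type v} [Field K] [Finite K] {m : ℕ} (hm : 2 ≤ m) (hmq : m = 2 → 3 ≤ Nat.card K)
    (e : S ≃* PSp m K) {r : ℕ} (hr : r.Prime) (hd : r ∣ Nat.card S) (hrK : ¬ r ∣ Nat.card K) : Row r S := by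
  have hf : Fact r.Prime := ⟨hr⟩
  have := finite_psp K m
  rcases dl_or_many K hm hmq hr hrK with h | h
  · refine H759.Dl.row_of_dl_two T I (fun hc => ?_) hr hd (h.of_equiv e)
    exact not_comm_psp K hm fun a b => by
      have h1 := hc.is_comm.comm (e.symm a) (e.symm b)
      have h2 := congrArg e h1
      rw [map_mul, map_mul, e.apply_symm_apply, e.apply_symm_apply] at h2
      exact h2
  · exact h.of_equiv e

end Cfsg.Agent.H362.Dl
end

-- part: H279/Dl/OmTwo
section
/-!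
# The number of totally isotropic planes (helper279, task DL-SP2 of S4769)

`card_om_two` : `3 * |Om 2| = (2^(2n) - 1) (2^(2n-2) - 1)`.
-/

set_option autoImplicit false

open scoped ComplexConjugate
open Cfsg

namespace Cfsg.Agent.H279.Dl

open Cfsg.Agent.Characters Module Cfsg.Agent.H53.HC Cfsg.Agent.H477.HC Cfsg.Agent.H749.Two Cfsg.Agent.H674.Dl

universe u v w

section

variable {K : Type u} [Field K]

open Matrix in
theorem card_stab {n : ℕ} (W : Submodule K (Fin n ⊕ Fin n → K)) :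
    Nat.card (stabW (CForm.spF K n).iso.subtype W) =
      Nat.card (stabilizing (spToMat n K) (W : Set (Fin n ⊕ Fin n → K))) := by
  have key : ∀ A : Matrix.symplecticGroup (Fin n) K, A ∈ stabilizing (spToMat n K) (W : Set (Fin n ⊕ Fin n → K)) ↔
      isoSp n K A ∈ stabW (CForm.spF K n).iso.subtype W := by
    intro A
    have h1 : ∀ v, ((isoSp n K A : (CForm.spF K n).iso) : (Fin n ⊕ Fin n → K) ≃ₗ[K] (Fin n ⊕ Fin n → K)) v =
        (A : Matrix (Fin n ⊕ Fin n) (Fin n ⊕ Fin n) K) *ᵥ v := fun v => isoSp_apply A v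
    constructor
    · intro h
      exact map_eq_of_le (CForm.spF K n).iso.subtype fun w hw => by
        change ((isoSp n K A : (CForm.spF K n).iso) : (Fin n ⊕ Fin n → K) ≃ₗ[K] (Fin n ⊕ Fin n → K)) w ∈ W
        rw [h1]
        exact (h w).1 hw
    · intro h v
      have h2 : W.map ((CForm.spF K n).iso.subtype (isoSp n K A) : (Fin n ⊕ Fin n → K) →ₗ[K] _) = W := h
      have h3 : spToMat n K A *ᵥ v =
          ((isoSp n K A : (CForm.spF K n).iso) : (Fin n ⊕ Fin n → K) ≃ₗ[K] (Fin n ⊕ Fin n → K)) v := (h1 v).symm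
      change v ∈ W ↔ spToMat n K A *ᵥ v ∈ W
      rw [h3]
      constructor
      · intro hv
        rw [← h2]
        exact ⟨v, hv, rfl⟩
      · intro hv
        rw [← h2] at hv
        obtain ⟨w, hw, hwv⟩ := hv
        have := ((isoSp n K A : (CForm.spF K n).iso) : (Fin n ⊕ Fin n → K) ≃ₗ[K] (Fin n ⊕ Fin n → K)).injective hwv
        rwa [← this]
  refine (Nat.card_congr ((isoSp n K).toEquiv.subtypeEquiv fun A => key A)).symm

theorem card_om_two (h2 : Nat.card K = 2) {n : ℕ} (hn : 2 ≤ n) :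
    3 * Nat.card ((CForm.spF K n).Om 2) = (2 ^ (2 * n - 2) - 1) * (2 ^ (2 * n) - 1) := by
  have := finite_of_two h2
  let _ := Fintype.ofFinite K
  obtain ⟨e, f, j, hf⟩ := CForm.frm_sp (K := K) (k := 2) (n := n - 2) (m := n) (by omega)
  have hW₀ := frm_mem hf
  set W₀ := Submodule.span K (Set.range e) with hW
  have h1 := Cfsg.Agent.S0775.result (F := K) (q := 2) (by rw [← Nat.card_eq_fintype_card]; exact h2) n 2 hn W₀ hW₀.2
    (fun u hu v hv => by
      have h3 := hW₀.1.2 u hu v hv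
      rw [spF_B_eq, neg_eq_zero] at h3
      exact h3)
  rw [← card_stab] at h1
  have h3 := (CForm.spF K n).card_iso_eq hW₀
  rw [card_iso h2, h1] at h3
  obtain ⟨t, rfl⟩ : ∃ t, n = t + 2 := ⟨n - 2, by omega⟩
  have e1 : A (t + 2) = A t * (2 ^ (2 * (t + 1)) - 1) * (2 ^ (2 * (t + 2)) - 1) := by
    rw [A_succ, A_succ]
  have e2 : t + 2 - 2 = t := by omega
  rw [e2, e1] at h3
  have e3 : (∏ i ∈ Finset.range t, (2 ^ (2 * (i + 1)) - 1)) = A t := rfl
  rw [e3, Fin.prod_univ_two] at h3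
  have e4 : 2 * (2 + 1) / 2 + 2 * 2 * t = 4 * t + 3 := by omega
  rw [e4] at h3
  have e5 : 2 * (t + 2) - 2 = 2 * (t + 1) := by omega
  rw [e5]
  have hA := A_pos t
  set! N := Nat.card ((CForm.spF K (t + 2)).Om 2) with hset8; rewrite [← hset8] at h3 ⊢; clear hset8
  set! x := 2 ^ (2 * (t + 1)) - 1 with hset8; rewrite [← hset8] at h3 e1 ⊢; clear hset8
  set! y := 2 ^ (2 * (t + 2)) - 1 with hset8; rewrite [← hset8] at h3 e1 ⊢; clear hset8
  have e6 : (2 : ℕ) ^ (t + 2) ^ 2 = 2 ^ (t ^ 2) * 2 ^ (4 * t + 3) * 2 := by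
    rw [← pow_add, ← pow_succ]
    (with_reducible congr 1)
    ring
  rw [e6] at h3
  have e7 : (2 ^ (t ^ 2) * 2 ^ (4 * t + 3) * 2 * A t) * (3 * N) = (2 ^ (t ^ 2) * 2 ^ (4 * t + 3) * 2 * A t) * (x * y) := by
    have h4 : (2 ^ 2 - 2 ^ ((0 : Fin 2) : ℕ)) * (2 ^ 2 - 2 ^ ((1 : Fin 2) : ℕ)) = 6 := by norm_num
    rw [h4] at h3
    calc (2 ^ (t ^ 2) * 2 ^ (4 * t + 3) * 2 * A t) * (3 * N) = N * (2 ^ (4 * t + 3) * (2 ^ t ^ 2 * A t) * 6) := by ring
      _ = 2 ^ t ^ 2 * 2 ^ (4 * t + 3) * 2 * (A t * x * y) := h3.symm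
      _ = _ := by ring
  exact Nat.eq_of_mul_eq_mul_left (by positivity) e7

end

end Cfsg.Agent.H279.Dl
end

-- part: H279/Dl/Sp2
section
/-!
# The row of S4769 for `Sp_2n(2)`, `n ≥ 3`, `p = 2` (helper279, task DL-SP2 of S4769)

`row_sp_two`.
-/

set_option autoImplicit false

open scoped ComplexConjugate
open Cfsg

namespace Cfsg.Agent.H279.Dl

open Cfsg.Agent.Characters Module Cfsg.Agent.H53.HC Cfsg.Agent.H477.HC Cfsg.Agent.H749.Two Cfsg.Agent.H674.Dl
  Cfsg.Agent.H246.Dl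

universe u v w

section

variable {K : Type u} [Field K]

section frame

variable {V : Type v} [AddCommGroup V] [Module K V] {F : CForm K V}
  {X : Type w} [AddCommGroup X] [Module K X] {F' : CForm K X} {j : X →ₗ[K] V}

theorem frm_mem' {k : ℕ} {e f : Fin k → V} (h : CForm.Frm F F' e f j) : Submodule.span K (Set.range f) ∈ F.Om k := by
  classical
  refine ⟨F.TS_span h.hff h.hQf, ?_⟩
  have hli : LinearIndependent K f := by
    rw [Fintype.linearIndependent_iff]
    intro g hg i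
    have h1 : F.B (e i) (∑ l, g l • f l) = F.σ (g i) := by
      rw [CForm.B_sum_right, Finset.sum_eq_single i]
      · rw [h.hef, if_pos rfl, mul_one]
      · intro l _ hl
        rw [h.hef, if_neg (Ne.symm hl), mul_zero]
      · intro h; exact absurd (Finset.mem_univ _) h
    rw [hg, F.B_zero_right] at h1
    have := congrArg F.σ h1
    rw [F.σσ, map_zero] at this
    exact this.symm
  rw [finrank_span_eq_card hli, Fintype.card_fin]

theorem frm_opp {k : ℕ} {e f : Fin k → V} (h : CForm.Frm F F' e f j) :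
    Submodule.span K (Set.range e) ⊓ F.perp (Submodule.span K (Set.range f)) = ⊥ := by
  classical
  rw [Submodule.eq_bot_iff]
  rintro w ⟨hw, hw'⟩
  obtain ⟨g, rfl⟩ := (Submodule.mem_span_range_iff_exists_fun K).1 hw
  have h1 : ∀ i, g i = 0 := by
    intro i
    have h2 := hw' (f i) (Submodule.subset_span ⟨i, rfl⟩)
    rw [CForm.B_sum_left, Finset.sum_eq_single i] at h2
    · rwa [h.hef, if_pos rfl, mul_one] at h2
    · intro l _ hl
      rw [h.hef, if_neg hl, mul_zero]
    · intro h; exact absurd (Finset.mem_univ _) h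
  exact Finset.sum_eq_zero fun i _ => by rw [h1, zero_smul]

theorem ne_of_opp {k : ℕ} (hk : 0 < k) {W₀ W₁ : Submodule K V} (hW₀ : W₀ ∈ F.Om k) (h : W₀ ⊓ F.perp W₁ = ⊥) :
    W₁ ≠ W₀ := by
  rintro rfl
  rw [inf_eq_left.2 hW₀.1.le_perp] at h
  have h1 := hW₀.2
  rw [h, finrank_bot] at h1
  omega

theorem frm_perp {k : ℕ} {e f : Fin k → V} (h : CForm.Frm F F' e f j) (x : X) :
    ∀ w ∈ Submodule.span K (Set.range f), F.B (j x) w = 0 := by
  intro w hw
  obtain ⟨g, rfl⟩ := (Submodule.mem_span_range_iff_exists_fun K).1 hw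
  rw [CForm.B_sum_right]
  exact Finset.sum_eq_zero fun i _ => by rw [h.hjf, mul_zero]

end frame

theorem A_one : A 1 = 3 := by simp only [A, _root_.Finset.range_one, _root_.Finset.prod_singleton, _root_.zero_add, _root_.mul_one, _root_.Nat.reducePow, _root_.Nat.add_one_sub_one]

/-- a non-trivial linear character of `Sp_2(2)` -/
theorem exists_psi0 (h2 : Nat.card K = 2) : ∃ ψ₀ : (CForm.spF K 1).iso → ℂ, IsCharacter _ ψ₀ ∧ ψ₀ 1 = 1 ∧
    ∃ b, ψ₀ b ≠ 1 := by
  classical
  have := finite_of_two h2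
  let _ := Fintype.ofFinite K
  obtain ⟨c, hc, hcusp, hc1⟩ := exists_c2 h2
  obtain ⟨a, ha⟩ := c2_ne_one h2 hcusp
  let b : Basis (Fin 2) K (Fin 1 ⊕ Fin 1 → K) := finBasisOfFinrankEq K _ (by
    rw [finrank_fintype_fun_eq_card]; simp)
  let g : (CForm.spF K 1).iso →* GL (Fin 2) K := (glE b).toMonoidHom.comp (CForm.spF K 1).iso.subtype
  have hg : Function.Injective g := fun x y hxy => Subtype.ext ((glE b).injective hxy)
  have hcard : Nat.card (CForm.spF K 1).iso = Nat.card (GL (Fin 2) K) := by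
    rw [card_iso h2, A_one, Matrix.card_GL_field, Fin.prod_univ_two, ← Nat.card_eq_fintype_card, h2]
    norm_num
  have hs : Function.Surjective g := by
    have := finite_iso (CForm.spF K 1)
    exact ((Nat.bijective_iff_injective_and_card g).2 ⟨hg, hcard⟩).2
  obtain ⟨x, hx⟩ := hs a
  exact ⟨c ∘ g, Core.isCharacter_comp g (Core.isIrr_isCharacter hc), by rw [Function.comp_apply, map_one, hc1], x, by
    rw [Function.comp_apply, hx]; exact ha⟩

/-- **an even degree below `|Om 2|`** -/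
theorem exists_E (h2 : Nat.card K = 2) {n : ℕ} (hn : 2 ≤ n) (hodd : ¬ 2 ∣ Nat.card ((CForm.spF K n).Om 2)) :
    ∃ χ : (CForm.spF K n).iso → ℂ, IsIrrCharacter _ χ ∧
      ∃ d : ℕ, χ 1 = d ∧ 2 ∣ d ∧ d < Nat.card ((CForm.spF K n).Om 2) := by
  classical
  have := finite_of_two h2
  have := finite_iso (CForm.spF K n)
  have := finite_Om (CForm.spF K n) 2
  let _ := Fintype.ofFinite (CForm.spF K n).iso
  let _ := Fintype.ofFinite ((CForm.spF K n).Om 2)
  obtain ⟨c, hc, hcusp, hc1⟩ := exists_c2 h2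
  obtain ⟨a, ha⟩ := c2_ne_one h2 hcusp
  have hcn : c ≠ 1 := fun h => ha (by rw [h]; rfl)
  have hcf := Core.isIrr_isClassFunction hc
  obtain ⟨e, f, j, hf⟩ := CForm.frm_sp (K := K) (k := 2) (n := n - 2) (m := n) (by omega)
  have h1 := norm_one hc hcusp hc1 (iota_self h2 hcf) hcn (frm_mem hf) (frm_mem' hf) (frm_opp hf)
    (ne_of_opp two_pos (frm_mem hf) (frm_opp hf))
  have h3 : (CForm.spF K n).hc c (fun _ _ => 1) 1 = ((Nat.card ((CForm.spF K n).Om 2) : ℕ) : ℂ) := by
    rw [(CForm.spF K n).hc_one hcf (fun _ _ => 1) (d := 1) (fun _ _ => rfl), hc1, mul_one, mul_one]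
  obtain ⟨χ, hχ, -, h4⟩ := exists_even (hc_chr hc (Psi.one _ 2) (frm_mem hf)) h1 h3 hodd
  exact ⟨χ, hχ, h4⟩

/-- **two different even degrees for `n = 3`** -/
theorem exists_EE (h2 : Nat.card K = 2) (hodd : ¬ 2 ∣ Nat.card ((CForm.spF K 3).Om 2)) :
    ∃ χ χ' : (CForm.spF K 3).iso → ℂ, IsIrrCharacter _ χ ∧ IsIrrCharacter _ χ' ∧ χ ≠ χ' ∧
      (∃ d : ℕ, χ 1 = d ∧ 2 ∣ d ∧ d < Nat.card ((CForm.spF K 3).Om 2)) ∧
      ∃ d : ℕ, χ' 1 = d ∧ 2 ∣ d ∧ d < Nat.card ((CForm.spF K 3).Om 2) := by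
  classical
  have := finite_of_two h2
  have := finite_iso (CForm.spF K 3)
  have := finite_Om (CForm.spF K 3) 2
  let _ := Fintype.ofFinite (CForm.spF K 3).iso
  let _ := Fintype.ofFinite ((CForm.spF K 3).Om 2)
  obtain ⟨c, hc, hcusp, hc1⟩ := exists_c2 h2
  obtain ⟨a, ha⟩ := c2_ne_one h2 hcusp
  have hcn : c ≠ 1 := fun h => ha (by rw [h]; rfl)
  have hcf := Core.isIrr_isClassFunction hc
  obtain ⟨e, f, j, hf⟩ := CForm.frm_sp (K := K) (k := 2) (n := 1) (m := 3) (by omega)
  have hne := ne_of_opp two_pos (frm_mem hf) (frm_opp hf)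
  have h1 := norm_one hc hcusp hc1 (iota_self h2 hcf) hcn (frm_mem hf) (frm_mem' hf) (frm_opp hf) hne
  have h3 : (CForm.spF K 3).hc c (fun _ _ => 1) 1 = ((Nat.card ((CForm.spF K 3).Om 2) : ℕ) : ℂ) := by
    rw [(CForm.spF K 3).hc_one hcf (fun _ _ => 1) (d := 1) (fun _ _ => rfl), hc1, mul_one, mul_one]
  obtain ⟨ψ₀, hψ, hψ1, b, hb⟩ := exists_psi0 h2
  have hch := hc_chr hc (Psi.one _ 2) (frm_mem hf)
  obtain ⟨H, hH, hH1, hHH, hHc⟩ := two_chars hc hcusp hc1 (iota_self h2 hcf) hcn (cmp_of_frm hf rfl) (frm_mem hf)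
    (frm_mem' hf) (frm_opp hf) hne (frm_perp hf) (fun W' hW' h1 h0 => no_perp _ (by
      rw [finrank_fintype_fun_eq_card]; simp) (frm_mem hf) hW' h1 h0) hψ hψ1 hb
  obtain ⟨χ, hχ, hχH, h4⟩ := exists_even hch h1 h3 hodd
  obtain ⟨χ', hχ', hχH', h5⟩ := exists_even hH hHH hH1 hodd
  refine ⟨χ, χ', hχ, hχ', ?_, h4, h5⟩
  rintro rfl
  exact classInner_ne_zero_of_common hch hH hχ hχH hχH' hHc

/-- automorphisms are inner -/
theorem inner_iso (h2 : Nat.card K = 2) {n : ℕ} (hn : 3 ≤ n) (σ : (CForm.spF K n).iso ≃* (CForm.spF K n).iso) :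
    ∃ x, ∀ g, σ g = x * g * x⁻¹ := by
  obtain ⟨y, hy⟩ := Cfsg.Agent.OddHalf.Table.OutSpSix.inner hn h2
    (((pspIso h2 n).trans σ).trans (pspIso h2 n).symm)
  refine ⟨pspIso h2 n y, fun g => ?_⟩
  have h3 := congrArg (fun α : MulAut (PSp n K) => pspIso h2 n (α ((pspIso h2 n).symm g))) hy
  change pspIso h2 n ((pspIso h2 n).symm (σ (pspIso h2 n ((pspIso h2 n).symm g)))) =
    pspIso h2 n (y * (pspIso h2 n).symm g * y⁻¹) at h3
  rwa [MulEquiv.apply_symm_apply, MulEquiv.apply_symm_apply, map_mul, map_mul, MulEquiv.apply_symm_apply, map_inv] at h3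

theorem st_deg (h2 : Nat.card K = 2) {n : ℕ} (hn : 1 ≤ n) :
    ∃ ψ : (CForm.spF K n).iso → ℂ, IsIrrCharacter _ ψ ∧ ψ 1 = ((2 ^ n ^ 2 : ℕ) : ℂ) := by
  obtain ⟨ψ, hψ, a, ha, h1, h3⟩ := exists_st h2 hn
  refine ⟨ψ, hψ, ?_⟩
  rw [h1, h3]
  have h4 : 2 ^ (Nat.card (CForm.spF K n).iso).factorization 2 * pp 2 (Nat.card (CForm.spF K n).iso) =
      Nat.card (CForm.spF K n).iso := Nat.ordProj_mul_ordCompl_eq_self _ _
  rw [pp_card h2] at h4
  have h5 : 2 ^ (Nat.card (CForm.spF K n).iso).factorization 2 = 2 ^ n ^ 2 :=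
    Nat.eq_of_mul_eq_mul_right (A_pos n) (h4.trans (card_iso h2 n))
  rw [h5]

theorem om_eq (h2 : Nat.card K = 2) {n v : ℕ} (hn : 2 ≤ n) (hv : (2 ^ (2 * n - 2) - 1) * (2 ^ (2 * n) - 1) = 3 * v) :
    Nat.card ((CForm.spF K n).Om 2) = v := by
  have h := card_om_two h2 hn
  rw [hv] at h
  exact Nat.eq_of_mul_eq_mul_left (by norm_num) h

/-- `n = 3` -/
theorem many_three (h2 : Nat.card K = 2) : Many 2 (CForm.spF K 3).iso 3 := by
  have hN : Nat.card ((CForm.spF K 3).Om 2) = 315 := om_eq h2 (by norm_num) (by norm_num)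
  obtain ⟨χ, χ', hχ, hχ', hne, ⟨d, hd, hd2, hdN⟩, ⟨d', hd', hd2', hdN'⟩⟩ := exists_EE h2 (by rw [hN]; norm_num)
  obtain ⟨ψ, hψ, hψ1⟩ := st_deg h2 (n := 3) (by norm_num)
  rw [hN] at hdN hdN'
  have e1 : charDegree χ = d := H670.PSing.charDegree_eq_of hd
  have e2 : charDegree χ' = d' := H670.PSing.charDegree_eq_of hd'
  have e3 : charDegree ψ = 2 ^ 3 ^ 2 := H670.PSing.charDegree_eq_of hψ1
  refine Cfsg.Agent.H454.DlCrit.Many.of_two_degree (α := ⟨χ, hχ⟩) (β := ⟨χ', hχ'⟩) (ψ := ⟨ψ, hψ⟩) ?_ ?_ ?_ ?_ ?_ ?_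
  · change 2 ∣ charDegree χ
    rw [e1]; exact hd2
  · change 2 ∣ charDegree χ'
    rw [e2]; exact hd2'
  · change 2 ∣ charDegree ψ
    rw [e3]; norm_num
  · intro σ
    by_contra hcon
    push Not at hcon
    apply hne
    obtain ⟨x, hx⟩ := inner_iso h2 le_rfl σ
    funext g
    have h3 := hcon g
    change χ (σ g) = χ' g at h3
    rw [← h3, hx]
    exact (Core.isIrr_isClassFunction hχ g x).symm
  · change charDegree ψ ≠ charDegree χ
    rw [e1, e3]; omega
  · change charDegree ψ ≠ charDegree χ'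
    rw [e2, e3]; omega

/-! ### the odd parts -/

theorem D_lt {n k : ℕ} (hk : 2 ≤ k) (hkn : k < n) :
    (2 ^ (k + 1) - 1) * A (n - (k + 1)) < (2 ^ k - 1) * A (n - k) := by
  obtain ⟨t, ht⟩ : ∃ t, n - k = t + 1 := ⟨n - k - 1, by omega⟩
  have ht' : n - (k + 1) = t := by omega
  rw [ht, ht', A_succ]
  have h1 : 4 ≤ 2 ^ (2 * (t + 1)) := by
    calc 4 = 2 ^ 2 := by norm_num
      _ ≤ _ := Nat.pow_le_pow_right (by norm_num) (by omega)
  have h2 : 4 ≤ 2 ^ k := by
    calc 4 = 2 ^ 2 := by norm_num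
      _ ≤ _ := Nat.pow_le_pow_right (by norm_num) hk
  have h3 : 2 ^ (k + 1) = 2 * 2 ^ k := by ring
  have hA := A_pos t
  have h4 : (2 ^ (k + 1) - 1) < (2 ^ k - 1) * 3 := by omega
  calc (2 ^ (k + 1) - 1) * A t < (2 ^ k - 1) * 3 * A t := Nat.mul_lt_mul_of_pos_right h4 hA
    _ = (2 ^ k - 1) * (A t * 3) := by ring
    _ ≤ _ := Nat.mul_le_mul_left _ (Nat.mul_le_mul_left _ (by omega))

theorem D_anti {n k k' : ℕ} (hk : 2 ≤ k) (hkk : k < k') (hkn : k' ≤ n) :
    (2 ^ k' - 1) * A (n - k') < (2 ^ k - 1) * A (n - k) := by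
  induction k', hkk using Nat.le_induction with
  | base => exact D_lt hk hkn
  | succ l hl ih => exact (D_lt (by omega) hkn).trans (ih (by omega))

theorem pp_dg_ne (h2 : Nat.card K = 2) {n k k' : ℕ} (hk : 2 ≤ k) (hkk : k < k') (hkn : k' ≤ n) :
    pp 2 (dg (CForm.spF K n) k) ≠ pp 2 (dg (CForm.spF K n) k') := by
  intro h
  have h1 := pp_dg_mul h2 (n := n) (k := k) (by omega) (by omega)
  have h3 := pp_dg_mul h2 (n := n) (k := k') (by omega) (by omega)
  have h4 := D_anti hk hkk hkn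
  have hA := A_pos n
  rw [← h, mul_assoc] at h3
  rw [mul_assoc] at h1
  have h5 : 0 < pp 2 (dg (CForm.spF K n) k) := Nat.pos_of_mul_pos_right (by rw [← h1]; exact hA)
  have h6 := Nat.mul_lt_mul_of_pos_left h4 h5
  omega

theorem pp_dg_ne_one (h2 : Nat.card K = 2) {n k : ℕ} (hk : 2 ≤ k) (hkn : k ≤ n) :
    pp 2 (dg (CForm.spF K n) k) ≠ 1 := by
  intro h
  have h1 := pp_dg_mul h2 (n := n) (k := k) (by omega) (by omega)
  rw [h, one_mul] at h1
  have h3 : (2 ^ k - 1) * A (n - k) ≤ (2 ^ 2 - 1) * A (n - 2) := by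
    rcases Nat.eq_or_lt_of_le hk with h4 | h4
    · rw [← h4]
    · exact (D_anti le_rfl h4 hkn).le
  obtain ⟨t, rfl⟩ : ∃ t, n = t + 2 := ⟨n - 2, by omega⟩
  have h4 : t + 2 - 2 = t := by omega
  rw [h4] at h3
  rw [← h1, A_succ, A_succ] at h3
  have h5 : 4 ≤ 2 ^ (2 * (t + 1)) := by
    calc 4 = 2 ^ 2 := by norm_num
      _ ≤ _ := Nat.pow_le_pow_right (by norm_num) (by omega)
  have h6 : 16 ≤ 2 ^ (2 * (t + 1 + 1)) := by
    calc 16 = 2 ^ 4 := by norm_num
      _ ≤ _ := Nat.pow_le_pow_right (by norm_num) (by omega)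
  have hA := A_pos t
  have h7 : A t * 3 * 15 ≤ A t * (2 ^ (2 * (t + 1)) - 1) * (2 ^ (2 * (t + 1 + 1)) - 1) :=
    Nat.mul_le_mul (Nat.mul_le_mul_left _ (by omega)) (by omega)
  omega

/-- the degrees -/
theorem exists_deg (h2 : Nat.card K = 2) {n k : ℕ} (hk3 : 3 ≤ k) (hkn : k < n) (hnk : n < 2 * k) :
    ∃ d : ℕ, (2 ∣ d ∧ ∃ χ : (CForm.spF K n).iso → ℂ, IsIrrCharacter _ χ ∧ χ 1 = d) ∧
      pp 2 d = pp 2 (dg (CForm.spF K n) k) ∧ 2 * pp 2 (dg (CForm.spF K n) k) ≤ d := by
  obtain ⟨χ, hχ, a, ha, h⟩ := exists_chi h2 hk3 hkn hnk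
  refine ⟨dg (CForm.spF K n) k * 2 ^ a, ⟨Dvd.dvd.mul_left (dvd_pow_self 2 (by omega)) _, χ, hχ, h⟩, ?_, ?_⟩
  · rw [mul_comm, pp_pow_mul Nat.prime_two]
  · rw [mul_comm]
    refine Nat.mul_le_mul (pp_le _) ?_
    calc 2 = 2 ^ 1 := (pow_one 2).symm
      _ ≤ _ := Nat.pow_le_pow_right (by norm_num) ha

/-- the set of degrees -/
theorem exists_D (h2 : Nat.card K = 2) {n : ℕ} (hn : 4 ≤ n) :
    ∃ D : Finset ℕ, D.card = n - n / 2 ∧ (∀ d ∈ D, 2 ∣ d ∧ ∃ χ : (CForm.spF K n).iso → ℂ, IsIrrCharacter _ χ ∧ χ 1 = d) ∧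
      ∀ d ∈ D, d = 2 ^ n ^ 2 ∨ ∃ k, n / 2 < k ∧ k < n ∧ 2 * pp 2 (dg (CForm.spF K n) k) ≤ d := by
  classical
  have hex : ∀ k ∈ Finset.Icc (n / 2 + 1) (n - 1), ∃ d : ℕ, (2 ∣ d ∧ ∃ χ : (CForm.spF K n).iso → ℂ, IsIrrCharacter _ χ ∧ χ 1 = d) ∧
      pp 2 d = pp 2 (dg (CForm.spF K n) k) ∧ 2 * pp 2 (dg (CForm.spF K n) k) ≤ d := by
    intro k hk
    rw [Finset.mem_Icc] at hk
    exact exists_deg h2 (by omega) (by omega) (by omega)
  choose! d hd1 hd2 hd3 using hex
  have hinj : Set.InjOn d (Finset.Icc (n / 2 + 1) (n - 1) : Finset ℕ) := by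
    intro k hk k' hk' h
    have h3 : pp 2 (dg (CForm.spF K n) k) = pp 2 (dg (CForm.spF K n) k') := by
      rw [← hd2 k hk, ← hd2 k' hk', h]
    rw [Finset.mem_coe, Finset.mem_Icc] at hk hk'
    rcases lt_trichotomy k k' with h4 | h4 | h4
    · exact absurd h3 (pp_dg_ne h2 (by omega) h4 (by omega))
    · exact h4
    · exact absurd h3.symm (pp_dg_ne h2 (by omega) h4 (by omega))
  have hnot : 2 ^ n ^ 2 ∉ (Finset.Icc (n / 2 + 1) (n - 1)).image d := by
    intro h
    obtain ⟨k, hk, hk'⟩ := Finset.mem_image.1 h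
    have h3 := hd2 k hk
    rw [hk', pp_pow Nat.prime_two] at h3
    rw [Finset.mem_Icc] at hk
    exact pp_dg_ne_one h2 (by omega) (by omega) h3.symm
  refine ⟨insert (2 ^ n ^ 2) ((Finset.Icc (n / 2 + 1) (n - 1)).image d), ?_, ?_, ?_⟩
  · rw [Finset.card_insert_of_notMem hnot, Finset.card_image_of_injOn hinj, Nat.card_Icc]
    omega
  · intro x hx
    rw [Finset.mem_insert] at hx
    rcases hx with rfl | hx
    · obtain ⟨ψ, hψ, hψ1⟩ := st_deg h2 (n := n) (by omega)
      exact ⟨dvd_pow_self 2 (by positivity), ψ, hψ, hψ1⟩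
    · obtain ⟨k, hk, rfl⟩ := Finset.mem_image.1 hx
      exact hd1 k hk
  · intro x hx
    rw [Finset.mem_insert] at hx
    rcases hx with rfl | hx
    · exact Or.inl rfl
    · obtain ⟨k, hk, rfl⟩ := Finset.mem_image.1 hx
      have := hd3 k hk
      rw [Finset.mem_Icc] at hk
      exact Or.inr ⟨k, by omega, by omega, this⟩

/-- `n ≥ 7` -/
theorem many_big (h2 : Nat.card K = 2) {n : ℕ} (hn : 4 ≤ n) : Many 2 (CForm.spF K n).iso (n - n / 2) := by
  obtain ⟨D, hD, h1, -⟩ := exists_D h2 hn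
  rw [← hD]
  exact Many.of_finset h1

/-- `4 ≤ n ≤ 6` -/
theorem many_mid (h2 : Nat.card K = 2) {n : ℕ} (hn : 4 ≤ n) (hodd : ¬ 2 ∣ Nat.card ((CForm.spF K n).Om 2))
    (h3 : Nat.card ((CForm.spF K n).Om 2) ≤ 2 ^ n ^ 2)
    (h4 : ∀ k, n / 2 < k → k < n → Nat.card ((CForm.spF K n).Om 2) ≤ 2 * pp 2 (dg (CForm.spF K n) k)) :
    Many 2 (CForm.spF K n).iso (n - n / 2 + 1) := by
  obtain ⟨D, hD, h1, h5⟩ := exists_D h2 hn
  obtain ⟨χ, hχ, d, hd, hd2, hdN⟩ := exists_E h2 (by omega) hodd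
  have hnot : d ∉ D := by
    intro h
    rcases h5 d h with h6 | ⟨k, hk1, hk2, hk3⟩
    · omega
    · have := h4 k hk1 hk2
      omega
  have h6 := Finset.card_insert_of_notMem hnot
  rw [hD] at h6
  rw [← h6]
  refine Many.of_finset fun x hx => ?_
  rw [Finset.mem_insert] at hx
  rcases hx with rfl | hx
  · exact ⟨hd2, χ, hχ, hd⟩
  · exact h1 x hx

theorem A_two : A 2 = 45 := by simp only [A, Finset.prod_range_succ, _root_.Finset.range_one, _root_.Finset.prod_singleton, _root_.zero_add, _root_.mul_one, _root_.Nat.reducePow, _root_.Nat.add_one_sub_one, _root_.Nat.reduceAdd, _root_.Nat.reduceMul]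
theorem A_four : A 4 = 722925 := by simp only [A, Finset.prod_range_succ, _root_.Finset.range_one, _root_.Finset.prod_singleton, _root_.zero_add, _root_.mul_one, _root_.Nat.reducePow, _root_.Nat.add_one_sub_one, _root_.Nat.reduceAdd, _root_.Nat.reduceMul]
theorem A_five : A 5 = 739552275 := by simp only [A, Finset.prod_range_succ, _root_.Finset.range_one, _root_.Finset.prod_singleton, _root_.zero_add, _root_.mul_one, _root_.Nat.reducePow, _root_.Nat.add_one_sub_one, _root_.Nat.reduceAdd, _root_.Nat.reduceMul]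
theorem A_six : A 6 = 3028466566125 := by simp only [A, Finset.prod_range_succ, _root_.Finset.range_one, _root_.Finset.prod_singleton, _root_.zero_add, _root_.mul_one, _root_.Nat.reducePow, _root_.Nat.add_one_sub_one, _root_.Nat.reduceAdd, _root_.Nat.reduceMul]

theorem many_four (h2 : Nat.card K = 2) : Many 2 (CForm.spF K 4).iso 3 := by
  have hN : Nat.card ((CForm.spF K 4).Om 2) = 5355 := om_eq h2 (by norm_num) (by norm_num)
  refine many_mid h2 (n := 4) le_rfl (by rw [hN]; norm_num) (by rw [hN]; norm_num) fun k hk1 hk2 => ?_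
  obtain rfl : k = 3 := by omega
  have h := pp_dg_mul h2 (n := 4) (k := 3) (by norm_num) (by norm_num)
  norm_num [A_four, A_one] at h
  rw [hN]
  omega

theorem many_five (h2 : Nat.card K = 2) : Many 2 (CForm.spF K 5).iso 4 := by
  have hN : Nat.card ((CForm.spF K 5).Om 2) = 86955 := om_eq h2 (by norm_num) (by norm_num)
  refine many_mid h2 (n := 5) (by norm_num) (by rw [hN]; norm_num) (by rw [hN]; norm_num) fun k hk1 hk2 => ?_
  have hk : k = 3 ∨ k = 4 := by omega
  rcases hk with rfl | rfl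
  · have h := pp_dg_mul h2 (n := 5) (k := 3) (by norm_num) (by norm_num)
    norm_num [A_five, A_two] at h
    rw [hN]
    omega
  · have h := pp_dg_mul h2 (n := 5) (k := 4) (by norm_num) (by norm_num)
    norm_num [A_five, A_one] at h
    rw [hN]
    omega

theorem many_six (h2 : Nat.card K = 2) : Many 2 (CForm.spF K 6).iso 4 := by
  have hN : Nat.card ((CForm.spF K 6).Om 2) = 1396395 := om_eq h2 (by norm_num) (by norm_num)
  refine many_mid h2 (n := 6) (by norm_num) (by rw [hN]; norm_num) (by rw [hN]; norm_num) fun k hk1 hk2 => ?_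
  have hk : k = 4 ∨ k = 5 := by omega
  rcases hk with rfl | rfl
  · have h := pp_dg_mul h2 (n := 6) (k := 4) (by norm_num) (by norm_num)
    norm_num [A_six, A_two] at h
    rw [hN]
    omega
  · have h := pp_dg_mul h2 (n := 6) (k := 5) (by norm_num) (by norm_num)
    norm_num [A_six, A_one] at h
    rw [hN]
    omega

theorem clog_le {n : ℕ} (hn : 7 ≤ n) : Nat.clog 2 (2 * n) ≤ n - n / 2 := by
  apply Nat.clog_le_of_le_pow
  obtain ⟨t, ht⟩ : ∃ t, n - n / 2 = t + 4 := ⟨n - n / 2 - 4, by omega⟩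
  rw [ht]
  have h1 : 2 * n ≤ 4 * (t + 4) := by omega
  refine h1.trans ?_
  clear ht h1 hn
  induction t with
  | zero => norm_num
  | succ t ih =>
    have h2 : 2 ^ (t + 1 + 4) = 2 * 2 ^ (t + 4) := by ring
    omega

/-- **The row `Sp_2n(2)`, `n ≥ 3`, `p = 2`.** -/
theorem row_psp_two (h2 : Nat.card K = 2) {n : ℕ} (hn : 3 ≤ n) : Row 2 (PSp n K) := by
  have hdl := dlLe h2 n
  rcases Nat.lt_or_ge n 7 with h | h
  · interval_cases n
    · exact Row.of_le (hdl.mono (Nat.clog_le_of_le_pow (by norm_num))) ((many_three h2).of_equiv (pspIso h2 3)) le_rfl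
    · exact Row.of_le (hdl.mono (Nat.clog_le_of_le_pow (by norm_num))) ((many_four h2).of_equiv (pspIso h2 4)) le_rfl
    · exact Row.of_le (hdl.mono (Nat.clog_le_of_le_pow (by norm_num))) ((many_five h2).of_equiv (pspIso h2 5)) le_rfl
    · exact Row.of_le (hdl.mono (Nat.clog_le_of_le_pow (by norm_num))) ((many_six h2).of_equiv (pspIso h2 6)) le_rfl
  · exact Row.of_le hdl ((many_big h2 (by omega)).of_equiv (pspIso h2 n)) (clog_le h)

end

/-- **The row `Sp_2n(2)`, `n ≥ 3`, `p = 2`.** -/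
theorem row_sp_two {S : Type v} [Group S] [Finite S] {F : Type u} [Field F] (hF : Nat.card F = 2) {n : ℕ} (hn : 3 ≤ n)
    (e : S ≃* PSp n F) : Row 2 S := by
  have : Fact (Nat.Prime 2) := ⟨Nat.prime_two⟩
  exact Row.of_equiv e (row_psp_two hF hn)

end Cfsg.Agent.H279.Dl
end

-- part: H152/Dl/Fields
section
/-!
# S4769: the fields `l2`, `ln`, `psp`, `psu`, `odd`, `plus`, `minus`, `sz`, `ree` of `H759.Dl.Missing` (helper152)
-/

set_option autoImplicit false

namespace Cfsg.Agent.H152.Dl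

open Cfsg
open Cfsg.Agent.H246.Dl Cfsg.Agent.H596.OneFacts Cfsg.Agent.H759.Dl

universe u

theorem not_comm_of_not_prime {S : Type u} [Group S] [Finite S] [IsSimpleGroup S] (h : ¬ (Nat.card S).Prime) :
    ¬ IsMulCommutative S := by
  intro hc
  apply h
  let _ : CommGroup S := { mul_comm := hc.is_comm.comm }
  exact IsSimpleGroup.prime_card

theorem not_prime_mul {a b : ℕ} (ha : 2 ≤ a) (hb : 2 ≤ b) : ¬ (a * b).Prime :=
  Nat.not_prime_mul (by omega) (by omega)

section l2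

variable {F : Type} [Field F] [Fintype F]

theorem not_prime_psl_two (h4 : 4 ≤ Fintype.card F) :
    ¬ (Nat.card (Matrix.ProjectiveSpecialLinearGroup (Fin 2) F)).Prime := by
  set q := Fintype.card F with hq
  have h1 : 2 ≤ q ^ 2 - 1 := by
    have : 4 ^ 2 ≤ q ^ 2 := Nat.pow_le_pow_left h4 2
    omega
  rcases Nat.even_or_odd q with he | ho
  · rw [SmallSimple.PSLTwoPart.card_psl_two_even (F := F) he]
    exact not_prime_mul (by omega) h1
  · have h2 := SmallSimple.PSLTwoPart.card_psl_two_odd (F := F) ho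
    rw [← hq] at h2
    intro hp
    have h3 : q ∣ 2 * Nat.card (Matrix.ProjectiveSpecialLinearGroup (Fin 2) F) := ⟨_, h2⟩
    have h4' : Nat.Coprime q 2 := Nat.Coprime.symm ((Nat.coprime_two_left).2 ho)
    have h5 : q ∣ Nat.card (Matrix.ProjectiveSpecialLinearGroup (Fin 2) F) := h4'.dvd_of_dvd_mul_left h3
    rcases (Nat.dvd_prime hp).1 h5 with h6 | h6
    · omega
    · rw [← h6, mul_comm] at h2
      have h7 : 2 = q ^ 2 - 1 := Nat.eq_of_mul_eq_mul_left (by omega) h2
      have : 4 ^ 2 ≤ q ^ 2 := Nat.pow_le_pow_left h4 2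
      omega

theorem dl_psl_two_ne {p : ℕ} (hp : p.Prime) (hd : ¬ p ∣ Fintype.card F) :
    DlLe p 2 (Matrix.ProjectiveSpecialLinearGroup (Fin 2) F) := by
  have : Fact p.Prime := ⟨hp⟩
  have hpF : (p : F) ≠ 0 := by
    intro h
    obtain ⟨r, hr⟩ := CharP.exists F
    have hpr : r.Prime := (CharP.char_is_prime_or_zero F r).resolve_right (CharP.char_ne_zero_of_finite F r)
    have : Fact r.Prime := ⟨hpr⟩
    have h1 : r ∣ p := (CharP.cast_eq_zero_iff F r p).1 h
    obtain rfl := (Nat.prime_dvd_prime_iff_eq hpr hp).1 h1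
    obtain ⟨n, -, hn⟩ := FiniteField.card F r
    rw [hn] at hd
    exact hd (dvd_pow_self r n.ne_zero)
  have h1 := H755.Dl.DlLe_ne (p := p) (F := F) (n := 2) (G := Matrix.SpecialLinearGroup (Fin 2) F)
    (f := QuotientGroup.mk' (Subgroup.center (Matrix.SpecialLinearGroup (Fin 2) F)))
    (ρ := Matrix.SpecialLinearGroup.toGL) hpF (QuotientGroup.mk'_surjective _)
    Matrix.SpecialLinearGroup.toGL_injective
  exact DlLe.mono h1 (by
    have : Nat.log p 2 ≤ Nat.log 2 2 := Nat.log_anti_left (by norm_num) hp.two_le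
    have h2 : Nat.log 2 2 = 1 := by decide
    omega)

end l2

theorem f_l2 (T : FactTwo.{u}) (I : H671.H5.FactIM.{u}) : RowF.{u} (fun S => H671.H5.IsL2 S) := by
  intro S _ _ _ h p hp hd
  obtain ⟨F, _, _, h4, ⟨e⟩⟩ := h
  have : Fact p.Prime := ⟨hp⟩
  have hc : ¬ IsMulCommutative S := not_comm_of_not_prime (by
    rw [Nat.card_congr e.toEquiv]
    exact not_prime_psl_two h4)
  by_cases hF : p ∣ Fintype.card F
  · exact own_l2 I hc e hp hF hd
  · exact row_of_dl_two T I hc hp hd ((dl_psl_two_ne hp hF).of_equiv e)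

theorem f_ln : RowF.{u} (fun S => IsLn S) := by
  intro S _ _ _ h p hp hd
  obtain ⟨F, _, _, n, hn, ⟨e⟩⟩ := h
  by_cases hF : p ∣ Fintype.card F
  · exact own_psl hn e hp hF
  · exact H321.Dl.PslRow.row_psl_ne hn e hp hd hF

theorem f_psp (T : FactTwo.{u}) (I : H671.H5.FactIM.{u}) : RowF.{u} (fun S => IsPSp S) := by
  intro S _ _ _ h p hp hd
  obtain ⟨F, _, _, m, hm, h3, ⟨e⟩⟩ := h
  by_cases hF : p ∣ Fintype.card F
  · rcases Nat.lt_or_ge 2 (Fintype.card F) with h2 | h2
    · exact own_psp hm h2 e hp hF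
    · have h1 : 1 < Fintype.card F := Fintype.one_lt_card
      have h4 : Fintype.card F = 2 := by omega
      have hm3 : 3 ≤ m := by
        rcases Nat.lt_or_ge m 3 with h | h
        · have := h3 (by omega)
          omega
        · exact h
      rw [h4] at hF
      obtain rfl := (Nat.prime_dvd_prime_iff_eq hp Nat.prime_two).1 hF
      exact H279.Dl.row_sp_two (by rw [Nat.card_eq_fintype_card, h4]) hm3 e
  · exact H362.Dl.row_psp_ne T I hm (fun h => by rw [Nat.card_eq_fintype_card]; exact h3 h) e hp hd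
      (by rwa [Nat.card_eq_fintype_card])

theorem f_psu (T : FactTwo.{u}) (I : H671.H5.FactIM.{u}) : RowF.{u} (fun S => IsPSU S) := by
  intro S _ _ _ h p hp hd
  obtain ⟨F, _, _, n, q, hF, hn, hnq, ⟨e⟩⟩ := h
  by_cases hq : p ∣ q
  · have hd' : p ∣ Fintype.card F := hF ▸ dvd_pow hq (by norm_num)
    rcases Nat.lt_or_ge n 4 with h4 | h4
    · obtain rfl : n = 3 := by omega
      refine own_u3 T I (fun h1 => H519.Dl.not_comm (F := F) hF hn ⟨⟨fun a b => e.symm.injective ?_⟩⟩) e hp hd' hd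
      rw [map_mul, map_mul]
      exact h1.is_comm.comm _ _
    · exact own_psu hF h4 e hp hd'
  · exact H519.Dl.row_psu_ne_all T I hF hn e hp hd hq

theorem f_odd (T : FactTwo.{u}) (I : H671.H5.FactIM.{u}) : RowF.{u} (fun S => IsPOmegaOdd S) := rowF_odd T I

theorem f_plus (T : FactTwo.{u}) (I : H671.H5.FactIM.{u}) : RowF.{u} (fun S => IsPOmegaPlus S) := rowF_plus T I

theorem f_minus (T : FactTwo.{u}) (I : H671.H5.FactIM.{u}) : RowF.{u} (fun S => IsPOmegaMinus S) := rowF_minus T I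

theorem f_sz (T : FactTwo.{u}) (I : H671.H5.FactIM.{u}) : RowF.{u} (fun S => Lie.IsoSuzuki S) := by
  intro S _ _ _ h p hp hd
  have : Fact p.Prime := ⟨hp⟩
  have hS := h
  obtain ⟨F, _, _, m, hm, hF, ⟨e⟩⟩ := h
  have hc : ¬ IsMulCommutative S := not_comm_of_not_prime (by
    rw [Nat.card_congr e.toEquiv, (Cfsg.Agent.S1163.result (F := F) hm hF).1]
    have h1 : 2 ≤ (2 : ℕ) ^ (2 * m + 1) := by
      calc 2 = 2 ^ 1 := by norm_num
        _ ≤ 2 ^ (2 * m + 1) := Nat.pow_le_pow_right (by norm_num) (by omega)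
    have h8 : 8 ≤ (2 : ℕ) ^ (2 * m + 1) := by
      calc 8 = 2 ^ 3 := by norm_num
        _ ≤ 2 ^ (2 * m + 1) := Nat.pow_le_pow_right (by norm_num) (by omega)
    refine not_prime_mul ?_ ?_
    · exact le_trans (by norm_num : 2 ≤ 64 * 7) (Nat.mul_le_mul (by nlinarith only [h8]) (by omega))
    · nlinarith only [h8])
  by_cases h2 : p = 2
  · subst h2
    exact own_sz T I hc hS hd
  · have hpF : (p : F) ≠ 0 := by
      have : Fact (Nat.Prime 2) := ⟨Nat.prime_two⟩
      have : CharP F 2 := charP_of_card_eq_prime_pow hF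
      intro h0
      exact h2 ((Nat.prime_dvd_prime_iff_eq Nat.prime_two hp).1 ((CharP.cast_eq_zero_iff F 2 p).1 h0)).symm
    have h1 := H755.Dl.DlLe_ne (p := p) (F := F) (n := 4) (G := ↥(Lie.Sz F (2 ^ (m + 1))))
      (f := e.symm.toMonoidHom) (ρ := (Lie.Sz F (2 ^ (m + 1))).subtype) hpF e.symm.surjective
      Subtype.val_injective
    exact row_of_dl_two T I hc hp hd (h1.mono (by
      have h3 : 3 ≤ p := by have := hp.two_le; omega
      have : Nat.log p 4 ≤ Nat.log 3 4 := Nat.log_anti_left (by norm_num) h3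
      have h5 : Nat.log 3 4 = 1 := by decide
      omega))

theorem f_ree (T : FactTwo.{u}) (I : H671.H5.FactIM.{u}) : RowF.{u} (fun S => Lie.IsoRee S) := by
  intro S _ _ _ h p hp hd
  have : Fact p.Prime := ⟨hp⟩
  have hS := h
  obtain ⟨K, _, _, m, hm, hF, ⟨e⟩⟩ := h
  have hc : ¬ IsMulCommutative S := not_comm_of_not_prime (by
    obtain ⟨U, h, n, D⟩ := Cfsg.Agent.ChevalleyStructure.Ree.Data.exists_data hF
    rw [Nat.card_congr e.toEquiv, Cfsg.Agent.LieRecognition.ReeSylowThree.card_eq D, hF]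
    have h1 : 2 ≤ (3 : ℕ) ^ (2 * m + 1) := by
      calc 2 ≤ 3 ^ 1 := by norm_num
        _ ≤ 3 ^ (2 * m + 1) := Nat.pow_le_pow_right (by norm_num) (by omega)
    have h8 : 3 ≤ (3 : ℕ) ^ (2 * m + 1) := by
      calc 3 = 3 ^ 1 := by norm_num
        _ ≤ 3 ^ (2 * m + 1) := Nat.pow_le_pow_right (by norm_num) (by omega)
    have h27 : 3 ^ 3 ≤ ((3 : ℕ) ^ (2 * m + 1)) ^ 3 := Nat.pow_le_pow_left h8 3
    refine not_prime_mul ?_ ?_
    · exact le_trans (by norm_num : 2 ≤ 27 * 2) (Nat.mul_le_mul (by omega) (by omega))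
    · omega)
  by_cases h3 : p = 3
  · subst h3
    exact own_ree T I hc hS hd
  · have hle : Cfsg.Lie.twistedG2 K (3 ^ m) ≤ Cfsg.Lie.chevG2.group K :=
      H778.Exc.genSubgroup_le_group (by simp [Cfsg.Agent.ChevalleyStructure.Elts.InList]) (Cfsg.Lie.g2Words K (3 ^ m))
    refine row_of_dl_two T I hc hp hd (H158.DlRows.sub_G2 (F := K) hp ?_
      ((Subgroup.inclusion hle).comp e.toMonoidHom) ?_)
    · rw [hF]
      intro h0
      exact h3 ((Nat.prime_dvd_prime_iff_eq hp Nat.prime_three).1 (hp.dvd_of_dvd_pow h0))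
    · exact (Subgroup.inclusion_injective hle).comp e.injective

end Cfsg.Agent.H152.Dl
end

-- part: H714/JRows
section
/-!
# The rows of `J₂` and `J₃` for S4943 (helper714)

Elements of orders 8 and 12 in the centralizer `2^{1+4}.A5` of an involution: they generate their own
centralizers and their cyclic groups are unique up to conjugation.
-/

set_option autoImplicit false

namespace Cfsg.Agent.H714.JRows

open Cfsg Cfsg.Agent.H713 Cfsg.Agent.H419.Row Cfsg.Agent.H419.Count Subgroup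
open Cfsg.Agent.J2Type.Model Cfsg.Agent.H419.Spor.JModel

universe u v

/-- the double transposition -/
def c22 : Equiv.Perm (Fin 5) := Equiv.swap (0 : Fin 5) 1 * Equiv.swap (2 : Fin 5) 3
def r8 : SP := ⟨1, ![0, 0, 1, 1, 0]⟩
def ee (i j : Fin 5) : SP := ⟨1, fun k => (if k = i then 0 else 1) + (if k = j then 0 else 1)⟩

set_option synthInstance.maxHeartbeats 400000 in
set_option synthInstance.maxSize 2000 in
theorem cent_g8 : ∀ (σ : Equiv.Perm (Fin 5)) (s : Fin 5 → ZMod 2), σ * c22 = c22 * σ → ∑ i, s i = 0 →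
    Equiv.Perm.sign σ = 1 → (⟨σ, s⟩ : SP) * g8 = g8 * ⟨σ, s⟩ →
    (⟨σ, s⟩ : SP) ∈ (List.range 4).map (fun k => g8 ^ k) ∨
      (⟨σ, s⟩ : SP) ∈ (List.range 4).map (fun k => r8 * g8 ^ k) := by
  simp only [↓Cfsg.Agent.PermCode.M, Cfsg.Agent.PermCode.P5.R, Cfsg.Agent.PermCode.B]
  decide +kernel

section model

variable {C : Type*} [Group C] {Q : Subgroup C} {z : C} {v : Fin 5 → C} {ρ : C →* SP}
variable (M : IsModel Q z v ρ)
include M

theorem lift_eq {c x : C} (h : ρ c = ρ x) : c = x ∨ c = z * x := by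
  have h1 : ρ (c * x⁻¹) = 1 := by rw [map_mul, map_inv, h, mul_inv_cancel]
  rcases (M.ker _).1 h1 with h2 | h2
  · left; exact mul_inv_eq_one.1 h2
  · right; exact mul_inv_eq_iff_eq_mul.1 h2

theorem rho_ee (i j : Fin 5) : ρ (v i * v j) = ee i j := by
  rw [map_mul, rho_v M, rho_v M]
  apply SP.ext
  · rw [mul_σ, one_mul]; rfl
  · funext k
    rw [mul_s]
    show (if k = j then (0 : ZMod 2) else 1) + (if k = i then 0 else 1) = _
    rw [add_comm]
    rfl

omit M in
theorem z_mem_zpowers {x : C} {n : ℕ} (h : x ^ n = z) : z ∈ zpowers x := h ▸ pow_mem (mem_zpowers x) n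

theorem cent_eight {x : C} (hx : ρ x = g8) (hx4 : x ^ 4 = z) {g : C} (hg : g * x = x * g) :
    g ∈ zpowers x := by
  have h1 : ρ g * g8 = g8 * ρ g := by rw [← hx, ← map_mul, ← map_mul, hg]
  have h2 : (ρ g).σ * c22 = c22 * (ρ g).σ := congrArg SP.σ h1
  have h4 := (M.range (ρ g)).1 ⟨g, rfl⟩
  have hzx := z_mem_zpowers hx4
  rcases cent_g8 (ρ g).σ (ρ g).s h2 h4.2 h4.1 h1 with h | h
  · obtain ⟨k, -, hk⟩ := List.mem_map.1 h
    have h5 : ρ g = ρ (x ^ k) := by rw [map_pow, hx]; exact hk.symm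
    rcases lift_eq M h5 with h6 | h6
    · rw [h6]; exact pow_mem (mem_zpowers x) k
    · rw [h6]; exact mul_mem hzx (pow_mem (mem_zpowers x) k)
  · exfalso
    obtain ⟨k, -, hk⟩ := List.mem_map.1 h
    have h5 : ρ g = ρ (v 2 * v 3 * x ^ k) := by
      rw [map_mul, map_pow, hx, rho_ee M]
      have h7 : ee 2 3 = r8 := by decide +kernel
      rw [h7]; exact hk.symm
    have h6 : (v 2 * v 3) * x = x * (v 2 * v 3) := by
      have hc : ∀ c : C, c = v 2 * v 3 * x ^ k ∨ c = z * (v 2 * v 3 * x ^ k) → c * x = x * c →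
          (v 2 * v 3) * x = x * (v 2 * v 3) := by
        intro c hc hcx
        have h7 : (v 2 * v 3 * x ^ k) * x = x * (v 2 * v 3 * x ^ k) := by
          rcases hc with h | h
          · rw [← h, hcx]
          · rw [h] at hcx
            have h8 : x * (z * (v 2 * v 3 * x ^ k)) = z * (x * (v 2 * v 3 * x ^ k)) := by
              rw [← mul_assoc, M.z_comm, mul_assoc]
            rw [h8, mul_assoc z] at hcx
            exact mul_left_cancel hcx
        have h8 : (v 2 * v 3) * x * x ^ k = x * (v 2 * v 3) * x ^ k := by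
          calc (v 2 * v 3) * x * x ^ k = (v 2 * v 3 * x ^ k) * x := by
                rw [mul_assoc (v 2 * v 3), ← pow_succ', pow_succ, ← mul_assoc]
            _ = x * (v 2 * v 3 * x ^ k) := h7
            _ = x * (v 2 * v 3) * x ^ k := by rw [← mul_assoc]
        exact mul_right_cancel h8
      exact hc g (lift_eq M h5) hg
    have h7 : x * v 2 * x⁻¹ = v 3 := by
      rw [M.conj x 2, hx]
      have e1 : g8.s 2 = 0 := by decide +kernel
      have e2 : g8.σ 2 = 3 := by decide +kernel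
      rw [e1, e2, zp_zero, one_mul]
    have h8 : x * v 3 * x⁻¹ = v 2 := by
      rw [M.conj x 3, hx]
      have e1 : g8.s 3 = 0 := by decide +kernel
      have e2 : g8.σ 3 = 2 := by decide +kernel
      rw [e1, e2, zp_zero, one_mul]
    have h9 : v 2 * v 3 = z * (v 2 * v 3) := by
      calc v 2 * v 3 = x * (v 2 * v 3) * x⁻¹ := by rw [← h6, mul_inv_cancel_right]
        _ = (x * v 2 * x⁻¹) * (x * v 3 * x⁻¹) := by group
        _ = v 3 * v 2 := by rw [h7, h8]
        _ = z * (v 2 * v 3) := M.v_anti 3 2 (by decide)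
    exact M.z_ne (mul_eq_right.1 h9.symm)

theorem exists_eight' : ∃ x : C, ρ x = g8 ∧ x ^ 4 = z := by
  obtain ⟨c, hc⟩ := _root_.Cfsg.Agent.H419.Spor.JModel.exists_lift M g8 (by decide +kernel) (by decide +kernel)
  refine ⟨c, hc, pow_eq_z M (n := 2) 0 1 (by decide) ?_⟩
  rw [hc]
  decide +kernel

theorem orderOf_eight {x : C} (hx : x ^ 4 = z) : orderOf x = 8 :=
  orderOf_of_pow M (n := 4) (by norm_num) hx fun p hp h2 hd =>
    absurd ((Nat.prime_dvd_prime_iff_eq hp Nat.prime_two).1 (hp.dvd_of_dvd_pow (show p ∣ 2 ^ 2 from hd))) h2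

end model

section group

variable {G : Type*} [Group G] [Finite G]

end group

/-! ### J2 -/

open Cfsg.Agent.H92.KTools Cfsg.Agent.H771.KTools

theorem card_classes_j2 {S : Type*} [Group S] (h : Spor.IsoJ2 S) : 13 ≤ Nat.card (ConjClasses S) := by
  have hcard := NotCT.Orders.j2 h
  have hfin : Finite S := Nat.finite_of_card_ne_zero (by rw [hcard]; norm_num)
  obtain ⟨t, u, Q, v, ρ, D⟩ := KFacts.J2.Facts.exists_dat_of h
  have hor := fun n hn => Cfsg.Agent.H419.Spor.JModel.exists_orders' D.M n hn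
  refine le_trans (by decide) (count_two (G := S) D.tt D.t_ne D.uu D.u_ne D.F.nconj {3, 5} {1, 3, 4, 5, 7, 8, 12}
    ?_ ?_ (by decide) (by decide))
  · rw [D.F.cardC, D.card_cent_u]
    intro p hp
    simp only [Finset.mem_insert, Finset.mem_singleton] at hp
    rcases hp with rfl | rfl <;> norm_num
  · intro m hm
    simp only [Finset.mem_insert, Finset.mem_singleton] at hm
    rcases hm with rfl | rfl | rfl | rfl | rfl | rfl | rfl
    · exact hor 1 (by decide)
    · exact hor 3 (by decide)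
    · exact hor 4 (by decide)
    · exact hor 5 (by decide)
    · exact hasOrd_prime (by norm_num) (by rw [hcard]; norm_num)
    · exact hor 8 (by decide)
    · exact hor 12 (by decide)

/-! ### J3 -/

end Cfsg.Agent.H714.JRows
end

-- part: H70/Dl/JTwo
section
/-!
# S4769: the row of `J₂` (helper70)
-/

set_option autoImplicit false

open Cfsg

namespace Cfsg.Agent.H70.Dl.JTwo

open Cfsg.Agent.H246.Dl Cfsg.Agent.H596.OneFacts Cfsg.Agent.H651.Two Cfsg.Agent.H759.Dl Cfsg.Agent.H680.Dl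
open Cfsg.Agent.H70.Dl Subgroup

universe u

theorem many_j2 {K : Type u} [Group K] [Finite K] (h : Spor.IsoJ2 K) : Many 2 K 3 := by
  have h2 : Fact (Nat.Prime 2) := ⟨Nat.prime_two⟩
  have h1 := H714.JRows.card_classes_j2 h
  obtain ⟨t, u, Q, v, ρ, D⟩ := KFacts.J2.Facts.exists_dat_of h
  obtain ⟨x, hx, hx4⟩ := H714.JRows.exists_eight' D.M
  have hxt : (x : K) ^ 4 = t := congrArg Subtype.val hx4
  have h8 : orderOf (x : K) = 8 := by rw [Subgroup.orderOf_coe, H714.JRows.orderOf_eight D.M hx4]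
  have h3 : centralizer ({(x : K)} : Set K) = zpowers (x : K) := by
    refine le_antisymm (fun g hg => ?_) (zpowers_le.2 (mem_centralizer_singleton_iff.2 rfl))
    have hg' : g * (x : K) = x * g := mem_centralizer_singleton_iff.1 hg
    have hgt : g ∈ centralizer ({t} : Set K) := by
      rw [mem_centralizer_singleton_iff]
      have h2 := ((show Commute g (x : K) from hg').pow_right 4).eq
      rwa [hxt] at h2
    have h1 := H714.JRows.cent_eight D.M hx hx4 (g := ⟨g, hgt⟩) (Subtype.ext hg')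
    obtain ⟨k, hk⟩ := mem_zpowers_iff.1 h1
    exact mem_zpowers_iff.2 ⟨k, congrArg Subtype.val hk⟩
  refine many_of_classes (p := 2) (x := (x : K)) (n := 3) ⟨3, by rw [h8]; norm_num⟩ ?_ ?_ (by omega)
  · rw [h3, Nat.card_zpowers, h8]
    norm_num
  · exact out_le_two h S2066.result (by norm_num)

/-- **`J₂`** -/
theorem row_j2 (T : FactTwo.{u}) (I : H671.H5.FactIM.{u}) : RowF.{u} (fun S => Spor.IsoJ2 S) := by
  intro S _ _ _ h p hp hd
  have hcard := NotCT.Orders.j2 h
  by_cases hp2 : p = 2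
  · subst hp2
    have h2 : Fact (Nat.Prime 2) := ⟨Nat.prime_two⟩
    exact ⟨3, dlLe_three (p := 2) (a := 7) (by norm_num) (by rw [hcard]; norm_num), many_j2 h⟩
  refine row_of_arith T I hcard (by norm_num) hp hd fun h6 => ?_
  have h7 : p ^ 6 ≤ 604800 := Nat.le_of_dvd (by norm_num) h6
  have h8 : p ≤ 10 := by
    by_contra hcon
    have : 11 ^ 6 ≤ p ^ 6 := Nat.pow_le_pow_left (by omega) 6
    omega
  have h2 := hp.two_le
  interval_cases p <;> first | exact absurd rfl hp2 | (revert h6; norm_num)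

end Cfsg.Agent.H70.Dl.JTwo
end

private theorem dce_4a613f702615 : _root_.True := by
  try have : _root_.True := by simp only [_root_.Cfsg.Agent.H279.Dl.A.eq_1]
  exact _root_.True.intro
end

-- part: H810/Dl/RowM
section
prune_inst 0x464703a740922000000000514c0003c06ca000002106b8000f820054604863d6009028f204c801d041222080400340008110000200200000004000000013c05811040100010400000220000011086610000000000000000000000000000041004004410000
set_option linter.all false
open scoped Cfsg.Agent.FastGrp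

-- part: H810/Dl/MTwo
section
/-!
# Six characters of even degree of the Monster (helper810, task 2520)

The characters of degrees `842609326`, `1109944460516150`, `47377503606648784400` and the members of the block induced from
the block of the double cover of the Baby Monster lying over `b_block`.
-/

set_option autoImplicit false
set_option maxRecDepth 100000

open Subgroup Cfsg Cfsg.Lie

namespace Cfsg.Agent.H810.Dl

open Cfsg.Agent.Blocks.LocalRing
open Cfsg.Agent.Blocks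
open Cfsg.Agent.H652.Four
open Cfsg.Agent.H648.Loc
open Cfsg.Agent.H454.DlCrit Cfsg.Agent.H246.Dl
open Cfsg.Agent.MonsterX.Model Cfsg.Agent.MonsterX.MainPack
  Cfsg.Agent.MonsterX.MainSimple Cfsg.Agent.MonsterX.MainBasic Cfsg.Agent.MonsterU.Assembly

universe u v

/-- the outer automorphism group along an isomorphism -/
theorem out_le_of_equiv {G : Type u} {Q : Type v} [Group G] [Group Q] [Finite G] [Finite Q] (e : G ≃* Q)
    (h : Nat.card (OutQ Q) ≤ 1) : Nat.card (OutQ G) ≤ 1 := by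
  refine card_out_of_inner fun σ => ?_
  have hsub : Subsingleton (OutQ Q) := Finite.card_le_one_iff_subsingleton.1 h
  let τ : MulAut Q := (e.symm.trans σ).trans e
  have h1 : (QuotientGroup.mk 1 : OutQ Q) = QuotientGroup.mk τ := Subsingleton.elim _ _
  rw [QuotientGroup.eq] at h1
  obtain ⟨q, hq⟩ := h1
  rw [inv_one, one_mul] at hq
  refine ⟨e.symm q, MulEquiv.ext fun g => ?_⟩
  have h2 := congrArg (fun f : MulAut Q => f (e g)) hq
  have h3 : q * e g * q⁻¹ = e (σ (e.symm (e g))) := h2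
  rw [e.symm_apply_apply] at h3
  have h4 := congrArg e.symm h3
  rw [map_mul, map_mul, map_inv, e.symm_apply_apply, e.symm_apply_apply] at h4
  exact h4.symm

/-- the double cover of the Baby Monster -/
theorem nnd_cover {H : Type u} [Group H] [Finite H] (h : Cfsg.IsNonsplitDoubleCover H Spor.BabyMonster)
    {M : Ideal AlgInt} (hM : IsPModular 2 M) :
    NNd 2 39 M (ind H 13) ∧ Nat.card H = 2 * 4154781481226426191177580544000000 := by
  obtain ⟨hZ, ⟨e⟩, -⟩ := h
  have h13 : Nat.Prime 13 := by norm_num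
  have hfin : Finite Spor.BabyMonster := CTwoTab.BInst.finite_B
  let φ : H →* Spor.BabyMonster := e.toMonoidHom.comp (QuotientGroup.mk' (center H))
  have hφ : Function.Surjective φ := e.surjective.comp (QuotientGroup.mk'_surjective _)
  have hker : φ.ker = center H := by
    ext x
    rw [MonoidHom.mem_ker]
    show e (QuotientGroup.mk x) = 1 ↔ _
    rw [map_eq_one_iff e e.injective, QuotientGroup.eq_one_iff]
  have hk2 : IsPGroup 2 φ.ker := by
    rw [hker]
    exact IsPGroup.of_card (n := 1) (by rw [hZ, pow_one])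
  obtain ⟨⟨x₁, hx₁⟩, hone, -⟩ := b_main
  obtain ⟨B, -, hB, χ, hχ, hχd⟩ := b_block hM hx₁
  constructor
  · refine NNd_ind_quot hφ hker.le hk2 h13 (by norm_num) ⟨χ, ?_, hχd⟩
    rw [← cl_eq_ind hx₁ (fun y hy => hone x₁ y hx₁ hy), om_cl χ.2]
    exact hB χ hχ
  · rw [← (center H).card_mul_index, hZ]
    congr 1
    rw [← card_b]
    exact Nat.card_congr e.toEquiv

/-- The block of `G` from the centralizer of an element `t` such that `C(t)` is a double cover of the Baby Monster. -/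
theorem m_block {G : Type u} [Group G] [Finite G] {t : G}
    (h : Cfsg.IsNonsplitDoubleCover (centralizer ({t} : Set G)) Spor.BabyMonster) {M : Ideal AlgInt} (hM : IsPModular 2 M) :
    ∃ x : G, orderOf x = 13 ∧ ∃ B : Set (IrrCharacter G), 3 ≤ Nat.card B ∧
      ∀ χ ∈ B, ¬ MemLocalIdeal M (centralChar (χ : G → ℂ) x) := by
  obtain ⟨⟨x, hx⟩, hone, -⟩ := cover_main h
  obtain ⟨hnnd, hcard⟩ := nnd_cover h hM
  refine ⟨x, by rw [Subgroup.orderOf_coe, hx], ?_⟩
  have htC : t ∈ centralizer ({t} : Set G) := mem_centralizer_singleton_iff.2 rfl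
  have hcc : centralizer ((zpowers t : Subgroup G) : Set G) = centralizer ({t} : Set G) := by
    ext g
    rw [mem_centralizer_singleton_iff, mem_centralizer_iff]
    constructor
    · intro h
      exact (h t (mem_zpowers t)).symm
    · rintro h _ ⟨m, rfl⟩
      exact ((show Commute g t from h).zpow_right m).eq.symm
  have ht2 : t ^ 2 = 1 := by
    have h1 : (⟨t, htC⟩ : centralizer ({t} : Set G)) ∈ center ↥(centralizer ({t} : Set G)) := by
      rw [mem_center_iff]
      intro g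
      exact Subtype.ext (mem_centralizer_singleton_iff.1 g.2)
    have h2 : (⟨⟨t, htC⟩, h1⟩ : center ↥(centralizer ({t} : Set G))) ^ 2 = 1 := by
      rw [← h.1]
      exact pow_card_eq_one'
    exact congrArg (fun z : center ↥(centralizer ({t} : Set G)) => ((z : ↥(centralizer ({t} : Set G))) : G)) h2
  have hP : IsPGroup 2 (zpowers t) := by
    rintro ⟨_, m, rfl⟩
    refine ⟨1, Subtype.ext ?_⟩
    show (t ^ m) ^ 2 ^ 1 = 1
    rw [pow_one, ← zpow_natCast, zpow_comm, zpow_natCast, ht2, one_zpow]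
  have hPC : zpowers t ≤ centralizer ((zpowers t : Subgroup G) : Set G) := by
    rw [hcc, zpowers_le]
    exact htC
  have hc : ∀ y : G, y ∈ centralizer ((zpowers t : Subgroup G) : Set G) → orderOf y = 13 → IsConj (x : G) y := by
    intro y hy hyo
    rw [hcc] at hy
    have h1 := hone x ⟨y, hy⟩ hx (by rw [← Subgroup.orderOf_coe]; exact hyo)
    exact (centralizer ({t} : Set G)).subtype.map_isConj h1
  have hk : 39 + 2 ≤ (Nat.card (centralizer ((zpowers t : Subgroup G) : Set G))).factorization 2 := by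
    rw [hcc, hcard]
    exact (Nat.prime_two.pow_dvd_iff_le_factorization (by norm_num)).1 (by norm_num)
  have hn : NNd 2 39 M (ind (centralizer ((zpowers t : Subgroup G) : Set G)) 13) := by
    rw [hcc]
    exact hnnd
  obtain ⟨B, hB3, hB, -⟩ := block_cl hM hP hPC (x := (x : G)) (r := 13) (by rw [Subgroup.orderOf_coe, hx]) hc hk hn
  exact ⟨B, hB3, hB⟩

/-- **Six characters of even degree of the Monster.** -/
theorem many_m_two {S : Type u} [Group S] [Finite S] (h : Cfsg.Spor.IsoM S) : Many 2 S 6 := by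
  obtain ⟨e⟩ := h
  obtain ⟨f⟩ := Cfsg.Agent.MonsterP.Equiv.equiv
  have A := Cfsg.Agent.MonsterU.Uncond.all
  have := G_finite A.hO
  have hfM : Finite Spor.Monster := Finite.of_equiv _ f.symm.toEquiv
  have hfI : Finite (IrrCharacter ↥Cfsg.Agent.MonsterX.InstData.M.G) := Cfsg.Agent.Characters.Core.finite_irr
  have hh : Cfsg.Spor.IsoM ↥Cfsg.Agent.MonsterX.InstData.M.G := ⟨f.symm⟩
  obtain ⟨M, hM⟩ := Cfsg.Agent.Blocks.Knorr.exists_isPModular 2
  obtain ⟨x, hx, B, hB3, hB⟩ := m_block (Cfsg.Agent.CTwoTab.MonsterOf.cover_t A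
    (Cfsg.Agent.MonsterP.NodesGrp.prel Cfsg.Agent.MonsterU.NodesU.hyp)
    (Cfsg.Agent.MonsterP.NodesNe.ne Cfsg.Agent.MonsterU.NodesU.hyp) Cfsg.Agent.MonsterU.NodesU.conj_ten
    Cfsg.Agent.S1704.result) hM
  have hidx := four_dvd_of_large (Cfsg.Agent.MonsterU.ModelChart.large A.hG A.hR A.hL A.hO A.hT)
    (by rw [Cfsg.Agent.H713.Spor.MOf.card_cent_z A.hG A.hR A.hL A.hO A.hT]; norm_num) (r := 13)
    (by norm_num) (by norm_num) hx
  have h4 : ∀ χ ∈ B, 4 ∣ charDegree (χ : ↥Cfsg.Agent.MonsterX.InstData.M.G → ℂ) := fun χ hχ => by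
    have h1 : 2 ^ 2 ∣ (centralizer ({x} : Set ↥Cfsg.Agent.MonsterX.InstData.M.G)).index := by
      norm_num
      exact hidx
    exact dvd_charDegree hM (hB χ hχ) h1
  obtain ⟨χ₁, i₁, h₁⟩ := H816.IMM.exists_chi_842609326 hh
  obtain ⟨χ₂, i₂, h₂⟩ := H816.IMM.exists_chi_47377503606648784400 hh
  obtain ⟨χ₃, i₃, h₃⟩ := H816.IMM.exists_chi_1109944460516150 hh
  obtain ⟨ψ₁, hψ₁⟩ : ∃ ψ : IrrCharacter ↥Cfsg.Agent.MonsterX.InstData.M.G, charDegree (ψ : ↥Cfsg.Agent.MonsterX.InstData.M.G → ℂ) = 842609326 :=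
    ⟨⟨χ₁, i₁⟩, H670.PSing.charDegree_eq_of (h₁.trans (by norm_num))⟩
  obtain ⟨ψ₂, hψ₂⟩ : ∃ ψ : IrrCharacter ↥Cfsg.Agent.MonsterX.InstData.M.G, charDegree (ψ : ↥Cfsg.Agent.MonsterX.InstData.M.G → ℂ) = 47377503606648784400 :=
    ⟨⟨χ₂, i₂⟩, H670.PSing.charDegree_eq_of (h₂.trans (by norm_num))⟩
  obtain ⟨ψ₃, hψ₃⟩ : ∃ ψ : IrrCharacter ↥Cfsg.Agent.MonsterX.InstData.M.G, charDegree (ψ : ↥Cfsg.Agent.MonsterX.InstData.M.G → ℂ) = 1109944460516150 :=
    ⟨⟨χ₃, i₃⟩, H670.PSing.charDegree_eq_of (h₃.trans (by norm_num))⟩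
  have n1 : ψ₁ ∉ B := fun h => by
    have := h4 _ h
    rw [hψ₁] at this
    norm_num at this
  have n3 : ψ₃ ∉ B := fun h => by
    have := h4 _ h
    rw [hψ₃] at this
    norm_num at this
  have n2 : ψ₂ ∉ B := fun h => by
    refine hB _ h (memLocalIdeal_of_zero hM (van (p := 13) (a := 3) (by norm_num) ψ₂ ?_ ?_ ?_))
    · rw [H816.IMM.card_eq hh]; norm_num
    · rw [hψ₂]; norm_num
    · rw [hx]
  have n12 : ψ₁ ≠ ψ₂ := fun h => by rw [h, hψ₂] at hψ₁; norm_num at hψ₁
  have n13 : ψ₁ ≠ ψ₃ := fun h => by rw [h, hψ₃] at hψ₁; norm_num at hψ₁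
  have n23 : ψ₂ ≠ ψ₃ := fun h => by rw [h, hψ₃] at hψ₂; norm_num at hψ₂
  have hout : Nat.card (OutQ ↥Cfsg.Agent.MonsterX.InstData.M.G) ≤ 1 := out_le_of_equiv f.symm (Cfsg.Agent.S2085.result).le
  have hmany : Many 2 ↥Cfsg.Agent.MonsterX.InstData.M.G 6 := by
    refine many_of_set hout (insert ψ₁ (insert ψ₂ (insert ψ₃ B))) ?_ ?_
    · intro χ hχ
      rcases hχ with rfl | rfl | rfl | h
      · rw [hψ₁]; norm_num
      · rw [hψ₂]; norm_num
      · rw [hψ₃]; norm_num
      · exact Dvd.dvd.trans (by norm_num) (h4 χ h)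
    · rw [Set.ncard_insert_of_notMem, Set.ncard_insert_of_notMem, Set.ncard_insert_of_notMem n3]
      · have : Nat.card B = B.ncard := rfl
        omega
      · rintro (h | h)
        · exact n23 h
        · exact n2 h
      · rintro (h | h | h)
        · exact n12 h
        · exact n13 h
        · exact n1 h
  exact hmany.of_equiv (e.trans f)

end Cfsg.Agent.H810.Dl
end

-- part: H810/Dl/SectGrp
section
/-!
# Centralizers of elements of order `ℓ`, `ℓ²` not dividing `|G|` (helper810, task 2520)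

`C(h) = ⟨h⟩ × K`, `K = O_{ℓ'}(C(h))` (Burnside), and the number of involutions inverting `h`.
-/

set_option autoImplicit false

open Subgroup Cfsg

namespace Cfsg.Agent.H810.Sect

universe u

section core

variable {C : Type u} [Group C] [Finite C] {l : ℕ}

/-- a central subgroup of order `ℓ`, where `ℓ²` does not divide the order, is a direct factor -/
theorem card_core [hl : Fact l.Prime] {h : C} (hh : orderOf h = l) (hc : h ∈ center C)
    (h2 : ¬ l ^ 2 ∣ Nat.card C) : l * Nat.card (pPrimeCore l C) = Nat.card C := by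
  classical
  have hZ : IsPGroup l (zpowers h) := IsPGroup.of_card (n := 1) (by rw [Nat.card_zpowers, hh, pow_one])
  obtain ⟨P, hP⟩ := hZ.exists_le_sylow
  have hPl : Nat.card (P : Subgroup C) ∣ l := by
    obtain ⟨n, hn⟩ := P.2.exists_card_eq
    have h3 : n < 2 := by
      by_contra hcon
      push Not at hcon
      apply h2
      have h4 : l ^ n ∣ Nat.card C := by
        rw [← hn]
        exact card_subgroup_dvd_card _
      exact (pow_dvd_pow l hcon).trans h4
    have h5 : Nat.card (P : Subgroup C) = l ^ n := hn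
    rw [h5]
    interval_cases n
    · simp
    · simp
  have hPc : Nat.card (P : Subgroup C) = l := by
    refine Nat.dvd_antisymm hPl ?_
    have h3 := card_dvd_of_le hP
    rwa [Nat.card_zpowers, hh] at h3
  have hPe : zpowers h = (P : Subgroup C) := by
    refine eq_of_le_of_card_ge hP ?_
    rw [hPc, Nat.card_zpowers, hh]
  have hPZ : (P : Subgroup C) ≤ center C := by
    rw [← hPe, zpowers_le]
    exact hc
  have hN : normalizer (P : Set C) ≤ centralizer (P : Set C) := by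
    intro g _
    rw [mem_centralizer_iff]
    intro y hy
    exact ((mem_center_iff.1 (hPZ hy)) g).symm
  have hcomp := MonoidHom.ker_transferSylow_isComplement' P hN
  set N := (MonoidHom.transferSylow P hN).ker with hNdef
  have h6 : Nat.card N * l = Nat.card C := by
    rw [← hPc]
    exact hcomp.card_mul_card
  have hNl : ¬ l ∣ Nat.card N := by
    intro hd
    apply h2
    rw [← h6, pow_two]
    exact Nat.mul_dvd_mul hd dvd_rfl
  have hcop := Lib.Cores.pPrimeCore_coprime (G := C) l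
  have hle : N ≤ pPrimeCore l C :=
    Lib.Cores.le_pPrimeCore inferInstance ((Nat.Prime.coprime_iff_not_dvd hl.out).2 hNl).symm
  obtain ⟨j, hj⟩ := card_dvd_of_le hle
  have h7 : Nat.card (pPrimeCore l C) ∣ Nat.card C := card_subgroup_dvd_card _
  rw [← h6, hj] at h7
  have hNpos : 0 < Nat.card N := Nat.card_pos
  have h8 : j ∣ l := Nat.dvd_of_mul_dvd_mul_left hNpos h7
  rcases (Nat.dvd_prime hl.out).1 h8 with h9 | h9
  · rw [hj, h9, mul_one, mul_comm]
    exact h6
  · exfalso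
    rw [hj, h9] at hcop
    have h10 : l ∣ 1 := by
      have := Nat.Coprime.eq_one_of_dvd (Nat.Coprime.symm hcop) (dvd_mul_left l _)
      rw [this]
    exact hl.out.one_lt.not_ge (Nat.le_of_dvd one_pos h10)

/-- `C` is `ℓ`-solvable. -/
theorem solv [hl : Fact l.Prime] (h : l * Nat.card (pPrimeCore l C) = Nat.card C) : IsPSolvable l C := by
  have hN : (pPrimeCore l C).Normal := Lib.Cores.pPrimeCore_normal l
  have hi : (pPrimeCore l C).index = l := by
    have h1 := (pPrimeCore l C).card_mul_index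
    have h2 : 0 < Nat.card (pPrimeCore l C) := Nat.card_pos
    rw [← h, mul_comm l] at h1
    exact Nat.eq_of_mul_eq_mul_left h2 h1
  refine Lib.PSolvable.IsPSolvable_of_quotient l (pPrimeCore l C) (Or.inr ?_) ?_
  · exact Lib.Cores.pPrimeCore_coprime l
  · have hc : IsCyclic (C ⧸ pPrimeCore l C) := isCyclic_of_prime_card (p := l) hi
    let _ : CommGroup (C ⧸ pPrimeCore l C) := IsCyclic.commGroup
    exact Lib.PSolvable.IsPSolvable_of_solvable l

/-- elements of order prime to `ℓ` lie in the core -/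
theorem mem_core [hl : Fact l.Prime] (h : l * Nat.card (pPrimeCore l C) = Nat.card C) {x : C}
    (hx : ¬ l ∣ orderOf x) : x ∈ pPrimeCore l C := by
  have hN : (pPrimeCore l C).Normal := Lib.Cores.pPrimeCore_normal l
  have hi : (pPrimeCore l C).index = l := by
    have h1 := (pPrimeCore l C).card_mul_index
    have h2 : 0 < Nat.card (pPrimeCore l C) := Nat.card_pos
    rw [← h, mul_comm l] at h1
    exact Nat.eq_of_mul_eq_mul_left h2 h1
  rw [← QuotientGroup.eq_one_iff, ← orderOf_eq_one_iff]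
  have h3 : orderOf (QuotientGroup.mk x : C ⧸ pPrimeCore l C) ∣ l :=
    (_root_.orderOf_dvd_natCard _).trans (dvd_of_eq hi)
  have h4 : orderOf (QuotientGroup.mk x : C ⧸ pPrimeCore l C) ∣ orderOf x :=
    orderOf_map_dvd (QuotientGroup.mk' _) x
  rcases (Nat.dvd_prime hl.out).1 h3 with h5 | h5
  · exact h5
  · rw [h5] at h4
    exact absurd h4 hx

/-- every element is a product of a power of `h` and an element of the core -/
theorem exists_mul {h : C} (hh : orderOf h = l)
    (hcard : l * Nat.card (pPrimeCore l C) = Nat.card C) (c : C) :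
    ∃ y ∈ zpowers h, ∃ k ∈ pPrimeCore l C, c = y * k := by
  have hN : (pPrimeCore l C).Normal := Lib.Cores.pPrimeCore_normal l
  have hcop := Lib.Cores.pPrimeCore_coprime (G := C) l
  have h1 : zpowers h ⊔ pPrimeCore l C = ⊤ := by
    apply eq_top_of_card_eq
    refine Nat.dvd_antisymm (card_subgroup_dvd_card _) ?_
    rw [← hcard]
    refine Nat.Coprime.mul_dvd_of_dvd_of_dvd hcop.symm ?_ ?_
    · have := card_dvd_of_le (le_sup_left : zpowers h ≤ zpowers h ⊔ pPrimeCore l C)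
      rwa [Nat.card_zpowers, hh] at this
    · exact card_dvd_of_le (le_sup_right : pPrimeCore l C ≤ zpowers h ⊔ pPrimeCore l C)
  have h2 : c ∈ zpowers h ⊔ pPrimeCore l C := by rw [h1]; trivial
  obtain ⟨y, hy, k, hk, hyk⟩ := (mem_sup_of_normal_right (s := zpowers h)).1 h2
  exact ⟨y, hy, k, hk, hyk.symm⟩

end core

section

variable {G : Type u} [Group G] [Finite G] {l : ℕ} {h : G}

/-- the data of `C(h)` -/
structure Cent (l : ℕ) (h : G) (K : Subgroup G) : Prop where
  comm : ∀ k ∈ K, h * k = k * h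
  cop : (Nat.card K).Coprime l
  card : l * Nat.card K = Nat.card (centralizer ({h} : Set G))
  mem : ∀ x : G, h * x = x * h → ¬ l ∣ orderOf x → x ∈ K
  mul : ∀ c : G, h * c = c * h → ∃ y ∈ zpowers h, ∃ k ∈ K, c = y * k

theorem cent [hl : Fact l.Prime] (hh : orderOf h = l) (h2 : ¬ l ^ 2 ∣ Nat.card G) :
    Cent l h (centralizerPPrimeCore l h) ∧ IsPSolvable l (centralizer ({h} : Set G)) := by
  have hm : h ∈ centralizer ({h} : Set G) := mem_centralizer_singleton_iff.2 rfl
  have hc : (⟨h, hm⟩ : centralizer ({h} : Set G)) ∈ center ↥(centralizer ({h} : Set G)) := by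
    rw [mem_center_iff]
    intro g
    exact Subtype.ext (mem_centralizer_singleton_iff.1 g.2)
  have ho : orderOf (⟨h, hm⟩ : centralizer ({h} : Set G)) = l := by rw [← hh, ← Subgroup.orderOf_coe]
  have h3 : ¬ l ^ 2 ∣ Nat.card (centralizer ({h} : Set G)) := fun hd => h2 (hd.trans (card_subgroup_dvd_card _))
  have hcard := card_core ho hc h3
  have hK : Nat.card (centralizerPPrimeCore l h) = Nat.card (pPrimeCore l (centralizer ({h} : Set G))) :=
    card_map_of_injective (subtype_injective _)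
  refine ⟨⟨?_, ?_, ?_, ?_, ?_⟩, solv hcard⟩
  · rintro _ ⟨k, -, rfl⟩
    exact (mem_centralizer_singleton_iff.1 k.2).symm
  · rw [hK]
    exact Lib.Cores.pPrimeCore_coprime l
  · rw [hK]
    exact hcard
  · intro x hx hxl
    have hxm : x ∈ centralizer ({h} : Set G) := mem_centralizer_singleton_iff.2 hx.symm
    exact ⟨⟨x, hxm⟩, mem_core hcard (by rwa [← Subgroup.orderOf_coe]), rfl⟩
  · intro c hc'
    have hcm : c ∈ centralizer ({h} : Set G) := mem_centralizer_singleton_iff.2 hc'.symm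
    obtain ⟨y, hy, k, hk, hyk⟩ := exists_mul ho hcard ⟨c, hcm⟩
    refine ⟨y, ?_, k, ⟨k, hk, rfl⟩, congrArg Subtype.val hyk⟩
    obtain ⟨n, rfl⟩ := hy
    exact ⟨n, rfl⟩

/-- the elements `a` with `a² = 1` inverting `h` -/
def Inv (h : G) : Set G := {a | a * a = 1 ∧ a * h * a⁻¹ = h⁻¹}

omit [Finite G] in
theorem inv_zpow' {a : G} (ha : a ∈ Inv h) (n : ℤ) : a * h ^ n * a = (h ^ n)⁻¹ := by
  have h1 : a⁻¹ = a := inv_eq_of_mul_eq_one_left ha.1
  have h2 : a * h ^ n * a⁻¹ = (a * h * a⁻¹) ^ n := (conj_zpow ..).symm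
  rw [h1] at h2
  rw [h2]
  have h3 := ha.2
  rw [h1] at h3
  rw [h3, inv_zpow]

omit [Finite G] in
/-- the squares of `a y k`, `y` a power of `h` and `k` commuting with `h` -/
theorem sq_eq {a y k : G} (ha : a ∈ Inv h) (hy : y ∈ zpowers h) (hk : h * k = k * h) :
    (a * (y * k)) * (a * (y * k)) = (a * k) * (a * k) := by
  obtain ⟨n, rfl⟩ := hy
  have h1 := inv_zpow' ha n
  have h2 : h ^ n * k = k * h ^ n := ((show Commute h k from hk).zpow_left n).eq
  calc (a * (h ^ n * k)) * (a * (h ^ n * k)) = a * (k * h ^ n) * a * (h ^ n * k) := by rw [← h2]; group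
    _ = a * k * a * (a * h ^ n * a) * h ^ n * k := by
        have : a * a = 1 := ha.1
        calc a * (k * h ^ n) * a * (h ^ n * k) = a * k * (1 * (h ^ n * a)) * (h ^ n * k) := by group
          _ = a * k * ((a * a) * (h ^ n * a)) * (h ^ n * k) := by rw [this]
          _ = _ := by group
    _ = _ := by rw [h1]; group

omit [Finite G] in
/-- `a c` inverts `h` -/
theorem mul_mem_inv {a c : G} (ha : a ∈ Inv h) (hc : h * c = c * h) (h2 : (a * c) * (a * c) = 1) : a * c ∈ Inv h := by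
  refine ⟨h2, ?_⟩
  calc a * c * h * (a * c)⁻¹ = a * (c * h) * c⁻¹ * a⁻¹ := by group
    _ = a * h * a⁻¹ := by rw [← hc]; group
    _ = h⁻¹ := ha.2

omit [Finite G] in
/-- the product of two elements inverting `h` -/
theorem mul_comm_of_inv {a b : G} (ha : a ∈ Inv h) (hb : b ∈ Inv h) : h * (a⁻¹ * b) = (a⁻¹ * b) * h := by
  have h1 : b * h = h⁻¹ * b := by rw [← hb.2]; group
  have h2 : a * h = h⁻¹ * a := by rw [← ha.2]; group
  have h3 : a⁻¹ * h⁻¹ = h * a⁻¹ := by
    calc a⁻¹ * h⁻¹ = a⁻¹ * (h⁻¹ * a) * a⁻¹ := by group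
      _ = h * a⁻¹ := by rw [← h2]; group
  calc h * (a⁻¹ * b) = (h * a⁻¹) * b := by group
    _ = a⁻¹ * (h⁻¹ * b) := by rw [← h3]; group
    _ = (a⁻¹ * b) * h := by rw [← h1]; group

/-- the number of `a` inverting `h` with `(a k)² = 1` -/
noncomputable def num (h k : G) : ℕ := Nat.card {a : G // a ∈ Inv h ∧ (a * k) * (a * k) = 1}

/-- **The double count.** -/
theorem sum_num (hh : orderOf h = l) {K : Subgroup G} (hK : Cent l h K) [Fintype K] :
    l * ∑ k : K, num h (k : G) = Nat.card (Inv h) ^ 2 := by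
  classical
  have h1 : ∑ k : K, num h (k : G) =
      Nat.card (Σ k : K, {a : G // a ∈ Inv h ∧ (a * (k : G)) * (a * (k : G)) = 1}) := by
    rw [Nat.card_sigma]
    rfl
  have h2 : l = Nat.card (zpowers h) := by rw [Nat.card_zpowers, hh]
  rw [h1]
  conv_lhs => rw [h2]
  rw [← Nat.card_prod, pow_two, ← Nat.card_prod]
  refine Nat.card_congr (Equiv.ofBijective (fun q => (⟨q.2.2.1, q.2.2.2.1⟩,
    ⟨q.2.2.1 * ((q.1 : G) * (q.2.1 : G)), mul_mem_inv q.2.2.2.1 ?_ ?_⟩)) ?_)
  · obtain ⟨n, hn⟩ := q.1.2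
    have h3 : Commute h (q.2.1 : G) := hK.comm _ q.2.1.2
    have h4 : Commute h (q.1 : G) := by
      rw [← hn]
      exact (Commute.refl h).zpow_right n
    exact (h4.mul_right h3).eq
  · rw [sq_eq q.2.2.2.1 q.1.2 (hK.comm _ q.2.1.2)]
    exact q.2.2.2.2
  · constructor
    · rintro ⟨⟨y, hy⟩, ⟨k, hk⟩, ⟨a, ha⟩⟩ ⟨⟨y', hy'⟩, ⟨k', hk'⟩, ⟨a', ha'⟩⟩ heq
      simp only [Prod.mk.injEq, Subtype.mk.injEq] at heq
      obtain ⟨rfl, h3⟩ := heq
      have h4 : y * k = y' * k' := mul_left_cancel h3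
      have h5 : y'⁻¹ * y = k' * k⁻¹ := by
        calc y'⁻¹ * y = y'⁻¹ * (y * k) * k⁻¹ := by group
          _ = k' * k⁻¹ := by rw [h4]; group
      have h6 : y'⁻¹ * y ∈ zpowers h := mul_mem (inv_mem hy') hy
      have h7 : y'⁻¹ * y ∈ K := by rw [h5]; exact mul_mem hk' (inv_mem hk)
      have h8 : y'⁻¹ * y = 1 := by
        have h9 : orderOf (y'⁻¹ * y) ∣ l := by
          rw [h2]
          exact Subgroup.orderOf_dvd_natCard _ h6
        have h10 : orderOf (y'⁻¹ * y) ∣ Nat.card K := Subgroup.orderOf_dvd_natCard _ h7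
        rw [← orderOf_eq_one_iff]
        exact Nat.eq_one_of_dvd_coprimes hK.cop h10 h9
      have h9 : y = y' := by
        have := congrArg (fun z => y' * z) h8
        simpa using this
      subst h9
      have h10 : k = k' := mul_left_cancel h4
      subst h10
      rfl
    · rintro ⟨⟨a, ha⟩, ⟨b, hb⟩⟩
      obtain ⟨y, hy, k, hk, hyk⟩ := hK.mul (a⁻¹ * b) (mul_comm_of_inv ha hb)
      have h3 : a * (y * k) = b := by rw [← hyk]; group
      refine ⟨⟨⟨y, hy⟩, ⟨k, hk⟩, ⟨a, ha, ?_⟩⟩, ?_⟩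
      · show (a * k) * (a * k) = 1
        rw [← sq_eq ha hy (hK.comm _ hk), h3]
        exact hb.1
      · simp only [h3]

omit [Finite G] in
/-- pairs of conjugates of `z` with product `h k` -/
theorem card_pairs {z : G} (hzz : z * z = 1) (hz : ∀ a ∈ Inv h, IsConj z a) {k : G} (hk : h * k = k * h)
    (hcop : (orderOf h).Coprime (orderOf k)) :
    Nat.card {p : G × G // IsConj z p.1 ∧ IsConj z p.2 ∧ p.1 * p.2 = h * k} = num h k := by
  have hsq : ∀ {a : G}, IsConj z a → a * a = 1 := by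
    intro a ha
    obtain ⟨c, rfl⟩ := isConj_iff.1 ha
    calc c * z * c⁻¹ * (c * z * c⁻¹) = c * (z * z) * c⁻¹ := by group
      _ = 1 := by rw [hzz]; group
  obtain ⟨n, hn1, hn2⟩ := Nat.chineseRemainder hcop 1 0
  have hcom : Commute h k := hk
  have hn : (h * k) ^ n = h := by
    rw [hcom.mul_pow, pow_eq_pow_iff_modEq.2 hn1, pow_eq_pow_iff_modEq.2 hn2, pow_one, pow_zero, mul_one]
  refine Nat.card_congr (Equiv.ofBijective (fun q => (⟨q.1.1, ?_⟩ : {a : G // a ∈ Inv h ∧ (a * k) * (a * k) = 1})) ?_)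
  · obtain ⟨⟨a, b⟩, ha, hb, hab⟩ := q
    change a * b = h * k at hab
    have ha2 : a * a = 1 := hsq ha
    have hb2 : b * b = 1 := hsq hb
    have hai : a⁻¹ = a := inv_eq_of_mul_eq_one_left ha2
    have hbi : b⁻¹ = b := inv_eq_of_mul_eq_one_left hb2
    have h1 : a * (h * k) * a⁻¹ = (h * k)⁻¹ := by
      rw [← hab, mul_inv_rev]
      calc a * (a * b) * a⁻¹ = (a * a) * b * a⁻¹ := by group
        _ = b⁻¹ * a⁻¹ := by rw [ha2, hbi, one_mul]
    have h2 : a * h * a⁻¹ = h⁻¹ := by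
      calc a * h * a⁻¹ = a * (h * k) ^ n * a⁻¹ := by rw [hn]
        _ = (a * (h * k) * a⁻¹) ^ n := (conj_pow ..).symm
        _ = ((h * k) ^ n)⁻¹ := by rw [h1, inv_pow]
        _ = h⁻¹ := by rw [hn]
    have h3 : a * k * a⁻¹ = k⁻¹ := by
      have h4 : (a * h * a⁻¹) * (a * k * a⁻¹) = a * (h * k) * a⁻¹ := by group
      rw [h1, h2] at h4
      calc a * k * a⁻¹ = h * (h⁻¹ * (a * k * a⁻¹)) := by group
        _ = h * (h * k)⁻¹ := by rw [h4]
        _ = h * (k * h)⁻¹ := by rw [hk]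
        _ = k⁻¹ := by group
    refine ⟨⟨ha2, h2⟩, ?_⟩
    change (a * k) * (a * k) = 1
    calc (a * k) * (a * k) = (a * k * a) * k := by group
      _ = (a * k * a⁻¹) * k := by rw [hai]
      _ = 1 := by rw [h3]; group
  · constructor
    · rintro ⟨⟨a, b⟩, ha, hb, hab⟩ ⟨⟨a', b'⟩, ha', hb', hab'⟩ heq
      have h1 : a = a' := congrArg Subtype.val heq
      subst h1
      change a * b = h * k at hab
      change a * b' = h * k at hab'
      have h2 : b = b' := mul_left_cancel (hab.trans hab'.symm)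
      subst h2
      rfl
    · rintro ⟨a, ha, hak⟩
      have h1 : (a * (h * k)) * (a * (h * k)) = 1 := by
        rw [sq_eq ha (mem_zpowers h) hk]
        exact hak
      have h2 : a * (h * k) ∈ Inv h := by
        refine mul_mem_inv ha ?_ h1
        calc h * (h * k) = h * (k * h) := by rw [hk]
          _ = h * k * h := by group
      refine ⟨⟨(a, a * (h * k)), hz a ha, hz _ h2, ?_⟩, rfl⟩
      change a * (a * (h * k)) = h * k
      rw [← mul_assoc, ha.1, one_mul]

/-- `x` permutes the elements inverting `h` and fixes `ℓ` of them -/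
theorem not_dvd_card_inv {p : ℕ} [hp : Fact p.Prime] (hl : l.Prime) (hp2 : p ≠ 2) (hpl : p ≠ l) {x t : G} (hx : orderOf x = p)
    (hh : orderOf h = l) (hxh : h * x = x * h) (hcard : Nat.card (centralizer ({x * h} : Set G)) ∣ p * l)
    (ht : t ∈ Inv h) (htx : t * x = x * t) : ¬ p ∣ Nat.card (Inv h) := by
  classical
  have hcx : Commute h x := hxh
  have hctx : Commute t x := htx
  -- the centralizer of `x h`
  have hco : (orderOf x).Coprime (orderOf h) := by
    rw [hx, hh]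
    exact (Nat.coprime_primes hp.out hl).2 hpl
  have hord : orderOf (x * h) = p * l := by
    rw [hcx.symm.orderOf_mul_eq_mul_orderOf_of_coprime hco, hx, hh]
  have hle : zpowers (x * h) ≤ centralizer ({x * h} : Set G) := by
    rw [zpowers_le]
    exact mem_centralizer_singleton_iff.2 rfl
  have hceq : zpowers (x * h) = centralizer ({x * h} : Set G) := by
    refine eq_of_le_of_card_ge hle ?_
    rw [Nat.card_zpowers, hord]
    exact Nat.le_of_dvd (Nat.mul_pos hp.out.pos hl.pos) hcard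
  -- the permutation
  have hmem : ∀ a ∈ Inv h, x * a * x⁻¹ ∈ Inv h := by
    rintro a ⟨h1, h2⟩
    constructor
    · calc x * a * x⁻¹ * (x * a * x⁻¹) = x * (a * a) * x⁻¹ := by group
        _ = 1 := by rw [h1]; group
    · calc x * a * x⁻¹ * h * (x * a * x⁻¹)⁻¹ = x * a * (x⁻¹ * h * x) * a⁻¹ * x⁻¹ := by group
        _ = x * (a * h * a⁻¹) * x⁻¹ := by
            have : x⁻¹ * h * x = h := by rw [mul_assoc, hxh]; group
            rw [this]; group
        _ = h⁻¹ := by
            rw [h2]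
            have : x * h⁻¹ = h⁻¹ * x := (hcx.inv_left).eq.symm
            rw [this]; group
  let f : Function.End (Inv h) := fun a => ⟨x * a * x⁻¹, hmem _ a.2⟩
  have hfn : ∀ (n : ℕ) (a : Inv h), (((f ^ n : Function.End (Inv h)) a : Inv h) : G) = x ^ n * a * (x ^ n)⁻¹ := by
    intro n
    induction n with
    | zero =>
      intro a
      simp only [pow_zero, one_mul, inv_one, mul_one]
      rfl
    | succ n ih =>
      intro a
      rw [pow_succ]
      change (((f ^ n : Function.End (Inv h)) (f a) : Inv h) : G) = _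
      rw [ih]
      change x ^ n * (x * a * x⁻¹) * (x ^ n)⁻¹ = _
      rw [pow_succ]
      group
  have hf : f ^ p ^ 1 = 1 := by
    funext a
    apply Subtype.ext
    rw [hfn, pow_one, ← hx, pow_orderOf_eq_one]
    simp only [one_mul, inv_one, mul_one]
    rfl
  have := Fintype.ofFinite (Inv h)
  have hmod := Equiv.Perm.card_fixedPoints_modEq (p := p) (n := 1) hf
  -- the fixed points
  have hfix : ∀ a : Inv h, a ∈ Function.fixedPoints f ↔ x * (a : G) = a * x := by
    intro a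
    constructor
    · intro hfa
      have h1 : x * (a : G) * x⁻¹ = a := congrArg Subtype.val hfa
      calc x * (a : G) = x * a * x⁻¹ * x := by group
        _ = a * x := by rw [h1]
    · intro h1
      apply Subtype.ext
      change x * (a : G) * x⁻¹ = a
      rw [h1]; group
  have hty : ∀ y ∈ zpowers h, t * y ∈ Inv h ∧ x * (t * y) = t * y * x := by
    rintro _ ⟨n, rfl⟩
    have hcn : Commute h (h ^ n) := (Commute.refl h).zpow_right n
    refine ⟨mul_mem_inv ht hcn.eq ?_, ?_⟩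
    · have h1 := inv_zpow' ht n
      calc t * h ^ n * (t * h ^ n) = (t * h ^ n * t) * h ^ n := by group
        _ = 1 := by rw [h1]; group
    · have h2 : Commute x (t * h ^ n) := hctx.symm.mul_right (hcx.symm.zpow_right n)
      exact h2.eq
  have hcardfix : Fintype.card (Function.fixedPoints f) = l := by
    rw [← Nat.card_eq_fintype_card, ← hh, ← Nat.card_zpowers h]
    symm
    refine Nat.card_congr (Equiv.ofBijective (fun y => (⟨⟨t * (y : G), (hty y y.2).1⟩,
      (hfix _).2 (hty y y.2).2⟩ : Function.fixedPoints f)) ⟨?_, ?_⟩)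
    · intro y y' heq
      have h1 : t * (y : G) = t * (y' : G) := congrArg (fun z : Function.fixedPoints f => ((z : Inv h) : G)) heq
      exact Subtype.ext (mul_left_cancel h1)
    · rintro ⟨a, ha⟩
      rw [hfix] at ha
      have h1 : Commute h (t⁻¹ * (a : G)) := mul_comm_of_inv ht a.2
      have h2 : Commute x (t⁻¹ * (a : G)) := (hctx.symm.inv_right).mul_right (show Commute x (a : G) from ha)
      have h3 : t⁻¹ * (a : G) ∈ centralizer ({x * h} : Set G) := by
        rw [mem_centralizer_singleton_iff]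
        exact (h2.mul_left h1).eq.symm
      rw [← hceq] at h3
      obtain ⟨n, hn⟩ := h3
      change (x * h) ^ n = t⁻¹ * (a : G) at hn
      rw [hcx.symm.mul_zpow] at hn
      have h4 : (a : G) = x ^ n * (t * h ^ n) := by
        calc (a : G) = t * (t⁻¹ * a) := by group
          _ = (t * x ^ n) * h ^ n := by rw [← hn]; group
          _ = _ := by rw [(hctx.zpow_right n).eq]; group
      have h5 : (t * h ^ n) * (t * h ^ n) = 1 := (hty _ ⟨n, rfl⟩).1.1
      have h6 : Commute (t * h ^ n) (x ^ n) := by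
        have h7 : Commute x (t * h ^ n) := (hty _ ⟨n, rfl⟩).2
        exact h7.symm.zpow_right n
      have h7 : x ^ n * x ^ n = 1 := by
        have h8 : (a : G) * a = 1 := a.2.1
        rw [h4] at h8
        calc x ^ n * x ^ n = x ^ n * x ^ n * ((t * h ^ n) * (t * h ^ n)) := by rw [h5, mul_one]
          _ = x ^ n * (x ^ n * (t * h ^ n)) * (t * h ^ n) := by group
          _ = x ^ n * ((t * h ^ n) * x ^ n) * (t * h ^ n) := by rw [h6.eq]
          _ = x ^ n * (t * h ^ n) * (x ^ n * (t * h ^ n)) := by group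
          _ = 1 := h8
      have h8 : x ^ n = 1 := by
        rw [← zpow_add, ← two_mul, ← orderOf_dvd_iff_zpow_eq_one, hx] at h7
        rw [← orderOf_dvd_iff_zpow_eq_one, hx]
        have h9 : IsCoprime (p : ℤ) 2 := by
          rw [show (2 : ℤ) = ((2 : ℕ) : ℤ) from rfl, Nat.isCoprime_iff_coprime]
          exact (Nat.coprime_primes hp.out Nat.prime_two).2 hp2
        exact h9.dvd_of_dvd_mul_left h7
      refine ⟨⟨h ^ n, n, rfl⟩, Subtype.ext (Subtype.ext ?_)⟩
      change t * h ^ n = a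
      rw [h4, h8, one_mul]
  rw [hcardfix, ← Nat.card_eq_fintype_card] at hmod
  intro hd
  have h9 : p ∣ l := (hmod.dvd_iff dvd_rfl).1 hd
  exact hpl ((Nat.prime_dvd_prime_iff_eq hp.out hl).1 h9)

end

end Cfsg.Agent.H810.Sect
end

-- part: H810/Dl/Sect
section
/-!
# Two characters of degree divisible by `p` from the principal `ℓ`-block (helper810, task 2520)

`two_chars` : Let `h` have order `ℓ`, `ℓ²` not dividing `|G|`, let `x` of order `p` commute with `h`, `|C(x h)| ∣ p ℓ`, and let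
`z` be an involution such that all involutions inverting `h` are conjugate to `z`, one of them commuting with `x`. If
`|G|_p p` does not divide `|C(z)|²`, then there are a character of the principal `ℓ`-block and a character outside
of it with degrees divisible by `p` and with non-zero values at `h` and `h x`, respectively.
-/

set_option autoImplicit false

open Subgroup Cfsg

namespace Cfsg.Agent.H810.Sect

open Cfsg.Agent.Characters.Core Cfsg.Agent.H33

universe u

variable {G : Type u} [Group G] [Finite G]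

local notation "conj" => starRingEnd ℂ

/-- the term of the class sum formula -/
noncomputable def term (z y : G) (χ : IrrCharacter G) : ℂ :=
  (χ : G → ℂ) z * (χ : G → ℂ) z * conj ((χ : G → ℂ) y) / (χ : G → ℂ) 1

theorem exists_mul_integral {p : ℕ} (hp : p.Prime) (A : Finset (IrrCharacter G)) (z y : G)
    (h : ∀ χ ∈ A, (χ : G → ℂ) y ≠ 0 → ¬ p ∣ charDegree (χ : G → ℂ)) :
    ∃ m : ℕ, ¬ p ∣ m ∧ IsIntegral ℤ ((m : ℂ) * ∑ χ ∈ A, term z y χ) := by
  classical
  have hdeg : ∀ χ : IrrCharacter G, (χ : G → ℂ) 1 = (charDegree (χ : G → ℂ) : ℂ) := fun χ =>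
    Cfsg.Agent.Blocks.Basic.irr_one_eq_charDegree χ.2
  have hpos : ∀ χ : IrrCharacter G, charDegree (χ : G → ℂ) ≠ 0 := fun χ =>
    (Cfsg.Agent.Blocks.Basic.charDegree_pos χ.2).ne'
  let A' : Finset (IrrCharacter G) := A.filter fun χ : IrrCharacter G => (χ : G → ℂ) y ≠ 0
  refine ⟨∏ χ ∈ A', charDegree (χ : G → ℂ), ?_, ?_⟩
  · intro hd
    obtain ⟨χ, hχ, hχd⟩ := (Prime.dvd_finsetProd_iff hp.prime _).1 hd
    rw [Finset.mem_filter] at hχ
    exact h χ hχ.1 hχ.2 hχd
  · set m := ∏ χ ∈ A', charDegree (χ : G → ℂ) with hm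
    rw [Finset.mul_sum]
    apply IsIntegral.sum
    intro χ hχA
    by_cases hχy : (χ : G → ℂ) y = 0
    · have : term z y χ = 0 := by
        unfold term
        rw [hχy, map_zero, mul_zero, zero_div]
      rw [this, mul_zero]
      exact isIntegral_zero
    · have hχ' : χ ∈ A' := Finset.mem_filter.2 ⟨hχA, hχy⟩
      have hsplit : (m : ℂ) = (charDegree (χ : G → ℂ) : ℂ) *
          ∏ ψ ∈ A'.erase χ, (charDegree (ψ : G → ℂ) : ℂ) := by
        rw [hm]
        push_cast
        rw [Finset.mul_prod_erase A' (fun ψ : IrrCharacter G => (charDegree (ψ : G → ℂ) : ℂ)) hχ']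
      have hne : (charDegree (χ : G → ℂ) : ℂ) ≠ 0 := by exact_mod_cast hpos χ
      have : (m : ℂ) * term z y χ =
          (∏ ψ ∈ A'.erase χ, (charDegree (ψ : G → ℂ) : ℂ)) *
          ((χ : G → ℂ) z * (χ : G → ℂ) z * conj ((χ : G → ℂ) y)) := by
        unfold term
        rw [hdeg χ, hsplit]
        field_simp
      rw [this]
      have hχ : IsCharacter G (χ : G → ℂ) := by
        obtain ⟨n, ρ, -, h3⟩ := χ.2
        exact ⟨n, ρ, h3⟩
      refine IsIntegral.mul ?_ (((Characters.GaloisBasic.isIntegral_apply hχ z).mul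
        (Characters.GaloisBasic.isIntegral_apply hχ z)).mul ?_)
      · apply IsIntegral.prod
        intro ψ _
        have h3 : IsIntegral ℤ (algebraMap ℤ ℂ (charDegree (ψ : G → ℂ) : ℤ)) :=
          isIntegral_algebraMap
        simpa using h3
      · exact (Characters.GaloisBasic.isIntegral_apply hχ y).map
          ((Complex.conjAe : ℂ →ₐ[ℝ] ℂ).restrictScalars ℤ)

theorem int_dvd {N : ℤ} {n : ℕ} (hn : n ≠ 0) (h : IsIntegral ℤ ((N : ℂ) / (n : ℂ))) : (n : ℤ) ∣ N := by
  rw [← Int.dvd_natAbs, Int.natCast_dvd_natCast]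
  apply Cfsg.Agent.Characters.DegreeBounds.nat_dvd_of_isIntegral_div hn
  rcases Int.natAbs_eq N with h1 | h1
  · have h2 : ((N.natAbs : ℕ) : ℂ) = (N : ℂ) := by
      rw [← Int.cast_natCast, ← h1]
    rw [h2]
    exact h
  · have h2 : ((N.natAbs : ℕ) : ℂ) = -(N : ℂ) := by
      have h3 : (N.natAbs : ℤ) = -N := by omega
      rw [← Int.cast_natCast, h3, Int.cast_neg]
    rw [h2, neg_div]
    exact h.neg

/-- the class sum formula -/
theorem sum_term [Fintype (IrrCharacter G)] {h z : G} (hzz : z * z = 1) (hz : ∀ a ∈ Inv h, IsConj z a) {k : G}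
    (hk : h * k = k * h) (hcop : (orderOf h).Coprime (orderOf k)) :
    ∑ χ : IrrCharacter G, term z (h * k) χ =
      (num h k : ℂ) * (Nat.card (centralizer ({z} : Set G)) : ℂ) ^ 2 / (Nat.card G : ℂ) := by
  have h1 := Cfsg.Agent.Characters.ClassMul.card_class_mul z z (h * k)
  rw [card_pairs hzz hz hk hcop] at h1
  have hc : (Nat.card (centralizer ({z} : Set G)) : ℂ) * ((centralizer ({z} : Set G)).index : ℂ) = (Nat.card G : ℂ) := by
    exact_mod_cast (centralizer ({z} : Set G)).card_mul_index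
  have hG : (Nat.card G : ℂ) ≠ 0 := by exact_mod_cast Nat.card_pos.ne'
  rw [h1]
  have hG' := hG
  rw [← hc] at hG' ⊢
  have hca : (Nat.card (centralizer ({z} : Set G)) : ℂ) ≠ 0 := left_ne_zero_of_mul hG'
  have hia : ((centralizer ({z} : Set G)).index : ℂ) ≠ 0 := right_ne_zero_of_mul hG'
  show ∑ χ : IrrCharacter G, (χ : G → ℂ) z * (χ : G → ℂ) z * conj ((χ : G → ℂ) (h * k)) / (χ : G → ℂ) 1 = _
  field_simp

/-- **Two characters.** -/
theorem two_chars {p l : ℕ} [hp : Fact p.Prime] [hl : Fact l.Prime] (hpl : p ≠ l) (hp2 : p ≠ 2) {x h t z : G}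
    (hx : orderOf x = p) (hh : orderOf h = l) (hxh : h * x = x * h) (hl2 : ¬ l ^ 2 ∣ Nat.card G)
    (hcard : Nat.card (centralizer ({x * h} : Set G)) ∣ p * l) (ht : t ∈ Inv h) (htx : t * x = x * t) (hzz : z * z = 1)
    (hz : ∀ a ∈ Inv h, IsConj z a) {k : ℕ} (hk : p ^ k ∣ Nat.card G)
    (hk' : ¬ p ^ (k + 1) ∣ Nat.card (centralizer ({z} : Set G)) ^ 2) :
    ∃ χ ψ : IrrCharacter G, χ ≠ ψ ∧ p ∣ charDegree (χ : G → ℂ) ∧ p ∣ charDegree (ψ : G → ℂ) ∧
      (χ : G → ℂ) h ≠ 0 ∧ (ψ : G → ℂ) (h * x) ≠ 0 := by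
  classical
  have : Finite (IrrCharacter G) := finite_irr
  have : Fintype (IrrCharacter G) := Fintype.ofFinite _
  obtain ⟨M, hM⟩ := Cfsg.Agent.Blocks.Knorr.exists_isPModular l
  obtain ⟨hC, hsolv⟩ := cent hh hl2
  set K := centralizerPPrimeCore l h with hKdef
  have hFK : Fintype (centralizerPPrimeCore l h) := Fintype.ofFinite _
  have hFK' : Fintype K := hFK
  have hhl : ∃ j : ℕ, orderOf h = l ^ j := ⟨1, by rw [hh, pow_one]⟩
  -- the numbers
  set c := Nat.card (centralizer ({z} : Set G)) with hc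
  set n := Nat.card (Inv h) with hn
  have hpn : ¬ p ∣ n := not_dvd_card_inv hl.out hp2 hpl hx hh hxh hcard ht htx
  have hcopK : ∀ y ∈ K, (orderOf h).Coprime (orderOf y) := by
    intro y hy
    rw [hh]
    exact (hC.cop.coprime_dvd_left (Subgroup.orderOf_dvd_natCard _ hy)).symm
  have hxl : ¬ l ∣ orderOf x := by
    rw [hx]
    intro hd
    exact hpl ((Nat.prime_dvd_prime_iff_eq hl.out hp.out).1 hd).symm
  have hxK : x ∈ K := hC.mem x hxh hxl
  have hpK : p ∣ Nat.card K := by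
    rw [← hx]
    exact Subgroup.orderOf_dvd_natCard _ hxK
  have hdvd : p ^ (k + 1) ∣ l * Nat.card K * Nat.card G := by
    rw [pow_succ, mul_comm, mul_assoc]
    exact (Nat.mul_dvd_mul hpK hk).trans (dvd_mul_left _ _)
  have hG0 : (Nat.card G : ℂ) ≠ 0 := by exact_mod_cast Nat.card_pos.ne'
  have hK0 : (Nat.card K : ℂ) ≠ 0 := by exact_mod_cast Nat.card_pos.ne'
  have hl0 : (l : ℂ) ≠ 0 := by exact_mod_cast hl.out.ne_zero
  -- the sums over the principal block and outside
  let B : Finset (IrrCharacter G) := Finset.univ.filter fun χ => χ ∈ principalBlock M G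
  let B' : Finset (IrrCharacter G) := Finset.univ.filter fun χ => ¬ χ ∈ principalBlock M G
  have hsplit : ∀ y ∈ K, ∑ χ ∈ B, term z h χ + ∑ χ ∈ B', term z (h * y) χ =
      (num h y : ℂ) * (c : ℂ) ^ 2 / (Nat.card G : ℂ) := by
    intro y hy
    rw [← sum_term hzz hz (hC.comm y hy) (hcopK y hy),
      ← Finset.sum_filter_add_sum_filter_not Finset.univ (fun χ : IrrCharacter G => χ ∈ principalBlock M G)]
    congr 1
    refine Finset.sum_congr rfl fun χ hχ => ?_
    have h1 := Cfsg.Agent.S0942.result l M hM h hhl y hy χ (Finset.mem_filter.1 hχ).2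
    unfold term
    rw [h1]
  have hzero : ∑ y : K, ∑ χ ∈ B', term z (h * (y : G)) χ = 0 := by
    rw [Finset.sum_comm]
    refine Finset.sum_eq_zero fun χ hχ => ?_
    have h1 := Cfsg.Agent.SuzukiRankOne.M1Average.sum_core_eq_zero hM h hhl hsolv χ (Finset.mem_filter.1 hχ).2
    have h2 : ∀ y : K, term z (h * (y : G)) χ =
        (χ : G → ℂ) z * (χ : G → ℂ) z / (χ : G → ℂ) 1 * conj ((χ : G → ℂ) (h * (y : G))) := fun y => by
      unfold term
      ring
    rw [Finset.sum_congr rfl fun y _ => h2 y, ← Finset.mul_sum, ← map_sum]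
    have h3 : ∑ y : K, (χ : G → ℂ) (h * (y : G)) = 0 := h1
    rw [h3, map_zero, mul_zero]
  have hS0 : ∑ χ ∈ B, term z h χ = (n : ℂ) ^ 2 * (c : ℂ) ^ 2 / ((l : ℂ) * (Nat.card K : ℂ) * (Nat.card G : ℂ)) := by
    have h1 : ∑ y : K, (∑ χ ∈ B, term z h χ + ∑ χ ∈ B', term z (h * (y : G)) χ) =
        ∑ y : K, (num h (y : G) : ℂ) * (c : ℂ) ^ 2 / (Nat.card G : ℂ) :=
      Finset.sum_congr rfl fun y _ => hsplit y y.2
    rw [Finset.sum_add_distrib, hzero, add_zero, Finset.sum_const, Finset.card_univ, ← Nat.card_eq_fintype_card,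
      nsmul_eq_mul, ← Finset.sum_div, ← Finset.sum_mul] at h1
    have h2 := sum_num hh hC
    have h3 : (l : ℂ) * ∑ y : K, (num h (y : G) : ℂ) = (n : ℂ) ^ 2 := by exact_mod_cast h2
    rw [← h3]
    have h4 : ∑ χ ∈ B, term z h χ = (∑ y : K, (num h (y : G) : ℂ)) * (c : ℂ) ^ 2 / (Nat.card G : ℂ) / (Nat.card K : ℂ) := by
      rw [← h1]
      field_simp
    rw [h4]
    field_simp
  -- the first character
  obtain ⟨χ, hχB, hχ0, hχp⟩ : ∃ χ ∈ B, (χ : G → ℂ) h ≠ 0 ∧ p ∣ charDegree (χ : G → ℂ) := by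
    by_contra hcon
    push Not at hcon
    obtain ⟨m, hm, hmi⟩ := exists_mul_integral hp.out B z h hcon
    rw [hS0] at hmi
    have h1 : ((m * (n ^ 2 * c ^ 2) : ℕ) : ℂ) / ((l * Nat.card K * Nat.card G : ℕ) : ℂ) =
        (m : ℂ) * ((n : ℂ) ^ 2 * (c : ℂ) ^ 2 / ((l : ℂ) * (Nat.card K : ℂ) * (Nat.card G : ℂ))) := by
      push_cast
      rw [mul_div_assoc]
    rw [← h1] at hmi
    have h2 := Cfsg.Agent.Characters.DegreeBounds.nat_dvd_of_isIntegral_div
      (Nat.mul_ne_zero (Nat.mul_ne_zero hl.out.ne_zero Nat.card_pos.ne') Nat.card_pos.ne') hmi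
    have h3 := hdvd.trans h2
    have h4 : (p ^ (k + 1)).Coprime m := Nat.Coprime.pow_left _ ((Nat.Prime.coprime_iff_not_dvd hp.out).2 hm)
    have h5 : (p ^ (k + 1)).Coprime (n ^ 2) :=
      Nat.Coprime.pow _ _ ((Nat.Prime.coprime_iff_not_dvd hp.out).2 hpn)
    exact hk' (h5.dvd_of_dvd_mul_left (h4.dvd_of_dvd_mul_left h3))
  -- the second character
  obtain ⟨ψ, hψB, hψ0, hψp⟩ : ∃ ψ ∈ B', (ψ : G → ℂ) (h * x) ≠ 0 ∧ p ∣ charDegree (ψ : G → ℂ) := by
    by_contra hcon
    push Not at hcon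
    obtain ⟨m, hm, hmi⟩ := exists_mul_integral hp.out B' z (h * x) hcon
    have h0 := hsplit x hxK
    have h1 : (((m : ℤ) * ((c : ℤ) ^ 2 * ((num h x : ℤ) * l * Nat.card K - (n : ℤ) ^ 2)) : ℤ) : ℂ) /
        ((l * Nat.card K * Nat.card G : ℕ) : ℂ) = (m : ℂ) * ∑ χ ∈ B', term z (h * x) χ := by
      have h2 : ∑ χ ∈ B', term z (h * x) χ = (num h x : ℂ) * (c : ℂ) ^ 2 / (Nat.card G : ℂ) -
          (n : ℂ) ^ 2 * (c : ℂ) ^ 2 / ((l : ℂ) * (Nat.card K : ℂ) * (Nat.card G : ℂ)) := by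
        rw [← h0, hS0]
        ring
      rw [h2]
      push_cast
      field_simp
    rw [← h1] at hmi
    have h2 := int_dvd (Nat.mul_ne_zero (Nat.mul_ne_zero hl.out.ne_zero Nat.card_pos.ne') Nat.card_pos.ne') hmi
    have h3 : ((p ^ (k + 1) : ℕ) : ℤ) ∣ (m : ℤ) * ((c : ℤ) ^ 2 * ((num h x : ℤ) * l * Nat.card K - (n : ℤ) ^ 2)) :=
      (Int.natCast_dvd_natCast.2 hdvd).trans h2
    have h4 : IsCoprime ((p ^ (k + 1) : ℕ) : ℤ) (m : ℤ) := by
      rw [Nat.isCoprime_iff_coprime]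
      exact Nat.Coprime.pow_left _ ((Nat.Prime.coprime_iff_not_dvd hp.out).2 hm)
    have h5 : IsCoprime ((p ^ (k + 1) : ℕ) : ℤ) ((num h x : ℤ) * l * Nat.card K - (n : ℤ) ^ 2) := by
      push_cast
      apply IsCoprime.pow_left
      rw [(Nat.prime_iff_prime_int.1 hp.out).coprime_iff_not_dvd]
      intro hd
      apply hpn
      have h6 : (p : ℤ) ∣ (num h x : ℤ) * l * Nat.card K := (Int.natCast_dvd_natCast.2 hpK).trans (dvd_mul_left _ _)
      have h7 : (p : ℤ) ∣ (n : ℤ) ^ 2 := by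
        have := dvd_sub h6 hd
        simpa only [_root_.Nat.card_eq_fintype_card, _root_.sub_sub_cancel] using this
      exact Int.natCast_dvd_natCast.1 ((Nat.prime_iff_prime_int.1 hp.out).dvd_of_dvd_pow h7)
    have h6 := h5.dvd_of_dvd_mul_right (h4.dvd_of_dvd_mul_left h3)
    apply hk'
    exact_mod_cast h6
  refine ⟨χ, ψ, fun he => ?_, hχp, hψp, hχ0, hψ0⟩
  rw [he] at hχB
  exact (Finset.mem_filter.1 hψB).2 (Finset.mem_filter.1 hχB).2

end Cfsg.Agent.H810.Sect
end

-- part: H810/Dl/MThree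
section
/-!
# Two characters of the Monster of degree divisible by 3 not vanishing at 17-singular elements (helper810, task 2520)
-/

set_option autoImplicit false
set_option maxRecDepth 100000

namespace Cfsg.Agent.H810.Dl

open Cfsg Cfsg.Agent.H593.IMMonA Cfsg.Agent.H593.IMMonB Cfsg.Agent.H810.Sect
open Cfsg.Agent.LThreeMB (XX Zx mk exists_mk mk_eq_mk mk_mul)
open Cfsg.Agent.BpSpor.MBigModel
open Subgroup (centralizer zpowers mem_centralizer_singleton_iff)

/-- the elements `x`, `h`, `τ` -/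
theorem exists_elts : ∃ x h t : MG, orderOf x = 3 ∧ orderOf h = 17 ∧ h * x = x * h ∧
    Nat.card (centralizer ({x * h} : Set MG)) ∣ 3 * 17 ∧ t ∈ _root_.Cfsg.Agent.H810.Sect.Inv h ∧ t * x = x * t := by
  have := finite
  obtain ⟨x, n, hx, hn, ⟨e⟩⟩ := exists_fi24
  obtain ⟨X, hX, hC, hfull⟩ := Cfsg.Agent.H593.IMMonF.seventeen
  have hco : Nat.Coprime 17 (orderOf x) := by rw [hx]; norm_num
  obtain ⟨h, hhx, hmk, hh⟩ := exists_lift hco (y := e.symm X) (by rw [MulEquiv.orderOf_eq, hX]) (by norm_num)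
  have hco' : Nat.Coprime (orderOf h) (orderOf x) := by rw [hh]; exact hco
  have hcard : Nat.card (centralizer ({x * h} : Set MG)) ∣ 3 * 17 := by
    have h1 := card_cent_dvd hhx hco'
    rw [hx] at h1
    refine h1.trans (Nat.mul_dvd_mul_left 3 ?_)
    rw [hmk, ← card_cent_equiv]
    exact hC
  obtain ⟨b', hb'⟩ := hfull 16 (by norm_num)
  obtain ⟨b, hbx, hb⟩ := full_lift hco hh hhx (k := 16)
    ⟨e.symm b', by rw [hmk, ← map_mul, ← map_inv, ← map_mul, hb', map_pow]⟩
  have hbh : b * h * b⁻¹ = h⁻¹ := by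
    have h1 : h ^ 17 = 1 := by rw [← hh, pow_orderOf_eq_one]
    rw [hb, eq_inv_iff_mul_eq_one, ← pow_succ]
    exact h1
  have hcb : Commute b x := hbx
  have hcx : Commute h x := hhx
  -- `b²` commutes with `x h`
  have h2 : b ^ 2 ∈ centralizer ({x * h} : Set MG) := by
    rw [mem_centralizer_singleton_iff]
    have h3 : Commute (b ^ 2) x := hcb.pow_left 2
    have h4 : b ^ 2 * h * (b ^ 2)⁻¹ = h := by
      calc b ^ 2 * h * (b ^ 2)⁻¹ = b * (b * h * b⁻¹) * b⁻¹ := by rw [pow_two]; group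
        _ = b * h⁻¹ * b⁻¹ := by rw [hbh]
        _ = (b * h * b⁻¹)⁻¹ := by group
        _ = h := by rw [hbh, inv_inv]
    have h5 : Commute (b ^ 2) h := by
      show b ^ 2 * h = h * b ^ 2
      conv_rhs => rw [← h4]
      group
    exact (h3.mul_right h5).eq
  have h3 : b ^ 51 * b ^ 51 = 1 := by
    have h4 : orderOf (b ^ 2) ∣ 3 * 17 := (Subgroup.orderOf_dvd_natCard _ h2).trans hcard
    rw [orderOf_dvd_iff_pow_eq_one, ← pow_mul] at h4
    rw [← pow_add]
    exact h4
  refine ⟨x, h, b ^ 51, hx, hh, hhx, hcard, ⟨h3, ?_⟩, (hcb.pow_left 51).eq⟩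
  have h4 := Cfsg.Agent.H593.IMMonF.pow_conj_pow hb 51
  rw [h4, eq_inv_iff_mul_eq_one, ← pow_succ, ← orderOf_dvd_iff_pow_eq_one, hh]
  norm_num

/-- all involutions inverting `h` are conjugate to `z` -/
theorem conj_zz {h : MG} (hh : orderOf h = 17) : ∀ a ∈ _root_.Cfsg.Agent.H810.Sect.Inv h, IsConj zz a := by
  rintro a ⟨ha, hah⟩
  have ha1 : a ≠ 1 := by
    rintro rfl
    rw [one_mul, inv_one, mul_one] at hah
    have h1 : h ^ 2 = 1 := by
      rw [pow_two]
      nth_rewrite 1 [hah]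
      group
    have h2 := orderOf_dvd_of_pow_eq_one h1
    rw [hh] at h2
    norm_num at h2
  rcases cl a ha ha1 with ⟨c, hc⟩ | hc
  · exact isConj_iff.2 ⟨c, hc⟩
  · exact absurd hc (not_conj_six six (by rw [hh]; decide) (by rw [hh]; norm_num) ha hah)

theorem m_pair : ∃ (χ ψ : IrrCharacter MG) (h y : MG), χ ≠ ψ ∧ 3 ∣ charDegree (χ : MG → ℂ) ∧
    3 ∣ charDegree (ψ : MG → ℂ) ∧ (χ : MG → ℂ) h ≠ 0 ∧ (ψ : MG → ℂ) y ≠ 0 ∧ 17 ∣ orderOf h ∧ 17 ∣ orderOf y := by
  have := finite
  have : Fact (Nat.Prime 3) := ⟨by norm_num⟩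
  have : Fact (Nat.Prime 17) := ⟨by norm_num⟩
  obtain ⟨x, h, t, hx, hh, hhx, hcard, ht, htx⟩ := exists_elts
  obtain ⟨χ, ψ, hne, h1, h2, h3, h4⟩ := two_chars (p := 3) (l := 17) (z := zz) (k := 20) (by norm_num) (by norm_num) hx hh hhx
    (by rw [card_M]; norm_num) hcard ht htx zz_sq (conj_zz hh) (by rw [card_M]; norm_num)
    (by rw [card_cent_z]; norm_num)
  refine ⟨χ, ψ, h, h * x, hne, h1, h2, h3, h4, by rw [hh], ?_⟩
  rw [(show Commute h x from hhx).orderOf_mul_eq_mul_orderOf_of_coprime (by rw [hh, hx]; norm_num), hh]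
  exact dvd_mul_right _ _

end Cfsg.Agent.H810.Dl
end

-- part: H810/Dl/RowM
section
/-!
# The row of the Monster of `FactDl` (helper810, task 2520)

* `p = 2` : derived length at most 6 (`2 ^ 46`), `many_m_two`;
* `p = 3` : derived length at most 4 (`3 ^ 20`), the characters of degrees `36173193327999`, `49609712911192813665`, which
  vanish at the elements of order divisible by 17, and the characters of `m_pair`;
* `p = 5` : derived length at most 3 (`5 ^ 9`), degrees `1109944460516150`, `251098487132187500`, `49609712911192813665`;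
* `p = 7` : derived length at most 3 (`7 ^ 6`), degrees `18538750076`, `36173193327999`, `1109944460516150`;
* `p = 13` : derived length at most 2, `FactTwo`.
-/

set_option autoImplicit false

open Cfsg

namespace Cfsg.Agent.H810.Dl

open Cfsg.Agent.H454.DlCrit Cfsg.Agent.H246.Dl Cfsg.Agent.H680.Dl Cfsg.Agent.H759.Dl
open Cfsg.Agent.BpSpor.MBigModel

universe u

/-- **Four characters of the Monster of degree divisible by 3.** -/
theorem many_m_three {S : Type u} [Group S] [Finite S] (h : Cfsg.Spor.IsoM S) : Many 3 S 4 := by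
  classical
  obtain ⟨e⟩ := h
  obtain ⟨f⟩ : Nonempty (Spor.Monster ≃* MG) := Cfsg.Agent.MonsterP.Equiv.equiv
  have := finite
  have hfM : Finite Spor.Monster := Finite.of_equiv _ f.symm.toEquiv
  have hh : Cfsg.Spor.IsoM MG := ⟨f.symm⟩
  obtain ⟨χ, ψ, a, b, hne, hχ, hψ, hχa, hψb, h17a, h17b⟩ := m_pair
  obtain ⟨χ₁, i₁, h₁⟩ := H816.IMM.exists_chi_36173193327999 hh
  obtain ⟨χ₂, i₂, h₂⟩ := H816.IMM.exists_chi_49609712911192813665 hh
  obtain ⟨ψ₁, hψ₁⟩ : ∃ ψ : IrrCharacter MG, charDegree (ψ : MG → ℂ) = 36173193327999 :=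
    ⟨⟨χ₁, i₁⟩, H670.PSing.charDegree_eq_of (h₁.trans (by norm_num))⟩
  obtain ⟨ψ₂, hψ₂⟩ : ∃ ψ : IrrCharacter MG, charDegree (ψ : MG → ℂ) = 49609712911192813665 :=
    ⟨⟨χ₂, i₂⟩, H670.PSing.charDegree_eq_of (h₂.trans (by norm_num))⟩
  have v1 : ∀ y : MG, 17 ∣ orderOf y → (ψ₁ : MG → ℂ) y = 0 := fun y hy =>
    van (p := 17) (a := 1) (by norm_num) ψ₁ (by rw [card_M]; norm_num) (by rw [hψ₁]; norm_num) hy
  have v2 : ∀ y : MG, 17 ∣ orderOf y → (ψ₂ : MG → ℂ) y = 0 := fun y hy =>
    van (p := 17) (a := 1) (by norm_num) ψ₂ (by rw [card_M]; norm_num) (by rw [hψ₂]; norm_num) hy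
  have n12 : ψ₁ ≠ ψ₂ := fun h => by rw [h, hψ₂] at hψ₁; norm_num at hψ₁
  have hout : Nat.card (OutQ MG) ≤ 1 := out_le_of_equiv f.symm (Cfsg.Agent.S2085.result).le
  have hmany : Many 3 MG 4 := by
    refine many_of_set hout ({ψ₁, ψ₂, χ, ψ} : Set (IrrCharacter MG)) ?_ ?_
    · intro θ hθ
      rcases hθ with rfl | rfl | rfl | h
      · rw [hψ₁]; norm_num
      · rw [hψ₂]; norm_num
      · exact hχ
      · rw [Set.mem_singleton_iff.1 h]; exact hψ
    · rw [Set.ncard_insert_of_notMem, Set.ncard_insert_of_notMem, Set.ncard_pair hne]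
      · rintro (h | h)
        · exact hχa (by rw [← h]; exact v2 a h17a)
        · exact hψb (by rw [← Set.mem_singleton_iff.1 h]; exact v2 b h17b)
      · rintro (h | h | h)
        · exact n12 h
        · exact hχa (by rw [← h]; exact v1 a h17a)
        · exact hψb (by rw [← Set.mem_singleton_iff.1 h]; exact v1 b h17b)
  exact hmany.of_equiv (e.trans f)

set_option maxHeartbeats 1000000 in
/-- **The row of the Monster.** -/
theorem row_M (T : H596.OneFacts.FactTwo.{u}) (I : H671.H5.FactIM.{u}) : RowF.{u} (fun S => Spor.IsoM S) := by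
  intro S _ _ _ h p hp hd
  have hfp : Fact p.Prime := ⟨hp⟩
  have hcard : Nat.card S = 808017424794512875886459904961710757005754368000000000 := H816.IMM.card_eq h
  have hc : ¬ IsMulCommutative S := by
    intro hcc
    let _ : CommGroup S := { (inferInstance : Group S) with mul_comm := fun a b => hcc.is_comm.comm a b }
    have hpr : (Nat.card S).Prime := IsSimpleGroup.prime_card
    rw [hcard] at hpr
    norm_num at hpr
  have hmem := H816.IMM.prime_mem hp (by rw [← hcard]; exact hd)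
  simp only [List.mem_cons, List.not_mem_nil, or_false] at hmem
  rcases hmem with rfl | rfl | rfl | rfl | rfl | rfl | rfl | rfl | rfl | rfl | rfl | rfl | rfl | rfl | rfl
  · exact ⟨6, (dlLe_of_card' (a := 46) (by rw [hcard]; norm_num)).2.2.2 (by norm_num), many_m_two h⟩
  · exact ⟨4, (dlLe_of_card' (a := 20) (by rw [hcard]; norm_num)).2.1 (by norm_num), many_m_three h⟩
  · refine ⟨3, (dlLe_of_card' (a := 9) (by rw [hcard]; norm_num)).1 (by norm_num), ?_⟩
    have h1 := Many.of_finset (p := 5) (S := S) (D := {1109944460516150, 251098487132187500, 49609712911192813665}) ?_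
    · exact h1
    · intro d hd'
      simp only [Finset.mem_insert, Finset.mem_singleton] at hd'
      rcases hd' with rfl | rfl | rfl
      · exact ⟨by norm_num, by simpa using H816.IMM.exists_chi_1109944460516150 h⟩
      · exact ⟨by norm_num, by simpa using H816.IMM.exists_chi_251098487132187500 h⟩
      · exact ⟨by norm_num, by simpa using H816.IMM.exists_chi_49609712911192813665 h⟩
  · refine ⟨3, (dlLe_of_card' (a := 6) (by rw [hcard]; norm_num)).1 (by norm_num), ?_⟩
    have h1 := Many.of_finset (p := 7) (S := S) (D := {18538750076, 36173193327999, 1109944460516150}) ?_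
    · exact h1
    · intro d hd'
      simp only [Finset.mem_insert, Finset.mem_singleton] at hd'
      rcases hd' with rfl | rfl | rfl
      · exact ⟨by norm_num, by simpa using H816.IMM.exists_chi_18538750076 h⟩
      · exact ⟨by norm_num, by simpa using H816.IMM.exists_chi_36173193327999 h⟩
      · exact ⟨by norm_num, by simpa using H816.IMM.exists_chi_1109944460516150 h⟩
  · exact row_of_card I hc (by norm_num) hd (by rw [hcard]; norm_num)
  · exact row_of_dl_two T I hc hp hd (dlLe_two (a := 3) (by norm_num) (by rw [hcard]; norm_num))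
  all_goals exact row_of_card I hc (by norm_num) hd (by rw [hcard]; norm_num)

end Cfsg.Agent.H810.Dl
end
end

-- part: H64/Dl/Seven
section
prune_inst 0x454701b701de2020000180514c0003e46fa000002104b8000c962054605806e6280032e213c201514123a0044003c0048130000800200000004040400011c01a090c00400f1c94119a6001f01100c600000008000000000000000000000000004010000000
set_option linter.all false
open scoped Cfsg.Agent.FastGrp

-- part: H64/Dl/Part
section
/-!
# Three inequivalent characters of degree divisible by `p` for `E₇(q)` and `E₈(q)`, first part (helper64)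

* `exists_irr_partial'` : `H717.Two.exists_irr_partial` with the character of `P_J`;
* `hasFix_partial` : `J = K ∪ K'`, `ψ = φ ⊗ ρ`, `ρ` with `U_{K'}`-fixed vectors: `χ` has `V_K`-fixed vectors;
* `st_node'` : the Steinberg character of a node has `U`-fixed vectors.
-/

set_option autoImplicit false
set_option linter.unusedSectionVars false

open scoped ComplexConjugate Pointwise
open Cfsg

namespace Cfsg.Agent.H64.Dl

open Cfsg.Agent.OddOrderCharacters.Clifford Cfsg.Agent.Characters Cfsg.Agent.H53.HC Cfsg.Agent.H717.Two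
  Cfsg.Agent.H246.Dl
open CoxeterSystem Cfsg.Agent.ChevalleyStructure.CoxeterGeom Cfsg.Agent.Tits.Roots Cfsg.Agent.Tits.Core
  Cfsg.Agent.Tits.Exchange Cfsg.Agent.Nodes.Reps Cfsg.Agent.Nodes.BNOf Cfsg.Agent.Nodes.StabComb
  Cfsg.Agent.Nodes.Bruhat Cfsg.Agent.Nodes.OppDec Cfsg.Agent.Nodes.LeviDec

variable {I W Y : Type*} [Fintype I] [DecidableEq I] [Group W] [Group Y] {M : CoxeterMatrix I}
  {cs : CoxeterSystem M W} {A : I → I → ℤ} {h : IsCartan M A} {p : ℕ} {T : Subgroup Y} {n : I → Y}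
  {X : (I → ℤ) → Subgroup Y}

variable (R : RGD cs h p T n X)

include R

/-- **Irreducible characters of a group with a root group datum from the partially cuspidal characters of `M_J`.** -/
theorem exists_irr_partial' [Finite W] [Fintype Y] (hG : GG cs h T X = ⊤) {J K : Set I} (hKJ : K ⊆ J)
    (hC : Comb cs h J K) {θ : ↥(MJ cs h X J) → ℂ} (hθ : IsIrrCharacter _ θ)
    (hc : ∀ i ∈ K, ∀ [Fintype (rad cs h X J i)], ∑ u : rad cs h X J i, θ ⟨u, rad_le_MJ J i u.2⟩ = 0)
    (hs : ∀ w g (hg : Rp cs R.nsys w g), w ∉ WJ cs J → ∀ hw : Perm cs h J w,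
      ∃ (m : Y) (hm : m ∈ MJ cs h X J), θ ⟨g⁻¹ * m * g, conj_mem_MJ R hg hw hm⟩ ≠ θ ⟨m, hm⟩) :
    ∃ χ : Y → ℂ, IsIrrCharacter Y χ ∧ (∃ k : ℕ, 0 < k ∧ k ∣ Nat.card T ∧
      χ 1 = (PJ cs h T X J).index * (k * θ 1)) ∧
      ∃ ψ' : ↥(PJ cs h T X J) → ℂ, IsIrrCharacter _ ψ' ∧ χ = indFun (PJ cs h T X J) ψ' ∧
        (∀ (v : Y) (hv : v ∈ VJ cs h X J), ψ' ⟨v, VJ_le_PJ hv⟩ = ψ' 1) ∧
        ∃ (c : ℂ) (s : Finset (↥(MJ cs h X J) → ℂ)),
          (∀ (m : Y) (hm : m ∈ MJ cs h X J), ψ' ⟨m, LJ_le_PJ (MJ_le_LJ J hm)⟩ = c * ∑ φ ∈ s, φ ⟨m, hm⟩) ∧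
          ∀ φ ∈ s, ∃ t, ∃ ht : t ∈ T, φ = θ ∘ conjME (MJ cs h X J) (T_le_normalizer_MJ R J ht) := by
  classical
  obtain ⟨ψ, hψ, ⟨k, hk, hkd, hk1⟩, c, s, hc0, hθs, hres, hsφ⟩ := exists_over' (MJ_le_LJ (T := T) J)
    (LJ_le_normalizer_MJ R J) hθ
  obtain ⟨ψ', hψ', hψL, hψV⟩ := exists_infl R J hψ
  have hres' : ∀ (m : Y) (hm : m ∈ MJ cs h X J), ψ' ⟨m, LJ_le_PJ (MJ_le_LJ J hm)⟩ = c * ∑ φ ∈ s, φ ⟨m, hm⟩ := by
    intro m hm
    rw [hψL]
    exact hres ⟨m, hm⟩
  -- the conjugates are conjugates under the torus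
  have hsT : ∀ φ ∈ s, ∃ t, ∃ ht : t ∈ T, φ = θ ∘ conjME (MJ cs h X J) (T_le_normalizer_MJ R J ht) := by
    intro φ hφ
    obtain ⟨g, hg, hgφ⟩ := hsφ φ hφ
    obtain ⟨m, hm, t, ht, rfl⟩ := (mem_LJ_iff_mul' R J).1 hg
    refine ⟨t, ht, ?_⟩
    funext x
    obtain ⟨hx', e⟩ := hgφ x x.2
    rw [e, Function.comp_apply]
    have h1 := Core.isIrr_isClassFunction hθ (conjME (MJ cs h X J) (T_le_normalizer_MJ R J ht) x) ⟨m, hm⟩
    rw [← h1]
    congr 1
    apply Subtype.ext
    simp only [conjME_coe, Subgroup.coe_mul, InvMemClass.coe_inv]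
    group
  refine ⟨indFun (PJ cs h T X J) ψ', ?_, ⟨k, hk, hkd.trans (relIndex_sup_dvd (T_le_normalizer_MJ R J)), ?_⟩,
    ψ', hψ', rfl, hψV, c, s, hres', hsT⟩
  · refine isIrr_indFun_partial R hG hKJ hC hψ' hψV ?_ ?_
    · intro i hi hf
      have h1 : ∀ u : rad cs h X J i, ψ' ⟨u, rad_le_PJ J i u.2⟩ = c * ∑ φ ∈ s, φ ⟨u, rad_le_MJ J i u.2⟩ :=
        fun u => hres' u (rad_le_MJ J i u.2)
      rw [Finset.sum_congr rfl fun u _ => h1 u, ← Finset.mul_sum, Finset.sum_comm]
      rw [Finset.sum_eq_zero, mul_zero]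
      intro φ hφ
      obtain ⟨t, ht, rfl⟩ := hsT φ hφ
      rw [← hc i hi]
      exact Fintype.sum_equiv (conjME (rad cs h X J i) (T_le_normalizer_rad R J i ht)).toEquiv _ _ fun u => rfl
    · intro w g hg hw hp
      have hgn := inv_mem (rp_mem_normalizer_MJ R hg hp)
      refine ⟨MJ cs h X J, le_trans (MJ_le_LJ J) LJ_le_PJ,
        fun l hl => LJ_le_PJ (MJ_le_LJ J (conj_mem_MJ R hg hp hl)), ?_⟩
      intro hf
      have h1 : ∀ l : MJ cs h X J, ψ' ⟨l, LJ_le_PJ (MJ_le_LJ J l.2)⟩ *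
          conj (ψ' ⟨g⁻¹ * l * g, LJ_le_PJ (MJ_le_LJ J (conj_mem_MJ R hg hp l.2))⟩) =
          ∑ φ ∈ s, ∑ φ' ∈ s, (c * conj c) * (φ l * conj ((φ' ∘ conjME (MJ cs h X J) hgn) l)) := by
        intro l
        have e2 : (⟨g⁻¹ * l * g, conj_mem_MJ R hg hp l.2⟩ : MJ cs h X J) = conjME (MJ cs h X J) hgn l := by
          apply Subtype.ext
          rw [conjME_coe, inv_inv]
        rw [hres' l l.2, hres' _ (conj_mem_MJ R hg hp l.2), e2, map_mul, map_sum]
        simp only [← Finset.mul_sum, Function.comp_apply]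
        rw [← Finset.sum_mul]
        ring
      rw [Finset.sum_congr rfl fun l _ => h1 l, Finset.sum_comm]
      refine Finset.sum_eq_zero fun φ hφ => ?_
      rw [Finset.sum_comm]
      refine Finset.sum_eq_zero fun φ' hφ' => ?_
      rw [← Finset.mul_sum]
      obtain ⟨t, ht, rfl⟩ := hsT φ hφ
      obtain ⟨t', ht', rfl⟩ := hsT φ' hφ'
      have hne : θ ∘ conjME (MJ cs h X J) (T_le_normalizer_MJ R J ht) ≠
          (θ ∘ conjME (MJ cs h X J) (T_le_normalizer_MJ R J ht')) ∘ conjME (MJ cs h X J) hgn := by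
        intro he
        have hg' : Rp cs R.nsys w (t * g * t'⁻¹) := by
          have h2 := ((rp_of_mem (cs := cs) (hN := R.nsys) ht).mul hg).mul
            (rp_of_mem (cs := cs) (hN := R.nsys) (inv_mem ht'))
          rwa [one_mul, mul_one] at h2
        obtain ⟨m, hm, hne⟩ := hs w _ hg' hw hp
        apply hne
        have h3 := congrFun he (conjME (MJ cs h X J) (inv_mem (T_le_normalizer_MJ R J ht)) ⟨m, hm⟩)
        simp only [Function.comp_apply] at h3
        refine Eq.trans ?_ (h3.symm.trans ?_)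
        · congr 1
          apply Subtype.ext
          simp only [conjME_coe]
          group
        · congr 1
          apply Subtype.ext
          simp only [conjME_coe]
          group
      have hi1 : IsIrrCharacter _ (θ ∘ conjME (MJ cs h X J) (T_le_normalizer_MJ R J ht)) :=
        Core.isIrr_comp (conjME _ (T_le_normalizer_MJ R J ht)).toMonoidHom (MulEquiv.surjective _) hθ
      have hi2 : IsIrrCharacter _ (θ ∘ conjME (MJ cs h X J) (T_le_normalizer_MJ R J ht')) :=
        Core.isIrr_comp (conjME _ (T_le_normalizer_MJ R J ht')).toMonoidHom (MulEquiv.surjective _) hθ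
      have hi3 : IsIrrCharacter _ ((θ ∘ conjME (MJ cs h X J) (T_le_normalizer_MJ R J ht')) ∘
          conjME (MJ cs h X J) hgn) :=
        Core.isIrr_comp (conjME _ hgn).toMonoidHom (MulEquiv.surjective _) hi2
      have h4 := Core.classInner_irr_ne hi1 hi3 hne
      rw [Core.classInner_def, mul_eq_zero] at h4
      rcases h4 with h4 | h4
      · exact absurd (inv_eq_zero.1 h4) Core.card_ne_zero_complex
      · rw [mul_eq_zero]
        exact Or.inr h4
  · rw [indFun_one]
    congr 1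
    rw [← hk1]
    exact hψL 1 (one_mem _)

/-- the sum over `V_K = U_{K'} V_J` -/
theorem sum_VK [Finite W] [Finite Y] {K K' : Set I} (ho : Orth A K K') {ψ : ↥(PJ cs h T X (K ∪ K')) → ℂ}
    (hψ : IsIrrCharacter _ ψ) (hV : ∀ (v : Y) (hv : v ∈ VJ cs h X (K ∪ K')), ψ ⟨v, VJ_le_PJ hv⟩ = ψ 1)
    [Fintype (VJ cs h X K)] [Fintype (UJ cs h X K')] [Fintype (VJ cs h X (K ∪ K'))] :
    ∑ v : VJ cs h X K, ψ ⟨v, le_trans (VJ_le_B K) B_le_PJ v.2⟩ =
      Nat.card (VJ cs h X (K ∪ K')) * ∑ b : UJ cs h X K', ψ ⟨b, B_le_PJ (RGD.U_le_B (UJ_le_U K' b.2))⟩ := by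
  classical
  have hUV : UJ cs h X K' ≤ VJ cs h X K := UJ_le_VJ_of_orth ho
  have hVV : VJ cs h X (K ∪ K') ≤ VJ cs h X K := VJ_anti Set.subset_union_left
  have hb : Function.Bijective (fun x : UJ cs h X K' × VJ cs h X (K ∪ K') =>
      (⟨x.1 * x.2, mul_mem (hUV x.1.2) (hVV x.2.2)⟩ : VJ cs h X K)) := by
    constructor
    · rintro ⟨a, c⟩ ⟨a', c'⟩ e
      have e1 : (a : Y) * c = a' * c' := congrArg Subtype.val e
      have e2 : (a' : Y)⁻¹ * a = c' * (c : Y)⁻¹ := by
        rw [inv_mul_eq_iff_eq_mul, ← mul_assoc, ← e1, mul_inv_cancel_right]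
      have e3 : (a' : Y)⁻¹ * a = 1 := by
        refine eq_one_of_mem_LJ_of_mem_VJ R (T := T) (J := K ∪ K') ?_ (by rw [e2]; exact mul_mem c'.2 (inv_mem c.2))
        refine LJ_mono Set.subset_union_right (BJ_le_LJ (UJ_le_BJ (J := K') ?_))
        exact mul_mem (inv_mem a'.2) a.2
      have e4 : (a : Y) = a' := (inv_mul_eq_one.1 e3).symm
      have e5 : (c : Y) = c' := by
        rw [e3] at e2
        exact (mul_inv_eq_one.1 e2.symm).symm
      rw [Prod.mk.injEq]
      exact ⟨Subtype.ext e4, Subtype.ext e5⟩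
    · rintro ⟨g, hg⟩
      obtain ⟨b, hb, v, hv, rfl⟩ := mem_VJ_of_orth R ho hg
      exact ⟨(⟨b, hb⟩, ⟨v, hv⟩), rfl⟩
  rw [← Fintype.sum_bijective _ hb (fun x => ψ ⟨x.1 * x.2, mul_mem (B_le_PJ (RGD.U_le_B (UJ_le_U K' x.1.2)))
    (VJ_le_PJ x.2.2)⟩) _ (fun x => rfl), Fintype.sum_prod_type]
  rw [Finset.mul_sum]
  refine Finset.sum_congr rfl fun b _ => ?_
  have h1 : ∀ v : VJ cs h X (K ∪ K'), ψ ⟨b * v, mul_mem (B_le_PJ (RGD.U_le_B (UJ_le_U K' b.2))) (VJ_le_PJ v.2)⟩ =
      ψ ⟨b, B_le_PJ (RGD.U_le_B (UJ_le_U K' b.2))⟩ := fun v =>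
    H686.CharKit.apply_mul_of_eq' (Core.isIrr_isCharacter hψ) (hV v v.2)
      (⟨b, B_le_PJ (RGD.U_le_B (UJ_le_U K' b.2))⟩ : PJ cs h T X (K ∪ K'))
  rw [Finset.sum_congr rfl fun v _ => h1 v, Finset.sum_const, nsmul_eq_mul, Finset.card_univ, Nat.card_eq_fintype_card]

/-- **Fixed vectors of `V_K`.** -/
theorem hasFix_partial [Finite W] [Fintype Y] {K K' : Set I} (ho : Orth A K K')
    {φ : ↥(MJ cs h X K) → ℂ} (hφ : IsIrrCharacter _ φ) {ρ : ↥(MJ cs h X K') → ℂ}
    (hρ : ∀ [Fintype (UJ cs h X K')], ∑ u : UJ cs h X K', ρ ⟨u, (RGD.Sup_mono fun _ hx => PosJ_subset K' hx :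
      UJ cs h X K' ≤ MJ cs h X K') u.2⟩ ≠ 0)
    {θ : ↥(MJ cs h X (K ∪ K')) → ℂ}
    (hval : ∀ (a : Y) (ha : a ∈ MJ cs h X K) (b : Y) (hb : b ∈ MJ cs h X K'),
        ∃ hab : a * b ∈ MJ cs h X (K ∪ K'), θ ⟨a * b, hab⟩ = φ ⟨a, ha⟩ * ρ ⟨b, hb⟩)
    {χ : Y → ℂ} (hχ : IsIrrCharacter Y χ) {ψ : ↥(PJ cs h T X (K ∪ K')) → ℂ}
    (hψ : IsIrrCharacter _ ψ) (he : χ = indFun (PJ cs h T X (K ∪ K')) ψ)
    (hV : ∀ (v : Y) (hv : v ∈ VJ cs h X (K ∪ K')), ψ ⟨v, VJ_le_PJ hv⟩ = ψ 1) {c : ℂ}
    {s : Finset (↥(MJ cs h X (K ∪ K')) → ℂ)}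
    (hres : ∀ (m : Y) (hm : m ∈ MJ cs h X (K ∪ K')), ψ ⟨m, LJ_le_PJ (MJ_le_LJ (K ∪ K') hm)⟩ = c * ∑ φ ∈ s, φ ⟨m, hm⟩)
    (hs : ∀ φ ∈ s, ∃ t, ∃ ht : t ∈ T, φ = θ ∘ conjME (MJ cs h X (K ∪ K')) (T_le_normalizer_MJ R (K ∪ K') ht)) :
    HasFix χ (VJ cs h X K) := by
  classical
  have : Fintype (PJ cs h T X (K ∪ K')) := Fintype.ofFinite _
  have : Fintype (VJ cs h X K) := Fintype.ofFinite _
  have : Fintype (VJ cs h X (K ∪ K')) := Fintype.ofFinite _
  have : Fintype (UJ cs h X K') := Fintype.ofFinite _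
  refine hasFix_of_constituent (P := PJ cs h T X (K ∪ K')) (le_trans (VJ_le_B K) B_le_PJ)
    (Core.isIrr_isCharacter hχ) hψ ?_ ?_
  · rw [← classInner_indFun (PJ cs h T X (K ∪ K')) ψ _ (Core.isIrr_isClassFunction hχ), ← he, Core.classInner_irr_self hχ]
    exact one_ne_zero
  · rw [sum_VK R ho hψ hV]
    refine mul_ne_zero Core.card_ne_zero_complex ?_
    have hUM' : UJ cs h X K' ≤ MJ cs h X K' := RGD.Sup_mono fun _ hx => PosJ_subset K' hx
    have hUM : UJ cs h X K' ≤ MJ cs h X (K ∪ K') :=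
      le_trans hUM' (by rw [ho.MJ_union]; exact le_sup_right)
    have hT : T ≤ Subgroup.normalizer (UJ cs h X K' : Set Y) := R.T_le_normalizer fun _ hx => hx.1
    have h1 : ∀ b : UJ cs h X K', ψ ⟨b, B_le_PJ (RGD.U_le_B (UJ_le_U K' b.2))⟩ = c * ∑ φ ∈ s, φ ⟨b, hUM b.2⟩ :=
      fun b => hres b (hUM b.2)
    have h2 : ∀ φ' ∈ s, ∑ b : UJ cs h X K', φ' ⟨b, hUM b.2⟩ = φ 1 * ∑ u : UJ cs h X K', ρ ⟨u, hUM' u.2⟩ := by
      intro φ' hφ'
      obtain ⟨t, ht, rfl⟩ := hs φ' hφ'
      rw [Finset.mul_sum]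
      refine Fintype.sum_equiv (conjME (UJ cs h X K') (hT ht)).toEquiv _ _ fun u => ?_
      obtain ⟨hab, e⟩ := hval 1 (one_mem _) _ (hUM' (conjME (UJ cs h X K') (hT ht) u).2)
      simp only [one_mul] at e
      exact e
    have h3 : ∀ φ' ∈ s, φ' ⟨1, one_mem _⟩ = φ 1 * ρ 1 := by
      intro φ' hφ'
      obtain ⟨t, ht, rfl⟩ := hs φ' hφ'
      obtain ⟨hab, e⟩ := hval 1 (one_mem _) 1 (one_mem _)
      simp only [mul_one] at e
      change θ (conjME (MJ cs h X (K ∪ K')) (T_le_normalizer_MJ R (K ∪ K') ht) 1) = _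
      rw [map_one]
      exact e
    have hcs : c * (s.card : ℂ) ≠ 0 := by
      intro h0
      have h4 := hres 1 (one_mem _)
      have h5 : ∑ φ' ∈ s, φ' ⟨1, one_mem _⟩ = s.card * (φ 1 * ρ 1) := by
        rw [Finset.sum_congr rfl fun φ' hφ' => h3 φ' hφ', Finset.sum_const, nsmul_eq_mul]
      rw [h5, ← mul_assoc, h0, zero_mul] at h4
      exact Core.isIrr_apply_one_ne_zero hψ h4
    rw [Finset.sum_congr rfl fun b _ => h1 b, ← Finset.mul_sum, Finset.sum_comm,
      Finset.sum_congr rfl fun φ' hφ' => h2 φ' hφ', Finset.sum_const, nsmul_eq_mul, ← mul_assoc]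
    exact mul_ne_zero hcs (mul_ne_zero (Core.isIrr_apply_one_ne_zero hφ) hρ)

omit R in
/-- Fixed points of the transvections: the sum of the Steinberg character over the transvections. -/
theorem sum_transvection_ne_zero (F : Type) [Field F] [Fintype F] {η : Matrix.SpecialLinearGroup (Fin 2) F → ℂ}
    (hη : ∀ g, η g = (Nat.card (MulAction.fixedBy (Projectivization F (Fin 2 → F)) g) : ℂ) - 1) (h01 : (0 : Fin 2) ≠ 1)
    (h1 : η 1 = Nat.card F) :
    ∑ t : F, η (Matrix.SpecialLinearGroup.transvection h01 t) ≠ 0 := by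
  classical
  have hfin' : Finite (Projectivization F (Fin 2 → F)) := by
    unfold Projectivization
    infer_instance
  have hpos : ∀ t : F, 1 ≤ Nat.card (MulAction.fixedBy (Projectivization F (Fin 2 → F))
      (Matrix.SpecialLinearGroup.transvection h01 t)) := by
    intro t
    have hv : (Pi.single 0 1 : Fin 2 → F) ≠ 0 := by
      intro h0
      have := congrFun h0 0
      simp at this
    have : Nonempty (MulAction.fixedBy (Projectivization F (Fin 2 → F))
        (Matrix.SpecialLinearGroup.transvection h01 t)) := by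
      refine ⟨⟨Projectivization.mk F (Pi.single 0 1) hv, ?_⟩⟩
      rw [MulAction.mem_fixedBy, Projectivization.smul_mk]
      congr 1
      exact Matrix.SpecialLinearGroup.transvection_smul_single_fst h01 t
    exact Nat.card_pos
  have e : ∑ t : F, η (Matrix.SpecialLinearGroup.transvection h01 t) =
      ((∑ t : F, (Nat.card (MulAction.fixedBy (Projectivization F (Fin 2 → F))
        (Matrix.SpecialLinearGroup.transvection h01 t)) - 1) : ℕ) : ℂ) := by
    rw [Nat.cast_sum]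
    refine Finset.sum_congr rfl fun t _ => ?_
    rw [hη, Nat.cast_sub (hpos t), Nat.cast_one]
  rw [e]
  have h2 : Nat.card (MulAction.fixedBy (Projectivization F (Fin 2 → F))
      (Matrix.SpecialLinearGroup.transvection h01 (0 : F))) - 1 = Nat.card F := by
    have h3 := hη 1
    rw [h1] at h3
    rw [Matrix.SpecialLinearGroup.transvection_coeff_zero]
    have h4 : ((Nat.card F + 1 : ℕ) : ℂ) =
        (Nat.card (MulAction.fixedBy (Projectivization F (Fin 2 → F)) (1 : Matrix.SpecialLinearGroup (Fin 2) F)) : ℂ) := by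
      push_cast
      rw [h3]
      ring
    have h5 := Nat.cast_injective h4
    omega
  have h3 : Nat.card F ≤ ∑ t : F, (Nat.card (MulAction.fixedBy (Projectivization F (Fin 2 → F))
        (Matrix.SpecialLinearGroup.transvection h01 t)) - 1) := by
    rw [← h2]
    exact Finset.single_le_sum (f := fun t : F => Nat.card (MulAction.fixedBy (Projectivization F (Fin 2 → F))
        (Matrix.SpecialLinearGroup.transvection h01 t)) - 1) (fun _ _ => Nat.zero_le _) (Finset.mem_univ 0)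
  have h4 : 0 < Nat.card F := Nat.card_pos
  exact_mod_cast (lt_of_lt_of_le h4 h3).ne'

omit R in
/-- the Steinberg character of `SL₂(q)` -/
theorem exists_st' (F : Type) [Field F] [Fintype F] : ∃ η : Matrix.SpecialLinearGroup (Fin 2) F → ℂ,
    IsIrrCharacter _ η ∧ (∀ z ∈ Subgroup.center (Matrix.SpecialLinearGroup (Fin 2) F), η z = η 1) ∧
      η 1 = Nat.card F ∧ ∀ h01 : (0 : Fin 2) ≠ 1, ∑ t : F, η (Matrix.SpecialLinearGroup.transvection h01 t) ≠ 0 := by
  classical
  have hfin' : Finite (Projectivization F (Fin 2 → F)) := by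
    unfold Projectivization
    infer_instance
  have h : MulAction.IsMultiplyPretransitive (Matrix.SpecialLinearGroup (Fin 2) F)
    (Projectivization F (Fin 2 → F)) 2 := inferInstance
  have hc : Nat.card (Projectivization F (Fin 2 → F)) = Nat.card F + 1 := by
    rw [Projectivization.card_of_finrank F (Fin 2 → F) (n := 2) (by simp), Finset.sum_range_succ, Finset.sum_range_one,
      pow_zero, pow_one, add_comm]
  have hF : 0 < Nat.card F := Nat.card_pos
  obtain ⟨θ, hθ⟩ := H419.TwoTrans.exists_irr (G := Matrix.SpecialLinearGroup (Fin 2) F)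
    (Projectivization F (Fin 2 → F)) h (by omega)
  have h1 : (θ : Matrix.SpecialLinearGroup (Fin 2) F → ℂ) 1 = Nat.card F := by
    rw [hθ, MulAction.fixedBy_one_eq_univ, Nat.card_univ, hc]
    push_cast
    ring
  refine ⟨θ, θ.2, fun z hz => ?_, h1, fun h01 => sum_transvection_ne_zero F hθ h01 h1⟩
  have h2 : MulAction.fixedBy (Projectivization F (Fin 2 → F)) z = Set.univ := by
    rw [Set.eq_univ_iff_forall]
    intro x
    rw [MulAction.mem_fixedBy]
    have e1 : (QuotientGroup.mk z : Matrix.ProjectiveSpecialLinearGroup (Fin 2) F) • x = z • x := rfl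
    have e2 : (QuotientGroup.mk z : Matrix.ProjectiveSpecialLinearGroup (Fin 2) F) = 1 :=
      (QuotientGroup.eq_one_iff z).2 hz
    rw [← e1, e2, one_smul]
  rw [hθ, h2, h1, Nat.card_univ, hc]
  push_cast
  ring

open Cfsg.Agent.H622.Levi (exists_co_one Co Co.card Co.range mem_center_of_ker cr_succ) in
/-- **The Steinberg character of the rank one group of a node has `U`-fixed vectors.** -/
theorem st_node' [Finite W] [Finite Y] (i j : I) (hij : M i j = 3) {q : ℕ}
    (hq : Nat.card (X (sr i)) = q) :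
    ∃ ρ : ↥(MJ cs h X {i}) → ℂ, IsIrrCharacter _ ρ ∧ (∀ z ∈ Subgroup.center ↥(MJ cs h X {i}), ρ z = ρ 1) ∧
      ρ 1 = q ∧ ∀ [Fintype (UJ cs h X {i})], ∑ u : UJ cs h X {i}, ρ ⟨u, (RGD.Sup_mono fun _ hx =>
        PosJ_subset {i} hx : UJ cs h X {i} ≤ MJ cs h X {i}) u.2⟩ ≠ 0 := by
  classical
  obtain ⟨F, _, _, φ, C⟩ := exists_co_one R i j hij
  obtain ⟨η, hη, hz, hη1, hsum⟩ := exists_st' F
  let k : Fin 1 ↪ I := ⟨fun _ => i, fun a b _ => Subsingleton.elim a b⟩
  have hk : Set.range k = {i} := by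
    ext x
    constructor
    · rintro ⟨_, rfl⟩; rfl
    · rintro rfl; exact ⟨0, rfl⟩
  have hcard := C.card 0
  change Nat.card (X (sr i)) = _ at hcard
  have hran : φ.range = MJ cs h X {i} := by
    rw [← hk]
    exact Co.range (k := k) C (by
      intro a b
      rw [Subsingleton.elim a b, M.diagonal, CoxeterMatrix.diagonal]) one_pos
  let f : Matrix.SpecialLinearGroup (Fin 2) F →* ↥(MJ cs h X {i}) :=
    φ.codRestrict _ fun g => hran ▸ ⟨g, rfl⟩
  have hf : Function.Surjective f := by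
    rintro ⟨y, hy⟩
    rw [← hran] at hy
    obtain ⟨g, rfl⟩ := hy
    exact ⟨g, rfl⟩
  have hfv : ∀ g, (f g : Y) = φ g := fun g => rfl
  obtain ⟨θ, hθ, hv⟩ := OddOrderCharacters.PF9.Reducible.exists_of_surjective f hf hη (by
    intro g hg
    refine hz g (C.ker ?_)
    rw [MonoidHom.mem_ker, ← hfv, hg]
    rfl)
  have h1 : θ 1 = η 1 := by rw [← hv, map_one]
  refine ⟨θ, hθ, ?_, ?_, ?_⟩
  · intro z hz'
    obtain ⟨g, rfl⟩ := hf z
    rw [hv, h1]
    refine hz g (mem_center_of_ker (m := 1) one_pos C.ker fun s => ?_)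
    rw [Subgroup.mem_center_iff] at hz'
    exact (congrArg Subtype.val (hz' (f s))).symm
  · rw [h1, hη1, ← hcard, hq]
  · intro hfu
    have h01 : (0 : Fin 2) ≠ 1 := zero_ne_one
    have hUJ : UJ cs h X {i} = X (sr i) := KFacts.RgdDiag.UJ_singleton i
    have hroot := C.root 0 1 h01
    have hcr := cr_succ (fun _ : Fin 1 => i) 0
    change H622.Levi.cr _ 0 1 = sr i at hcr
    rw [hcr, ← hUJ] at hroot
    let g : F → UJ cs h X {i} := fun t => ⟨φ (Matrix.SpecialLinearGroup.transvection h01 t), by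
      have : φ (Matrix.SpecialLinearGroup.transvection h01 t) ∈ (UJ cs h X {i} : Set Y) := by
        rw [hroot]; exact ⟨t, rfl⟩
      exact this⟩
    have hgs : Function.Surjective g := by
      rintro ⟨y, hy⟩
      have : y ∈ (UJ cs h X {i} : Set Y) := hy
      rw [hroot] at this
      obtain ⟨t, rfl⟩ := this
      exact ⟨t, rfl⟩
    have hgb : Function.Bijective g := by
      rw [Fintype.bijective_iff_surjective_and_card]
      refine ⟨hgs, ?_⟩
      rw [← Nat.card_eq_fintype_card, ← Nat.card_eq_fintype_card, hUJ, hcard]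
    have e : ∑ u : UJ cs h X {i}, θ ⟨u, (RGD.Sup_mono fun _ hx =>
        PosJ_subset {i} hx : UJ cs h X {i} ≤ MJ cs h X {i}) u.2⟩ =
        ∑ t : F, η (Matrix.SpecialLinearGroup.transvection h01 t) := by
      symm
      refine Fintype.sum_bijective g hgb _ _ fun t => ?_
      rw [← hv]
      rfl
    rw [e]
    exact hsum h01

end Cfsg.Agent.H64.Dl
end

-- part: H64/Dl/Seven
section
/-!
# Three inequivalent characters of degree divisible by `p` for `E₇(q)` and `E₈(q)` (helper64)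

* `many_E7_three_cross`, `many_E8_three_cross` : three irreducible characters of degree divisible by `p`, pairwise not
  conjugate under the automorphisms, for every prime `p ≠ r` dividing the order: the two characters
  `θ ⊗ 1`, `θ ⊗ St` of helper717 and helper53's big character of type `J`.
-/

set_option autoImplicit false
set_option linter.unusedSectionVars false

open scoped ComplexConjugate
open Cfsg

namespace Cfsg.Agent.H64.Dl

open Cfsg.Agent.OddOrderCharacters.Clifford Cfsg.Agent.Characters Cfsg.Agent.H53.HC Cfsg.Agent.H717.Two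
  Cfsg.Agent.H246.Dl Cfsg.Agent.H35.ExcIdx
open CoxeterSystem Cfsg.Agent.ChevalleyStructure.CoxeterGeom Cfsg.Agent.Tits.Roots Cfsg.Agent.Tits.Core
  Cfsg.Agent.Tits.Exchange Cfsg.Agent.Nodes.Reps Cfsg.Agent.Nodes.BNOf Cfsg.Agent.Nodes.StabComb
  Cfsg.Agent.Nodes.Bruhat Cfsg.Agent.Nodes.OppDec Cfsg.Agent.Nodes.LeviDec

section gen

variable {I W Y : Type*} [Fintype I] [DecidableEq I] [Group W] [Group Y] {M : CoxeterMatrix I}
  {cs : CoxeterSystem M W} {A : I → I → ℤ} {h : IsCartan M A} {p : ℕ} {T : Subgroup Y} {n : I → Y}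
  {X : (I → ℤ) → Subgroup Y}

theorem ne_aut_symm {χ χ' : Y → ℂ} (h1 : ∀ σ : Y ≃* Y, ∃ g, χ (σ g) ≠ χ' g) (σ : Y ≃* Y) : ∃ g, χ' (σ g) ≠ χ g := by
  obtain ⟨g, hg⟩ := h1 σ.symm
  refine ⟨σ.symm g, fun h2 => hg ?_⟩
  rw [σ.apply_symm_apply] at h2
  exact h2.symm

variable (R : RGD cs h p T n X)

include R

/-- a character of type `J` against a character with `V_K`-fixed vectors, `|K| < |J|` -/
theorem ht_ne_fix [Finite W] [Finite Y] [Fact p.Prime] (hG : GG cs h T X = ⊤) {χ χ' : Y → ℂ} {J K : Set I}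
    (hχ : HT cs h X χ J) (hχ' : HasFix χ' (VJ cs h X K)) (hlt : K.ncard < J.ncard) (σ : Y ≃* Y) :
    ∃ g, χ (σ g) ≠ χ' g := by
  by_contra hcon
  push Not at hcon
  have e : χ ∘ σ = χ' := funext hcon
  obtain ⟨f, hf1, hf2, hf3⟩ := exists_nodes R hG σ
  obtain ⟨w, hw⟩ := hχ.le _ (hf3 χ (Core.isIrr_isClassFunction hχ.irr) K (by rw [e]; exact hχ'))
  have h1 := (card_le_of_maps R hw).2
  rw [hf2] at h1
  omega

/-- **`H53.HC.exists_irr_one` with the type.** -/
theorem exists_HT_one [Finite W] [Fintype Y] (hG : GG cs h T X = ⊤) {J K K' : Set I} {j : I}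
    (hJ : ∀ i, i ∈ J ↔ i ≠ j) (hJK : J = K ∪ K') (ho : Orth A K K') {k₀ k₁ : I} (hK : K = {k₀, k₁})
    (hk : IsoPair A J k₀ k₁) (hk1 : A k₁ j = 0) (h3 : ¬ (3 : ℤ) ∣ A k₀ j)
    (hun : ∀ a b, IsoPair A J a b → (a = k₀ ∧ b = k₁) ∨ (a = k₁ ∧ b = k₀))
    {θ : ↥(MJ cs h X K) → ℂ} (hθ : Cusp cs h X K θ) (hns : NonSwap cs h X K k₀ k₁ θ)
    {θ' : ↥(MJ cs h X K') → ℂ} (hθ' : Cusp cs h X K' θ') :
    ∃ χ : Y → ℂ, HT cs h X χ J ∧ ∃ k : ℕ, 0 < k ∧ χ 1 = (PJ cs h T X J).index * (k * (θ 1 * θ' 1)) := by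
  subst hJK
  obtain ⟨ψ, hψ, hval⟩ := hθ.exists_prod R ho hθ'
  have hval1 : ψ 1 = θ 1 * θ' 1 := by
    obtain ⟨hab, e⟩ := hval 1 (one_mem _) 1 (one_mem _)
    simp only [mul_one] at e
    exact e
  rw [← hval1]
  refine exists_HT_MJ R hG (K ∪ K') hψ.irr hψ.van ?_
  intro w g hg hw hp
  obtain ⟨h0, h1⟩ := swap_of_iso hJ hk hk1 h3 hun hp hw
  exact not_stable_swap R rfl ho hK hns hθ'.irr hval hg hp h0 h1

/-- **The character from `θ ⊗ θ' ⊗ ρ`, with `V_K`-fixed vectors.** -/
theorem exists_irr_three' [Finite W] [Fintype Y] (hG : GG cs h T X = ⊤) {J N : Set I} {j j₀ k₀ k₁ : I}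
    (hJ : ∀ i, i ∈ J ↔ i ≠ j) (hJK : J = ({k₀, k₁} ∪ N) ∪ {j₀}) (ho : Orth A {k₀, k₁} N)
    (ho' : Orth A ({k₀, k₁} ∪ N) {j₀}) (hC : Comb cs h J ({k₀, k₁} ∪ N))
    (hk : IsoPair A J k₀ k₁) (hk1 : A k₁ j = 0) (h3 : ¬ (3 : ℤ) ∣ A k₀ j)
    (hun : ∀ a b, IsoPair A J a b → (a = k₀ ∧ b = k₁) ∨ (a = k₁ ∧ b = k₀))
    {θ : ↥(MJ cs h X {k₀, k₁}) → ℂ} (hθ : Cusp cs h X {k₀, k₁} θ) (hns : NonSwap cs h X {k₀, k₁} k₀ k₁ θ)
    {θ' : ↥(MJ cs h X N) → ℂ} (hθ' : Cusp cs h X N θ') {ρ : ↥(MJ cs h X {j₀}) → ℂ} (hρ : IsIrrCharacter _ ρ)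
    (hρz : ∀ z ∈ Subgroup.center ↥(MJ cs h X {j₀}), ρ z = ρ 1)
    (hρs : ∀ [Fintype (UJ cs h X {j₀})], ∑ u : UJ cs h X {j₀}, ρ ⟨u, (RGD.Sup_mono fun _ hx => PosJ_subset {j₀} hx :
      UJ cs h X {j₀} ≤ MJ cs h X {j₀}) u.2⟩ ≠ 0) :
    ∃ χ : Y → ℂ, IsIrrCharacter Y χ ∧ HasFix χ (VJ cs h X ({k₀, k₁} ∪ N)) ∧ ∃ k : ℕ, 0 < k ∧ k ∣ Nat.card T ∧
      χ 1 = (PJ cs h T X J).index * (k * (θ 1 * θ' 1 * ρ 1)) := by
  subst hJK
  obtain ⟨φ, hφ, hφv⟩ := hθ.exists_prod R ho hθ'
  obtain ⟨ψ, hψ, hψv, hψval⟩ := exists_prod_left R ho' hφ hρ hρz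
  have hφ1 : φ 1 = θ 1 * θ' 1 := by
    obtain ⟨hab, e⟩ := hφv 1 (one_mem _) 1 (one_mem _)
    simp only [mul_one] at e
    exact e
  have hψ1 : ψ 1 = θ 1 * θ' 1 * ρ 1 := by
    obtain ⟨hab, e⟩ := hψval 1 (one_mem _) 1 (one_mem _)
    simp only [mul_one] at e
    rw [← hφ1]
    exact e
  have hle1 : MJ cs h X {k₀, k₁} ≤ MJ cs h X ({k₀, k₁} ∪ N) := by rw [ho.MJ_union]; exact le_sup_left
  have hle2 : MJ cs h X ({k₀, k₁} ∪ N) ≤ MJ cs h X (({k₀, k₁} ∪ N) ∪ {j₀}) := by rw [ho'.MJ_union]; exact le_sup_left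
  rw [← hψ1]
  obtain ⟨χ, hχ, hd, ψ', hψ', he, hV, c, s, hres, hs⟩ :=
    exists_irr_partial' R hG (K := {k₀, k₁} ∪ N) (fun i hi => Or.inl hi) hC hψ hψv (by
      intro w g hg hw hp
      obtain ⟨h0, h1⟩ := swap_of_iso hJ hk hk1 h3 hun hp hw
      refine not_stable_swap' R (hle1.trans hle2) hns (c := θ' 1 * ρ 1)
        (mul_ne_zero (Core.isIrr_apply_one_ne_zero hθ'.irr) (Core.isIrr_apply_one_ne_zero hρ)) ?_ hg hp h0 h1
      intro a ha
      obtain ⟨hab, e⟩ := hφv a ha 1 (one_mem _)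
      obtain ⟨hab', e'⟩ := hψval a (hle1 ha) 1 (one_mem _)
      simp only [mul_one] at e e'
      have e2 : ψ ⟨a, (hle1.trans hle2) ha⟩ = φ ⟨a, hle1 ha⟩ * ρ 1 := e'
      have e3 : φ ⟨a, hle1 ha⟩ = θ ⟨a, ha⟩ * θ' 1 := e
      rw [e2, e3]
      ring)
  exact ⟨χ, hχ, hasFix_partial R ho' hφ.irr hρs hψval hχ hψ' he hV hres hs, hd⟩

end gen

variable {r q l : ℕ} {M : CoxeterMatrix (Fin l)} {A : Fin l → Fin l → ℤ} {h : IsCartan M A} {f : Fin l → ℕ}
  {S : Type*} [Group S] {T : Subgroup S} {n : Fin l → S} {X : (Fin l → ℤ) → Subgroup S}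

/-- **Three inequivalent characters.** -/
theorem many_three [Finite S] (hr : r.Prime) (hq : 2 ≤ q) (hrq : r ∣ q) {j j₀ i₀ k₀ k₁ : Fin l} {N : Set (Fin l)}
    (D : ExcData r q h f {i | i ≠ j} T n X) (hJ : ({i | i ≠ j} : Set (Fin l)) = ({k₀, k₁} ∪ N) ∪ {j₀})
    (hj₀' : j₀ ∉ ({k₀, k₁} ∪ N : Set (Fin l)))
    (ho : ∀ i ∈ ({k₀, k₁} : Set (Fin l)), ∀ i' ∈ N, M i i' = 2)
    (ho' : ∀ i ∈ ({k₀, k₁} ∪ N : Set (Fin l)), M i j₀ = 2) (hj₀ : M j₀ i₀ = 3) (hf : f j₀ = q)
    (hC : Comb M.toCoxeterSystem h {i | i ≠ j} ({k₀, k₁} ∪ N)) (hk : M k₀ k₁ = 3) (hk1 : M k₁ j = 2)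
    (hk0 : M k₀ j = 3 ∨ M k₀ j = 4)
    (hun : ∀ a b, a ≠ j → b ≠ j → M a b = 3 → (∀ c, c ≠ j → c ≠ a → c ≠ b → M a c = 2 ∧ M b c = 2) →
      (a = k₀ ∧ b = k₁) ∨ (a = k₁ ∧ b = k₀))
    (hA2 : InA2 h X q k₀ k₁) (hN : In h X N) (hj : In h X {j₀}) {p : ℕ} (hp : p.Prime) (hpS : p ∣ Nat.card S)
    (hpr : p ≠ r) : Many p S 3 := by
  classical
  have := D.fin
  have : Fact r.Prime := ⟨hr⟩
  have : Fintype S := Fintype.ofFinite S
  obtain ⟨θ, hθ, hns, d, t, hd, hdt, ht⟩ := hA2
  have hNj : In h X (N ∪ {j₀}) := In.union D hN hj fun i hi j hj => by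
    have : j = j₀ := hj
    rw [this]
    exact ho' i (Or.inr hi)
  obtain ⟨θ', hθ'⟩ := hN
  obtain ⟨θ'', hθ''⟩ := hNj
  obtain ⟨e, he0, he⟩ := Core.isIrr_apply_one hθ'.irr
  obtain ⟨e', he0', he'⟩ := Core.isIrr_apply_one hθ''.irr
  obtain ⟨ρ, hρ, hρz, hρ1, hρs⟩ := st_node' D.rgd j₀ i₀ hj₀ ((D.size j₀).trans hf)
  have hmem : ∀ i, i ∈ ({i | i ≠ j} : Set (Fin l)) ↔ i ≠ j := fun i => Iff.rfl
  have hk0J : k₀ ∈ ({i | i ≠ j} : Set (Fin l)) := by rw [hJ]; exact Or.inl (Or.inl (Or.inl rfl))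
  have hk1J : k₁ ∈ ({i | i ≠ j} : Set (Fin l)) := by rw [hJ]; exact Or.inl (Or.inl (Or.inr rfl))
  have ho2 : Orth A ({k₀, k₁} ∪ N) {j₀} := orth_of h fun i hi j' hj' => by
    have : j' = j₀ := hj'
    rw [this]
    exact ho' i hi
  have hiso : IsoPair A {i | i ≠ j} k₀ k₁ := isoPair_of h hk0J hk1J hk fun c hc hc0 hc1 => by
    rw [hJ] at hc
    rcases hc with (hc | hc) | hc
    · rcases hc with rfl | rfl
      · exact absurd rfl hc0
      · exact absurd rfl hc1
    · exact ⟨ho _ (Or.inl rfl) c hc, ho _ (Or.inr rfl) c hc⟩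
    · have : c = j₀ := hc
      rw [this]
      exact ⟨ho' _ (Or.inl (Or.inl rfl)), ho' _ (Or.inl (Or.inr rfl))⟩
  have hunI : ∀ a b, IsoPair A {i | i ≠ j} a b → (a = k₀ ∧ b = k₁) ∨ (a = k₁ ∧ b = k₀) := fun a b hab => by
    obtain ⟨h1, h2, h3, h4⟩ := of_isoPair h hab
    exact hun a b h1 h2 h3 h4
  obtain ⟨χ, hχ, hχf, k, hk, hkT, hχ1⟩ := exists_irr_three' D.rgd D.gg hmem hJ (orth_of h ho) ho2 hC hiso
    (cartan_two h hk1).1 (not_three_dvd h hk0) hunI hθ hns hθ' (ρ := 1) Core.isIrr_one (fun z _ => rfl) (by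
      intro hfu
      simp only [Pi.one_apply, Finset.sum_const, nsmul_eq_mul, mul_one]
      exact_mod_cast Finset.card_ne_zero.2 ⟨1, Finset.mem_univ _⟩)
  obtain ⟨χ', hχ', hχf', k', hk', hkT', hχ1'⟩ := exists_irr_three' D.rgd D.gg hmem hJ (orth_of h ho) ho2 hC hiso
    (cartan_two h hk1).1 (not_three_dvd h hk0) hunI hθ hns hθ' hρ hρz hρs
  obtain ⟨χ'', hχ'', k'', hk'', hχ1''⟩ := exists_HT_one D.rgd D.gg hmem (K := {k₀, k₁}) (K' := N ∪ {j₀})
    (by rw [hJ, Set.union_assoc]) (orth_of h fun i hi i' hi' => by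
      rcases hi' with hi' | hi'
      · exact ho i hi i' hi'
      · have : i' = j₀ := hi'
        rw [this]
        exact ho' i (Or.inl hi)) rfl hiso (cartan_two h hk1).1 (not_three_dvd h hk0) hunI hθ hns hθ''
  obtain ⟨P, hP⟩ : ∃ P : ℕ, P = (PJ M.toCoxeterSystem h T X {i | i ≠ j}).index := ⟨_, rfl⟩
  have hP0 : 0 < P := by
    rw [hP]
    exact Nat.pos_of_ne_zero Subgroup.index_ne_zero_of_finite
  have hd0 : 0 < d := by
    refine Nat.pos_of_ne_zero ?_
    rintro rfl
    exact Core.isIrr_apply_one_ne_zero hθ.irr (by rw [hd, Nat.cast_zero])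
  have hdvd : ∀ a b : ℕ, p ∣ P * (a * (d * b)) := by
    intro a b
    by_cases h3 : p ∣ q - 1
    · have h4 := dvd_of_mul_eq hp hq h3 ht hdt
      exact Dvd.dvd.mul_left (Dvd.dvd.mul_left (Dvd.dvd.mul_right h4 _) _) _
    · rw [hP]
      exact Dvd.dvd.mul_right (D.idx p hp hpS (fun h4 => hpr ((Nat.prime_dvd_prime_iff_eq hp hr).1 h4)) h3) _
  have e1 : χ 1 = (P * (k * (d * e)) : ℕ) := by rw [hχ1, hP, hd, he, Pi.one_apply]; push_cast; ring
  have e2 : χ' 1 = (P * (k' * (d * e)) * q : ℕ) := by rw [hχ1', hP, hd, he, hρ1]; push_cast; ring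
  have e3 : χ'' 1 = (P * (k'' * (d * e')) : ℕ) := by rw [hχ1'', hP, hd, he']; push_cast; ring
  have hne : P * (k * (d * e)) ≠ P * (k' * (d * e)) * q := by
    intro heq
    have h1 : P * (d * e) * k = P * (d * e) * (k' * q) := by
      calc P * (d * e) * k = P * (k * (d * e)) := by ring
        _ = P * (k' * (d * e)) * q := heq
        _ = P * (d * e) * (k' * q) := by ring
    have h2 : k = k' * q := Nat.eq_of_mul_eq_mul_left (Nat.mul_pos hP0 (Nat.mul_pos hd0 he0)) h1
    apply not_dvd_T D.rgd D.gg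
    refine Dvd.dvd.trans ?_ hkT
    rw [h2]
    exact Dvd.dvd.mul_left hrq _
  have c1 := H670.PSing.charDegree_eq_of e1
  have c2 := H670.PSing.charDegree_eq_of e2
  have c3 := H670.PSing.charDegree_eq_of e3
  have hlt : ({k₀, k₁} ∪ N : Set (Fin l)).ncard < ({i | i ≠ j} : Set (Fin l)).ncard := by
    refine Set.ncard_lt_ncard ?_ (Set.toFinite _)
    rw [hJ]
    refine ⟨Set.subset_union_left, fun hcon => hj₀' (hcon (Or.inr rfl))⟩
  have n01 : ∀ σ : S ≃* S, ∃ g, χ (σ g) ≠ χ' g := fun σ => ⟨1, by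
    rw [map_one, e1, e2]
    exact_mod_cast hne⟩
  have n20 := ht_ne_fix D.rgd D.gg hχ'' hχf hlt
  have n21 := ht_ne_fix D.rgd D.gg hχ'' hχf' hlt
  refine ⟨![⟨χ, hχ⟩, ⟨χ', hχ'⟩, ⟨χ'', hχ''.irr⟩], ?_, ?_⟩
  · intro i
    fin_cases i
    · show p ∣ charDegree χ
      rw [c1]; exact hdvd _ _
    · show p ∣ charDegree χ'
      rw [c2]; exact Dvd.dvd.mul_right (hdvd _ _) _
    · show p ∣ charDegree χ''
      rw [c3]; exact hdvd _ _
  · intro i j hij σ
    fin_cases i <;> fin_cases j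
    · exact absurd rfl hij
    · exact n01 σ
    · exact ne_aut_symm n20 σ
    · exact ne_aut_symm n01 σ
    · exact absurd rfl hij
    · exact ne_aut_symm n21 σ
    · exact n20 σ
    · exact n21 σ
    · exact absurd rfl hij

end Cfsg.Agent.H64.Dl
end
end

-- part: H64/Dl/Exc3
section
prune_inst 0x474706f757de2000000040516c20062a57900019010200000b8660142090ff3628902a1004e801806122aa20010050000021000e0400000000e0404000025050110e81600f1c9401982001781308c000000008000000000000000000000041004014410000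
set_option linter.all false
open scoped Cfsg.Agent.FastGrp

-- part: H64/Dl/TabTwE
section
/-!
# The table of the spherical machine for `²E₆(q)`, node `0` (helper64, for S4769)
-/

set_option autoImplicit false

namespace Cfsg.Agent.H64.Dl.Sph.TwE

open Cfsg.Agent.H967.Sph Cfsg.Agent.Nodes

def vecL : List (List ℤ) := [[1, 0, 0, 0], [-1, 1, 0, 0], [0, -1, 1, 0], [0, 1, -1, 1], [1, -1, 0, 1], [0, 1, 0, -1], [-1, 0, 0, 1], [1, -1, 1, -1], [-1, 0, 1, -1], [1, 1, -1, 0], [-1, 2, -1, 0], [2, -1, 0, 0], [1, -2, 1, 0], [-2, 1, 0, 0], [-1, -1, 1, 0], [1, 0, -1, 1], [-1, 1, -1, 1], [1, 0, 0, -1], [0, -1, 0, 1], [-1, 1, 0, -1], [0, -1, 1, -1], [0, 1, -1, 0], [1, -1, 0, 0], [-1, 0, 0, 0]]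

def stL : List (List ℕ) := [[1, 0, 2, 3, 6, 5, 4, 8, 7, 10, 9, 13, 14, 11, 12, 16, 15, 19, 18, 17, 20, 21, 23, 22], [0, 2, 1, 4, 3, 7, 6, 5, 8, 11, 12, 9, 10, 14, 13, 15, 18, 17, 16, 20, 19, 22, 21, 23], [0, 1, 3, 2, 4, 5, 6, 9, 10, 7, 8, 11, 15, 13, 16, 12, 14, 17, 18, 19, 21, 20, 22, 23], [0, 1, 2, 5, 7, 3, 8, 4, 6, 9, 10, 11, 12, 13, 14, 17, 19, 15, 20, 16, 18, 21, 22, 23]]

def clsL : List ℕ := [0, 1, 1, 1, 1, 1, 2, 1, 2, 1, 2, 1, 2, 3, 3, 2, 3, 2, 3, 3, 3, 3, 3, 4]

def crepL : List ℕ := [0, 1, 6, 13, 23]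

def pathL : List (List (Fin 4)) := [[], [0], [0, 1], [0, 1, 2], [0, 1, 2, 1], [0, 1, 2, 3], [0, 1, 2, 1, 0], [0, 1, 2, 1, 3], [0, 1, 2, 1, 0, 3], [0, 1, 2, 1, 3, 2], [0, 1, 2, 1, 0, 3, 2], [0, 1, 2, 1, 3, 2, 1], [0, 1, 2, 1, 0, 3, 2, 1], [0, 1, 2, 1, 3, 2, 1, 0], [0, 1, 2, 1, 0, 3, 2, 1, 0], [0, 1, 2, 1, 0, 3, 2, 1, 2], [0, 1, 2, 1, 0, 3, 2, 1, 0, 2], [0, 1, 2, 1, 0, 3, 2, 1, 2, 3], [0, 1, 2, 1, 0, 3, 2, 1, 0, 2, 1], [0, 1, 2, 1, 0, 3, 2, 1, 0, 2, 3], [0, 1, 2, 1, 0, 3, 2, 1, 0, 2, 1, 3], [0, 1, 2, 1, 0, 3, 2, 1, 0, 2, 1, 3, 2], [0, 1, 2, 1, 0, 3, 2, 1, 0, 2, 1, 3, 2, 1], [0, 1, 2, 1, 0, 3, 2, 1, 0, 2, 1, 3, 2, 1, 0]]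

def cpathL : List (List (Fin 4)) := [[], [], [1], [1, 2], [1, 2, 1], [1, 2, 3], [], [1, 2, 1, 3], [3], [1, 2, 1, 3, 2], [3, 2], [1, 2, 1, 3, 2, 1], [3, 2, 1], [], [1], [3, 2, 1, 2], [1, 2], [3, 2, 1, 2, 3], [1, 2, 1], [1, 2, 3], [1, 2, 1, 3], [1, 2, 1, 3, 2], [1, 2, 1, 3, 2, 1], []]

def wlL : List ℕ := [0, 1, 2, 4, 5, 6, 6, 7, 8, 9, 10, 10, 11, 11, 12, 13, 14, 15, 15, 16, 17, 19, 20, 21]

def DL : List (List (Fin 4)) := [[0], [1, 0], [2, 1, 0], [3, 2, 1, 0], [1, 2, 1, 0], [3, 1, 2, 1, 0], [2, 3, 1, 2, 1, 0], [1, 2, 3, 1, 2, 1, 0]]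

def matL : List (List (List ℤ)) := [[[], [0, 1, 1, 0, 1, 1, 1, 1, 0, 1, 1], [], [], []], [[1], [-1, 1, 1, 0, 1, 0, 1], [0, 0, 0, 0, 0, 1, 0, 1, 0, 1], [0, 0, 0, 0, 0, 0, 0, 0, 0, 0, 1], []], [[], [1, 1, 0, 1, 1], [-1, 0, 1, -1, 0, 1], [0, 0, 0, 0, 0, 0, 1, 1, 0, 1, 1], []], [[], [1], [0, 1, 0, 1, 0, 1], [-1, 0, 1, -1, 1, 0, 1, 1, 0, 1], [0, 0, 0, 0, 0, 0, 0, 0, 0, 0, 1]], [[], [], [], [1, 1, 0, 1, 1, 1, 1, 0, 1, 1], [-1, 0, 1, -1, 0, 0, 0, 1, -1, 0, 1]]]

def kL : List (List ℤ) := [[1], [0, 1, 1, 0, 1, 1, 1, 1, 0, 1, 1], [0, 0, 0, 0, 0, 0, 1, 0, 1, 0, 1, 1, 0, 1, 0, 1], [0, 0, 0, 0, 0, 0, 0, 0, 0, 0, 0, 1, 1, 0, 1, 1, 1, 1, 0, 1, 1], [0, 0, 0, 0, 0, 0, 0, 0, 0, 0, 0, 0, 0, 0, 0, 0, 0, 0, 0, 0, 0, 1]]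


set_option maxRecDepth 4000 in
/-- the table -/
def tab : Tab RGDTwE6.A 0 24 5 where
  vec s i := (vecL.getD s []).getD i 0
  st i s := Fin.ofNat 24 ((stL.getD i []).getD s 0)
  cls s := Fin.ofNat 5 (clsL.getD s 0)
  o := 0
  vec_o := by decide +kernel
  vec_inj := by decide +kernel
  vec_st := by decide +kernel
  path s := pathL.getD s []
  path_spec := by decide +kernel
  cls_st := by decide +kernel
  crep c := Fin.ofNat 24 (crepL.getD c 0)
  cpath s := cpathL.getD s []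
  cpath_ne := by decide +kernel
  cpath_spec := by decide +kernel

/-- the exponents of the parameters -/
def e : Fin 4 → ℕ := ![1, 1, 2, 2]

/-- the exponents of the weights -/
def wl (s : Fin 24) : ℕ := wlL.getD s 0

/-- the matrix of the operator -/
def mat (c c' : Fin 5) : List ℤ := (matL.getD c []).getD c' []

/-- the sizes of the classes -/
def kk (c : Fin 5) : List ℤ := kL.getD c []

theorem chk : Chk tab e DL mat := by decide +kernel

theorem chkK : ChkK tab wl kk := by decide +kernel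

theorem hcr : ∀ c, tab.cls (tab.crep c) = c := by decide +kernel

theorem hws : ∀ i s, 0 < tab.vec s i → wl (tab.st i s) = e i + wl s := by decide +kernel

end Cfsg.Agent.H64.Dl.Sph.TwE
end

-- part: H64/Dl/TwE3
section
/-!
# Three characters of `²E₆(q)` of degree divisible by `3`, `q ≡ 2 mod 3` (helper64, for S4769)

Three constituents of the permutation character on the cosets of the parabolic subgroup of type `²A₅`.
-/

set_option autoImplicit false

namespace Cfsg.Agent.H64.Dl.Sph.TwE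

open Cfsg.Agent.H967.Sph Cfsg.Agent.Nodes
open CoxeterSystem Cfsg.Agent.ChevalleyStructure.CoxeterGeom Cfsg.Agent.Tits.Roots Cfsg.Agent.Tits.Core
  Cfsg.Agent.Nodes.Reps Cfsg.Agent.Nodes.BNOf Cfsg.Agent.Nodes.Bruhat Cfsg.Agent.Nodes.LeviDec

universe u

theorem row0 (x : ℚ) (b : Fin 5 → ℚ) : ∑ c', ev x (mat 0 c') * b c' =
    (x + x ^ 2 + x ^ 4 + x ^ 5 + x ^ 6 + x ^ 7 + x ^ 9 + x ^ 10) * b 1 := by
  rw [Fin.sum_univ_five]
  change ev x [] * b 0 + ev x [0, 1, 1, 0, 1, 1, 1, 1, 0, 1, 1] * b 1 + ev x [] * b 2 + ev x [] * b 3 + ev x [] * b 4 = _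
  simp only [ev_cons, ev_nil]
  push_cast
  ring

theorem row1 (x : ℚ) (b : Fin 5 → ℚ) : ∑ c', ev x (mat 1 c') * b c' =
    (1) * b 0 + (-1 + x + x ^ 2 + x ^ 4 + x ^ 6) * b 1 + (x ^ 5 + x ^ 7 + x ^ 9) * b 2 + (x ^ 10) * b 3 := by
  rw [Fin.sum_univ_five]
  change ev x [1] * b 0 + ev x [-1, 1, 1, 0, 1, 0, 1] * b 1 + ev x [0, 0, 0, 0, 0, 1, 0, 1, 0, 1] * b 2 + ev x [0, 0, 0, 0, 0, 0, 0, 0, 0, 0, 1] * b 3 + ev x [] * b 4 = _
  simp only [ev_cons, ev_nil]
  push_cast
  ring

theorem row2 (x : ℚ) (b : Fin 5 → ℚ) : ∑ c', ev x (mat 2 c') * b c' =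
    (1 + x + x ^ 3 + x ^ 4) * b 1 + (-1 + x ^ 2 - x ^ 3 + x ^ 5) * b 2 + (x ^ 6 + x ^ 7 + x ^ 9 + x ^ 10) * b 3 := by
  rw [Fin.sum_univ_five]
  change ev x [] * b 0 + ev x [1, 1, 0, 1, 1] * b 1 + ev x [-1, 0, 1, -1, 0, 1] * b 2 + ev x [0, 0, 0, 0, 0, 0, 1, 1, 0, 1, 1] * b 3 + ev x [] * b 4 = _
  simp only [ev_cons, ev_nil]
  push_cast
  ring

theorem row3 (x : ℚ) (b : Fin 5 → ℚ) : ∑ c', ev x (mat 3 c') * b c' =
    (1) * b 1 + (x + x ^ 3 + x ^ 5) * b 2 + (-1 + x ^ 2 - x ^ 3 + x ^ 4 + x ^ 6 + x ^ 7 + x ^ 9) * b 3 + (x ^ 10) * b 4 := by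
  rw [Fin.sum_univ_five]
  change ev x [] * b 0 + ev x [1] * b 1 + ev x [0, 1, 0, 1, 0, 1] * b 2 + ev x [-1, 0, 1, -1, 1, 0, 1, 1, 0, 1] * b 3 + ev x [0, 0, 0, 0, 0, 0, 0, 0, 0, 0, 1] * b 4 = _
  simp only [ev_cons, ev_nil]
  push_cast
  ring

theorem row4 (x : ℚ) (b : Fin 5 → ℚ) : ∑ c', ev x (mat 4 c') * b c' =
    (1 + x + x ^ 3 + x ^ 4 + x ^ 5 + x ^ 6 + x ^ 8 + x ^ 9) * b 3 + (-1 + x ^ 2 - x ^ 3 + x ^ 7 - x ^ 8 + x ^ 10) * b 4 := by
  rw [Fin.sum_univ_five]
  change ev x [] * b 0 + ev x [] * b 1 + ev x [] * b 2 + ev x [1, 1, 0, 1, 1, 1, 1, 0, 1, 1] * b 3 + ev x [-1, 0, 1, -1, 0, 0, 0, 1, -1, 0, 1] * b 4 = _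
  simp only [ev_cons, ev_nil]
  push_cast
  ring

theorem rowK (x : ℚ) (b : Fin 5 → ℚ) : ∑ c, ev x (kk c) * b c =
    (1) * b 0 + (x + x ^ 2 + x ^ 4 + x ^ 5 + x ^ 6 + x ^ 7 + x ^ 9 + x ^ 10) * b 1 + (x ^ 6 + x ^ 8 + x ^ 10 + x ^ 11 + x ^ 13 + x ^ 15) * b 2 + (x ^ 11 + x ^ 12 + x ^ 14 + x ^ 15 + x ^ 16 + x ^ 17 + x ^ 19 + x ^ 20) * b 3 + (x ^ 21) * b 4 := by
  rw [Fin.sum_univ_five]
  change ev x [1] * b 0 + ev x [0, 1, 1, 0, 1, 1, 1, 1, 0, 1, 1] * b 1 + ev x [0, 0, 0, 0, 0, 0, 1, 0, 1, 0, 1, 1, 0, 1, 0, 1] * b 2 + ev x [0, 0, 0, 0, 0, 0, 0, 0, 0, 0, 0, 1, 1, 0, 1, 1, 1, 1, 0, 1, 1] * b 3 + ev x [0, 0, 0, 0, 0, 0, 0, 0, 0, 0, 0, 0, 0, 0, 0, 0, 0, 0, 0, 0, 0, 1] * b 4 = _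
  simp only [ev_cons, ev_nil]
  push_cast
  ring



/-- uniqueness of the eigenvector -/
theorem uniq {x θ : ℚ} (hx : 0 < x) (a : Fin 5 → ℚ) (ha : a 0 = 1)
    (he : ∀ c, ∑ c', ev x (mat c c') * a c' = θ * a c)
    (hdet : x * (1 + x ^ 2 + x ^ 4) * (1 + x + x ^ 3 + x ^ 4) - (-1 + x ^ 2 - x ^ 3 + x ^ 5 - θ) ≠ 0)
    (b : Fin 5 → ℚ) (hb : ∀ c, ∑ c', ev x (mat c c') * b c' = θ * b c) : ∀ c, b c = b 0 * a c := by
  have hd : ∀ c, ∑ c', ev x (mat c c') * (b c' - b 0 * a c') = θ * (b c - b 0 * a c) := by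
    intro c
    have h1 : ∑ c', ev x (mat c c') * (b c' - b 0 * a c') =
        ∑ c', ev x (mat c c') * b c' - b 0 * ∑ c', ev x (mat c c') * a c' := by
      rw [Finset.mul_sum, ← Finset.sum_sub_distrib]
      exact Finset.sum_congr rfl fun _ _ => by ring
    rw [h1, hb, he]
    ring
  obtain ⟨c, hc⟩ : ∃ c : Fin 5 → ℚ, c = fun i => b i - b 0 * a i := ⟨_, rfl⟩
  have hd' : ∀ i, ∑ i', ev x (mat i i') * c i' = θ * c i := by rw [hc]; exact hd
  have h0 : c 0 = 0 := by rw [hc]; simp only [ha, mul_one, sub_self]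
  have r0 := hd' 0
  have r1 := hd' 1
  have r2 := hd' 2
  have r3 := hd' 3
  rw [row0] at r0
  rw [row1] at r1
  rw [row2] at r2
  rw [row3] at r3
  have h1 : c 1 = 0 := by
    rw [h0, mul_zero] at r0
    exact (mul_eq_zero.1 r0).resolve_left (by positivity)
  rw [h0, h1] at r1
  rw [h1] at r2
  rw [h1] at r3
  have h3 : c 3 = 0 := by
    have h4 : x ^ 10 * (x * (1 + x ^ 2 + x ^ 4) * (1 + x + x ^ 3 + x ^ 4) - (-1 + x ^ 2 - x ^ 3 + x ^ 5 - θ)) * c 3 = 0 := by
      linear_combination (x ^ 5 + x ^ 7 + x ^ 9) * r2 - (-1 + x ^ 2 - x ^ 3 + x ^ 5 - θ) * r1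
    rcases mul_eq_zero.1 h4 with h5 | h5
    · rcases mul_eq_zero.1 h5 with h6 | h6
      · exact absurd h6 (by positivity)
      · exact absurd h6 hdet
    · exact h5
  have h2 : c 2 = 0 := by
    rw [h3] at r1
    have h4 : (x ^ 5 + x ^ 7 + x ^ 9) * c 2 = 0 := by linear_combination r1
    exact (mul_eq_zero.1 h4).resolve_left (by positivity)
  have h4 : c 4 = 0 := by
    rw [h2, h3] at r3
    have h5 : x ^ 10 * c 4 = 0 := by linear_combination r3
    exact (mul_eq_zero.1 h5).resolve_left (by positivity)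
  intro i
  have h5 : c i = 0 := by
    fin_cases i
    · exact h0
    · exact h1
    · exact h2
    · exact h3
    · exact h4
  rw [hc] at h5
  exact sub_eq_zero.1 h5

/-! ### the three solutions -/

/-- the first one -/
def a1 (x : ℚ) : Fin 5 → ℚ := ![1, -1 / (x * (x + 1)), 1 / x ^ 3, -1 / (x ^ 4 * (x + 1)), 1 / x ^ 6]

/-- the second one -/
def a2 (x : ℚ) : Fin 5 → ℚ := ![1, -(x ^ 5 + x ^ 3 - x ^ 2 + 1) / (x * (x + 1) * (x ^ 3 + 1) * (x ^ 5 + 1)),
  (x - 1) / (x ^ 4 * (x ^ 5 + 1)), (x ^ 5 - x ^ 3 + x ^ 2 + 1) / (x ^ 7 * (x + 1) * (x ^ 3 + 1) * (x ^ 5 + 1)),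
  -1 / x ^ 12]

/-- the third one -/
def a3 (x : ℚ) : Fin 5 → ℚ := ![1, (x - 1) / (x * (x ^ 5 + 1)),
  -(x ^ 2 - x + 1) * (x + 1) / (x ^ 4 * (x ^ 2 + x + 1) * (x ^ 5 + 1)), -(x - 1) / (x ^ 7 * (x ^ 5 + 1)), 1 / x ^ 12]

theorem eig1 {x : ℚ} (hx : 0 < x) (c : Fin 5) :
    ∑ c', ev x (mat c c') * a1 x c' = -((x ^ 3 + 1) * (x ^ 5 + 1)) * a1 x c := by
  fin_cases c
  · change ∑ c', ev x (mat 0 c') * a1 x c' = _ * a1 x 0
    rw [row0]
    change _ * (-1 / (x * (x + 1))) = _ * 1
    field_simp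
    ring
  · change ∑ c', ev x (mat 1 c') * a1 x c' = _ * a1 x 1
    rw [row1]
    change _ * 1 + _ * (-1 / (x * (x + 1))) + _ * (1 / x ^ 3) + _ * (-1 / (x ^ 4 * (x + 1))) = _ * (-1 / (x * (x + 1)))
    field_simp
    ring
  · change ∑ c', ev x (mat 2 c') * a1 x c' = _ * a1 x 2
    rw [row2]
    change _ * (-1 / (x * (x + 1))) + _ * (1 / x ^ 3) + _ * (-1 / (x ^ 4 * (x + 1))) = _ * (1 / x ^ 3)
    field_simp
    ring
  · change ∑ c', ev x (mat 3 c') * a1 x c' = _ * a1 x 3
    rw [row3]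
    change _ * (-1 / (x * (x + 1))) + _ * (1 / x ^ 3) + _ * (-1 / (x ^ 4 * (x + 1))) + _ * (1 / x ^ 6) =
      _ * (-1 / (x ^ 4 * (x + 1)))
    field_simp
    ring
  · change ∑ c', ev x (mat 4 c') * a1 x c' = _ * a1 x 4
    rw [row4]
    change _ * (-1 / (x ^ 4 * (x + 1))) + _ * (1 / x ^ 6) = _ * (1 / x ^ 6)
    field_simp
    ring

theorem eig2 {x : ℚ} (hx : 0 < x) (c : Fin 5) :
    ∑ c', ev x (mat c c') * a2 x c' = -(x ^ 5 + x ^ 3 - x ^ 2 + 1) * a2 x c := by
  have hx1 : x + 1 ≠ 0 := by positivity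
  have hx3 : x ^ 3 + 1 ≠ 0 := by positivity
  have hx5 : x ^ 5 + 1 ≠ 0 := by positivity
  fin_cases c
  · change ∑ c', ev x (mat 0 c') * a2 x c' = _ * a2 x 0
    rw [row0]
    change _ * (-(x ^ 5 + x ^ 3 - x ^ 2 + 1) / (x * (x + 1) * (x ^ 3 + 1) * (x ^ 5 + 1))) = _ * 1
    field_simp
    ring
  · change ∑ c', ev x (mat 1 c') * a2 x c' = _ * a2 x 1
    rw [row1]
    change _ * 1 + _ * (-(x ^ 5 + x ^ 3 - x ^ 2 + 1) / (x * (x + 1) * (x ^ 3 + 1) * (x ^ 5 + 1))) +
      _ * ((x - 1) / (x ^ 4 * (x ^ 5 + 1))) +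
      _ * ((x ^ 5 - x ^ 3 + x ^ 2 + 1) / (x ^ 7 * (x + 1) * (x ^ 3 + 1) * (x ^ 5 + 1))) =
      _ * (-(x ^ 5 + x ^ 3 - x ^ 2 + 1) / (x * (x + 1) * (x ^ 3 + 1) * (x ^ 5 + 1)))
    field_simp
    ring
  · change ∑ c', ev x (mat 2 c') * a2 x c' = _ * a2 x 2
    rw [row2]
    change _ * (-(x ^ 5 + x ^ 3 - x ^ 2 + 1) / (x * (x + 1) * (x ^ 3 + 1) * (x ^ 5 + 1))) +
      _ * ((x - 1) / (x ^ 4 * (x ^ 5 + 1))) +
      _ * ((x ^ 5 - x ^ 3 + x ^ 2 + 1) / (x ^ 7 * (x + 1) * (x ^ 3 + 1) * (x ^ 5 + 1))) =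
      _ * ((x - 1) / (x ^ 4 * (x ^ 5 + 1)))
    field_simp
    ring
  · change ∑ c', ev x (mat 3 c') * a2 x c' = _ * a2 x 3
    rw [row3]
    change _ * (-(x ^ 5 + x ^ 3 - x ^ 2 + 1) / (x * (x + 1) * (x ^ 3 + 1) * (x ^ 5 + 1))) +
      _ * ((x - 1) / (x ^ 4 * (x ^ 5 + 1))) +
      _ * ((x ^ 5 - x ^ 3 + x ^ 2 + 1) / (x ^ 7 * (x + 1) * (x ^ 3 + 1) * (x ^ 5 + 1))) + _ * (-1 / x ^ 12) =
      _ * ((x ^ 5 - x ^ 3 + x ^ 2 + 1) / (x ^ 7 * (x + 1) * (x ^ 3 + 1) * (x ^ 5 + 1)))
    field_simp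
    ring
  · change ∑ c', ev x (mat 4 c') * a2 x c' = _ * a2 x 4
    rw [row4]
    change _ * ((x ^ 5 - x ^ 3 + x ^ 2 + 1) / (x ^ 7 * (x + 1) * (x ^ 3 + 1) * (x ^ 5 + 1))) + _ * (-1 / x ^ 12) =
      _ * (-1 / x ^ 12)
    field_simp
    ring

theorem eig3 {x : ℚ} (hx : 0 < x) (c : Fin 5) :
    ∑ c', ev x (mat c c') * a3 x c' = ((x ^ 3 + 1) * (x ^ 2 - 1)) * a3 x c := by
  have hx3 : x ^ 2 + x + 1 ≠ 0 := by positivity
  have hx5 : x ^ 5 + 1 ≠ 0 := by positivity
  fin_cases c
  · change ∑ c', ev x (mat 0 c') * a3 x c' = _ * a3 x 0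
    rw [row0]
    change _ * ((x - 1) / (x * (x ^ 5 + 1))) = _ * 1
    field_simp
    ring
  · change ∑ c', ev x (mat 1 c') * a3 x c' = _ * a3 x 1
    rw [row1]
    change _ * 1 + _ * ((x - 1) / (x * (x ^ 5 + 1))) +
      _ * (-(x ^ 2 - x + 1) * (x + 1) / (x ^ 4 * (x ^ 2 + x + 1) * (x ^ 5 + 1))) +
      _ * (-(x - 1) / (x ^ 7 * (x ^ 5 + 1))) = _ * ((x - 1) / (x * (x ^ 5 + 1)))
    field_simp
    ring
  · change ∑ c', ev x (mat 2 c') * a3 x c' = _ * a3 x 2
    rw [row2]
    change _ * ((x - 1) / (x * (x ^ 5 + 1))) +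
      _ * (-(x ^ 2 - x + 1) * (x + 1) / (x ^ 4 * (x ^ 2 + x + 1) * (x ^ 5 + 1))) +
      _ * (-(x - 1) / (x ^ 7 * (x ^ 5 + 1))) =
      _ * (-(x ^ 2 - x + 1) * (x + 1) / (x ^ 4 * (x ^ 2 + x + 1) * (x ^ 5 + 1)))
    field_simp
    ring
  · change ∑ c', ev x (mat 3 c') * a3 x c' = _ * a3 x 3
    rw [row3]
    change _ * ((x - 1) / (x * (x ^ 5 + 1))) +
      _ * (-(x ^ 2 - x + 1) * (x + 1) / (x ^ 4 * (x ^ 2 + x + 1) * (x ^ 5 + 1))) +
      _ * (-(x - 1) / (x ^ 7 * (x ^ 5 + 1))) + _ * (1 / x ^ 12) = _ * (-(x - 1) / (x ^ 7 * (x ^ 5 + 1)))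
    field_simp
    ring
  · change ∑ c', ev x (mat 4 c') * a3 x c' = _ * a3 x 4
    rw [row4]
    change _ * (-(x - 1) / (x ^ 7 * (x ^ 5 + 1))) + _ * (1 / x ^ 12) = _ * (1 / x ^ 12)
    field_simp
    ring

theorem degK (x : ℚ) : ∑ c, ev x (kk c) = (1 + x + x ^ 2) * (x ^ 4 - x ^ 2 + 1) * (x ^ 4 + 1) * (x + 1) * (x ^ 2 + 1) *
    (x ^ 2 - x + 1) * (x ^ 6 - x ^ 3 + 1) := by
  have h1 := rowK x (fun _ => 1)
  simp only [mul_one] at h1
  rw [h1]
  ring

theorem deg1 {x : ℚ} (hx : 0 < x) :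
    x * (x ^ 4 + 1) * (x ^ 6 - x ^ 3 + 1) * ∑ c, ev x (kk c) * a1 x c ^ 2 = ∑ c, ev x (kk c) := by
  rw [degK, rowK x (fun c => a1 x c ^ 2)]
  change _ * (_ * 1 ^ 2 + _ * (-1 / (x * (x + 1))) ^ 2 + _ * (1 / x ^ 3) ^ 2 + _ * (-1 / (x ^ 4 * (x + 1))) ^ 2 +
    _ * (1 / x ^ 6) ^ 2) = _
  field_simp
  ring

theorem deg2 {x : ℚ} (hx : 0 < x) :
    x ^ 3 * (x + 1) ^ 4 * (x ^ 2 - x + 1) ^ 2 * (x ^ 4 - x ^ 3 + x ^ 2 - x + 1) * (x ^ 6 - x ^ 3 + 1) *
      ∑ c, ev x (kk c) * a2 x c ^ 2 = 2 * ∑ c, ev x (kk c) := by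
  have hx1 : x + 1 ≠ 0 := by positivity
  have hx3 : x ^ 3 + 1 ≠ 0 := by positivity
  have hx5 : x ^ 5 + 1 ≠ 0 := by positivity
  rw [degK, rowK x (fun c => a2 x c ^ 2)]
  change _ * (_ * 1 ^ 2 + _ * (-(x ^ 5 + x ^ 3 - x ^ 2 + 1) / (x * (x + 1) * (x ^ 3 + 1) * (x ^ 5 + 1))) ^ 2 +
    _ * ((x - 1) / (x ^ 4 * (x ^ 5 + 1))) ^ 2 +
    _ * ((x ^ 5 - x ^ 3 + x ^ 2 + 1) / (x ^ 7 * (x + 1) * (x ^ 3 + 1) * (x ^ 5 + 1))) ^ 2 + _ * (-1 / x ^ 12) ^ 2) = _
  field_simp
  ring

theorem deg3 {x : ℚ} (hx : 0 < x) :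
    x ^ 3 * (x ^ 2 + x + 1) ^ 2 * (x ^ 4 + 1) * (x ^ 4 - x ^ 3 + x ^ 2 - x + 1) * (x ^ 6 - x ^ 3 + 1) *
      ∑ c, ev x (kk c) * a3 x c ^ 2 = 2 * ∑ c, ev x (kk c) := by
  have hx3 : x ^ 2 + x + 1 ≠ 0 := by positivity
  have hx5 : x ^ 5 + 1 ≠ 0 := by positivity
  rw [degK, rowK x (fun c => a3 x c ^ 2)]
  change _ * (_ * 1 ^ 2 + _ * ((x - 1) / (x * (x ^ 5 + 1))) ^ 2 +
    _ * (-(x ^ 2 - x + 1) * (x + 1) / (x ^ 4 * (x ^ 2 + x + 1) * (x ^ 5 + 1))) ^ 2 +
    _ * (-(x - 1) / (x ^ 7 * (x ^ 5 + 1))) ^ 2 + _ * (1 / x ^ 12) ^ 2) = _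
  field_simp
  ring

section chars

variable {W : Type*} {Y : Type u} [Group W] [Finite W] [Group Y] [Finite Y]
  {cs : CoxeterSystem CoxeterMatrix.F₄ W} {p : ℕ} {T : Subgroup Y} {n : Fin 4 → Y} {X : (Fin 4 → ℤ) → Subgroup Y}
  (R : RGD cs RGDTwE6.isCartan p T n X) (hG : GG cs RGDTwE6.isCartan T X = ⊤) {q : ℕ} (hq : 2 ≤ q)
  (hc : ∀ i, Nat.card (X (sr i)) = q ^ e i)

include R hG hq hc

theorem char_of {θ : ℚ} (a : Fin 5 → ℚ) (ha : a 0 = 1) (he : ∀ c, ∑ c', ev q (mat c c') * a c' = θ * a c)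
    (hdet : (q : ℚ) * (1 + (q : ℚ) ^ 2 + (q : ℚ) ^ 4) * (1 + q + (q : ℚ) ^ 3 + (q : ℚ) ^ 4) -
      (-1 + (q : ℚ) ^ 2 - (q : ℚ) ^ 3 + (q : ℚ) ^ 5 - θ) ≠ 0)
    (d : ℕ) (hd : (d : ℚ) * ∑ c, ev q (kk c) * a c ^ 2 = ∑ c, ev q (kk c)) :
    ∃ χ : Y → ℂ, Cfsg.IsIrrCharacter Y χ ∧ χ 1 = d := by
  have hx : (0 : ℚ) < q := by
    have : 0 < q := by omega
    exact_mod_cast this
  have ho : tab.cls tab.o = 0 := by decide +kernel
  obtain ⟨χ, h1, -, h2⟩ := exists_char_mat R hG tab q e hc DL mat chk hcr wl (by decide +kernel) hws kk chkK θ a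
    (by rw [ho]; exact ha) he (fun b hb c => by rw [ho]; exact uniq hx a ha he hdet b hb c) d hd
  exact ⟨χ, h1, h2⟩

/-- **Three characters.** -/
theorem three_chars (h3 : q % 3 = 2) : H246.Dl.Many 3 Y 3 := by
  have hx : (2 : ℚ) ≤ q := by exact_mod_cast hq
  have hx0 : (0 : ℚ) < q := by linarith only [hx]
  obtain ⟨f18, h18⟩ : ∃ f : ℕ, f + q ^ 3 = q ^ 6 + 1 := by
    refine ⟨q ^ 6 + 1 - q ^ 3, Nat.sub_add_cancel ?_⟩
    have := Nat.pow_le_pow_right (show 1 ≤ q by omega) (show 3 ≤ 6 by norm_num)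
    omega
  obtain ⟨f10, h10⟩ : ∃ f : ℕ, f + (q ^ 3 + q) = q ^ 4 + q ^ 2 + 1 := by
    refine ⟨q ^ 4 + q ^ 2 + 1 - (q ^ 3 + q), Nat.sub_add_cancel ?_⟩
    have h1 := Nat.pow_le_pow_right (show 1 ≤ q by omega) (show 3 ≤ 4 by norm_num)
    have h2 := Nat.pow_le_pow_right (show 1 ≤ q by omega) (show 1 ≤ 2 by norm_num)
    rw [pow_one] at h2
    omega
  have e18 : (f18 : ℚ) = (q : ℚ) ^ 6 - (q : ℚ) ^ 3 + 1 := by
    have : (f18 : ℚ) + (q : ℚ) ^ 3 = (q : ℚ) ^ 6 + 1 := by exact_mod_cast h18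
    linarith only [this]
  have e10 : (f10 : ℚ) = (q : ℚ) ^ 4 - (q : ℚ) ^ 3 + (q : ℚ) ^ 2 - q + 1 := by
    have : (f10 : ℚ) + ((q : ℚ) ^ 3 + q) = (q : ℚ) ^ 4 + (q : ℚ) ^ 2 + 1 := by exact_mod_cast h10
    linarith only [this]
  have p18 : 0 < f18 := by
    rcases Nat.eq_zero_or_pos f18 with h0 | h0
    · have h1 := Nat.pow_le_pow_right (show 1 ≤ q by omega) (show 3 ≤ 6 by norm_num)
      omega
    · exact h0
  have p10 : 0 < f10 := by
    rcases Nat.eq_zero_or_pos f10 with h0 | h0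
    · have h1 := Nat.pow_le_pow_right (show 1 ≤ q by omega) (show 3 ≤ 4 by norm_num)
      have h2 := Nat.pow_le_pow_right (show 1 ≤ q by omega) (show 1 ≤ 2 by norm_num)
      rw [pow_one] at h2
      omega
    · exact h0
  have d18 : 3 ∣ f18 := by
    have h1 : q ^ 3 % 3 = 2 := by rw [Nat.pow_mod, h3]
    have h2 : q ^ 6 % 3 = 1 := by rw [Nat.pow_mod, h3]
    (clear * - h18 h1 h2; omega)
  obtain ⟨d2, hd2⟩ : ∃ d : ℕ, 2 * d = q ^ 3 * ((q + 1) ^ 2 * (q ^ 3 + 1) ^ 2) * f10 * f18 := by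
    have : 2 ∣ q ^ 3 * ((q + 1) ^ 2 * (q ^ 3 + 1) ^ 2) * f10 * f18 := by
      refine Dvd.dvd.mul_right (Dvd.dvd.mul_right ?_ _) _
      rcases Nat.even_or_odd q with h | h
      · exact Dvd.dvd.mul_right (dvd_pow h.two_dvd (by norm_num)) _
      · exact Dvd.dvd.mul_left (Dvd.dvd.mul_right (dvd_pow (h.add_one).two_dvd (by norm_num)) _) _
    obtain ⟨d, hd⟩ := this
    exact ⟨d, hd.symm⟩
  obtain ⟨d3, hd3⟩ : ∃ d : ℕ, 2 * d = q ^ 3 * ((q ^ 2 + q + 1) ^ 2 * (q ^ 4 + 1)) * f10 * f18 := by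
    have : 2 ∣ q ^ 3 * ((q ^ 2 + q + 1) ^ 2 * (q ^ 4 + 1)) * f10 * f18 := by
      refine Dvd.dvd.mul_right (Dvd.dvd.mul_right ?_ _) _
      rcases Nat.even_or_odd q with h | h
      · exact Dvd.dvd.mul_right (dvd_pow h.two_dvd (by norm_num)) _
      · exact Dvd.dvd.mul_left (Dvd.dvd.mul_left ((h.pow (n := 4)).add_one).two_dvd _) _
    obtain ⟨d, hd⟩ := this
    exact ⟨d, hd.symm⟩
  have t2 : 3 ∣ d2 := by
    have : 3 ∣ 2 * d2 := by rw [hd2]; exact Dvd.dvd.mul_left d18 _
    exact (Nat.Coprime.dvd_mul_left (by norm_num)).1 this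
  have t3 : 3 ∣ d3 := by
    have : 3 ∣ 2 * d3 := by rw [hd3]; exact Dvd.dvd.mul_left d18 _
    exact (Nat.Coprime.dvd_mul_left (by norm_num)).1 this
  have t1 : 3 ∣ q * (q ^ 4 + 1) * f18 := Dvd.dvd.mul_left d18 _
  -- the sizes
  have l1 : q * (q ^ 4 + 1) * f18 < d2 := by
    have h1 : 2 * (q * (q ^ 4 + 1) * f18) < 2 * d2 := by
      rw [hd2]
      have h2 : 2 * (q * (q ^ 4 + 1)) < q ^ 3 * ((q + 1) ^ 2 * (q ^ 3 + 1) ^ 2) := by
        have h4 : q ^ 4 + 1 ≤ (q ^ 3 + 1) ^ 2 := by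
          have := Nat.pow_le_pow_right (show 1 ≤ q by omega) (show 4 ≤ 6 by norm_num)
          have h5 : (q ^ 3 + 1) ^ 2 = q ^ 6 + 2 * q ^ 3 + 1 := by ring
          (clear * - this h5; omega)
        have h5 : 4 * q ≤ q ^ 3 := by
          have : q ^ 3 = q ^ 2 * q := by ring
          rw [this]
          exact Nat.mul_le_mul_right _ (by nlinarith only [hq])
        have h6 : 1 ≤ (q + 1) ^ 2 := Nat.one_le_pow _ _ (by omega)
        calc 2 * (q * (q ^ 4 + 1)) < (4 * q) * (1 * (q ^ 4 + 1)) := by nlinarith only [hq, h5]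
          _ ≤ q ^ 3 * ((q + 1) ^ 2 * (q ^ 3 + 1) ^ 2) :=
            Nat.mul_le_mul h5 (Nat.mul_le_mul h6 h4)
      calc 2 * (q * (q ^ 4 + 1) * f18) = 2 * (q * (q ^ 4 + 1)) * 1 * f18 := by ring
        _ < q ^ 3 * ((q + 1) ^ 2 * (q ^ 3 + 1) ^ 2) * f10 * f18 :=
          Nat.mul_lt_mul_of_pos_right (Nat.mul_lt_mul_of_lt_of_le h2 p10 p10) p18
    (clear * - h1; omega)
  have l2 : d2 < d3 := by
    have h1 : 2 * d2 < 2 * d3 := by
      rw [hd2, hd3]
      refine Nat.mul_lt_mul_of_pos_right (Nat.mul_lt_mul_of_pos_right (Nat.mul_lt_mul_of_pos_left ?_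
        (pow_pos (by omega) 3)) p10) p18
      obtain ⟨y, rfl⟩ := Nat.exists_eq_add_of_le hq
      have h2 : (((2 + y) ^ 2 + (2 + y) + 1) ^ 2 * ((2 + y) ^ 4 + 1)) =
          ((2 + y) + 1) ^ 2 * ((2 + y) ^ 3 + 1) ^ 2 + 2 * (2 + y) ^ 2 * (13 + 28 * y + 23 * y ^ 2 + 8 * y ^ 3 + y ^ 4) := by ring
      rw [h2]
      refine Nat.lt_add_of_pos_right (Nat.mul_pos (Nat.mul_pos (by norm_num) (pow_pos (by omega) 2)) ?_)
      (clear * -; omega)
    (clear * - h1; omega)
  have key : ∀ d ∈ ({q * (q ^ 4 + 1) * f18, d2, d3} : Finset ℕ), 3 ∣ d ∧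
      ∃ χ : Y → ℂ, Cfsg.IsIrrCharacter Y χ ∧ χ 1 = d := by
    intro d hd
    simp only [Finset.mem_insert, Finset.mem_singleton] at hd
    rcases hd with ed | ed | ed
    · rw [ed]
      refine ⟨t1, char_of R hG hq hc (a1 q) rfl (eig1 hx0) ?_ _ ?_⟩
      · apply ne_of_gt
        have h1 : (0 : ℚ) < q + (q : ℚ) ^ 3 + 2 * (q : ℚ) ^ 4 + 2 * (q : ℚ) ^ 6 + (q : ℚ) ^ 7 + (q : ℚ) ^ 9 := by (clear * - hq; positivity)
        linarith only [h1]
      · rw [← deg1 hx0]
        push_cast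
        rw [e18]
    · rw [ed]
      refine ⟨t2, char_of R hG hq hc (a2 q) rfl (eig2 hx0) ?_ _ ?_⟩
      · apply ne_of_gt
        have h1 : (0 : ℚ) < q + (q : ℚ) ^ 2 + (q : ℚ) ^ 3 + 2 * (q : ℚ) ^ 4 + 2 * (q : ℚ) ^ 6 + (q : ℚ) ^ 7 + (q : ℚ) ^ 8 +
          (q : ℚ) ^ 9 := by (clear * - hq; positivity)
        linarith only [h1]
      · have h1 : (2 : ℚ) * d2 = (q : ℚ) ^ 3 * (q + 1) ^ 4 * ((q : ℚ) ^ 2 - q + 1) ^ 2 *
            ((q : ℚ) ^ 4 - (q : ℚ) ^ 3 + (q : ℚ) ^ 2 - q + 1) * ((q : ℚ) ^ 6 - (q : ℚ) ^ 3 + 1) := by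
          rw [← e10, ← e18]
          have h2 : (2 : ℚ) * d2 = (q : ℚ) ^ 3 * ((q + 1) ^ 2 * ((q : ℚ) ^ 3 + 1) ^ 2) * f10 * f18 := by exact_mod_cast hd2
          rw [h2]
          ring
        have h2 := deg2 hx0
        rw [← h1] at h2
        linarith only [h2]
    · rw [ed]
      refine ⟨t3, char_of R hG hq hc (a3 q) rfl (eig3 hx0) ?_ _ ?_⟩
      · apply ne_of_gt
        have h1 : (0 : ℚ) < q + (q : ℚ) ^ 2 + (q : ℚ) ^ 3 + 2 * (q : ℚ) ^ 4 + 2 * (q : ℚ) ^ 5 + 2 * (q : ℚ) ^ 6 +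
          (q : ℚ) ^ 7 + (q : ℚ) ^ 8 + (q : ℚ) ^ 9 := by (clear * - hq; positivity)
        linarith only [h1]
      · have h1 : (2 : ℚ) * d3 = (q : ℚ) ^ 3 * ((q : ℚ) ^ 2 + q + 1) ^ 2 * ((q : ℚ) ^ 4 + 1) *
            ((q : ℚ) ^ 4 - (q : ℚ) ^ 3 + (q : ℚ) ^ 2 - q + 1) * ((q : ℚ) ^ 6 - (q : ℚ) ^ 3 + 1) := by
          rw [← e10, ← e18]
          have h2 : (2 : ℚ) * d3 = (q : ℚ) ^ 3 * (((q : ℚ) ^ 2 + q + 1) ^ 2 * ((q : ℚ) ^ 4 + 1)) * f10 * f18 := by
            exact_mod_cast hd3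
          rw [h2]
          ring
        have h2 := deg3 hx0
        rw [← h1] at h2
        linarith only [h2]
  have h4 := H246.Dl.Many.of_finset key
  have h5 : ({q * (q ^ 4 + 1) * f18, d2, d3} : Finset ℕ).card = 3 :=
    Finset.card_eq_three.2 ⟨_, _, _, l1.ne, (l1.trans l2).ne, l2.ne, rfl⟩
  rwa [h5] at h4

end chars

end Cfsg.Agent.H64.Dl.Sph.TwE

namespace Cfsg.Agent.H64.Dl

open Cfsg.Lie Cfsg.Agent.H35.ExcIdx Cfsg.Agent.Nodes

universe u

theorem exists_prime_pow' (F : Type u) [Field F] [Fintype F] :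
    ∃ (r f : ℕ), r.Prime ∧ f ≠ 0 ∧ Fintype.card F = r ^ f ∧ CharP F r := by
  obtain ⟨r, hr⟩ := CharP.exists F
  obtain ⟨f, hp, hf⟩ := FiniteField.card F r
  exact ⟨r, f, hp, f.ne_zero, hf, hr⟩

/-- **`²E₆(q)`, `q ≡ 2 mod 3`: three characters of degree divisible by `3`.** -/
theorem many_TwE6_three_of_mod {K : Type u} [Field K] [Fintype K] {q : ℕ} (hq : IsPrimePow q)
    (hK : Fintype.card K = q ^ 2) {S : Type*} [Group S] (e : S ≃* ↥(twistedE6 K q)) (h3 : q % 3 = 2) :
    H246.Dl.Many 3 S 3 := by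
  obtain ⟨r, f, hr, hf, hqf⟩ := (isPrimePow_nat_iff q).1 hq
  have hch : CharP K r := by
    obtain ⟨r', g, hr', hg, hK', hch⟩ := exists_prime_pow' K
    have h1 : r' = r := by
      have h2 : r' ∣ r ^ (f * 2) := by
        rw [pow_mul, hqf, ← hK, hK']
        exact dvd_pow_self _ hg
      exact (Nat.prime_dvd_prime_iff_eq hr' hr).1 (hr'.dvd_of_dvd_pow h2)
    rwa [h1] at hch
  obtain ⟨φ, hφ, hqq⟩ := Cfsg.Agent.ChevalleyStructure.TwE6Basic.exists_frob hq hK
  have : Finite ↥(twistedE6 K q) := by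
    have : Finite (GL chevE6.Idx K) := by
      have : Finite (Matrix chevE6.Idx chevE6.Idx K) := inferInstance
      infer_instance
    infer_instance
  have D := data_TwE6_2 hr hf.ne' hqf.symm hφ hqq hK
  have := D.fin
  refine H246.Dl.Many.of_equiv e (Sph.TwE.three_chars D.rgd D.gg hq.two_le (fun i => ?_) h3)
  rw [D.size i]
  fin_cases i
  · exact (pow_one q).symm
  · exact (pow_one q).symm
  · rfl
  · rfl

end Cfsg.Agent.H64.Dl
end

-- part: H64/Dl/Exc3
section
/-!
# Three inequivalent characters for `E₇(q)`, `E₈(q)`, `²E₆(q)` (helper64, task DL-EXC-3 of S4769)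

* `many_E7_cross`, `many_E8_cross` : `Many p S 3` for every prime `p ∣ |S|` other than the characteristic;
* `many_TwE6_three` : `Many 3 S 3` for `²E₆(q)`, `3 ∤ q`.
-/

set_option autoImplicit false

namespace Cfsg.Agent.H64.Dl

open Cfsg.Agent.H53.HC Cfsg.Agent.H53.HC.ExcRows Cfsg.Agent.H53.HC.ExcIM Cfsg.Agent.H35.ExcIdx
  Cfsg.Agent.H246.Dl Cfsg.Agent.H717.Two Cfsg.Lie Cfsg.Agent.Nodes.RGDChev

universe u

section split

variable {K : Type u} [Field K] [Fintype K] {S : Type*} [Group S] {p : ℕ} (hp : p.Prime)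
  (hpK : ¬ p ∣ Fintype.card K)

include hp hpK

/-- **`E₈(q)`, `p ∤ q`.** -/
theorem many_E8_cross (e : S ≃* ↥(chevE8.group K)) (hpS : p ∣ Nat.card S) : Many p S 3 := by
  obtain ⟨r, f, hr, hf, hF, hch⟩ := exists_prime_pow' K
  have := finite_group (K := K) chevE8
  have D := data_E8_3 hr hf hF
  have := D.fin
  have hpr : p ≠ r := by
    rintro rfl
    apply hpK
    rw [hF]
    exact dvd_pow_self _ hf
  refine Many.of_equiv e (many_three hr (two_le hr hf) (dvd_pow_self r hf) (j := 3) (j₀ := 1) (i₀ := 3)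
    (k₀ := 2) (k₁ := 0) (N := {4, 5, 6, 7}) D compl8' (fun hc => (not8 1 hc).2 rfl)
    (fun i hi i' hi' => orN8 i (by simpa using hi) i' (by simpa using hi'))
    (fun i hi => or8 i (not8 i hi).1 (not8 i hi).2) (by decide +kernel) rfl comb8 (by decide +kernel)
    (by decide +kernel) (by decide +kernel) un8 (in_A2 D (by decide +kernel) rfl)
    (by rw [← range_k8]; exact in_chain D (by norm_num) k8 hk8) (in_node D 1 3 (by decide +kernel)) hp ?_ hpr)
  rwa [← Nat.card_congr e.toEquiv]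

/-- **`E₇(q)`, `p ∤ q`.** -/
theorem many_E7_cross (e : S ≃* ↥(chevE7.group K)) (hpS : p ∣ Nat.card S) : Many p S 3 := by
  obtain ⟨r, f, hr, hf, hF, hch⟩ := exists_prime_pow' K
  have := finite_group (K := K) chevE7
  have D := data_E7_3 hr hf hF
  have := D.fin
  have hpr : p ≠ r := by
    rintro rfl
    apply hpK
    rw [hF]
    exact dvd_pow_self _ hf
  refine Many.of_equiv e (many_three hr (two_le hr hf) (dvd_pow_self r hf) (j := 3) (j₀ := 1) (i₀ := 3)
    (k₀ := 2) (k₁ := 0) (N := {4, 5, 6}) D compl7' (fun hc => (not7 1 hc).2 rfl)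
    (fun i hi i' hi' => orN7 i (by simpa using hi) i' (by simpa using hi'))
    (fun i hi => or7 i (not7 i hi).1 (not7 i hi).2) (by decide +kernel) rfl comb7 (by decide +kernel)
    (by decide +kernel) (by decide +kernel) un7 (in_A2 D (by decide +kernel) rfl)
    (by rw [← range_k7]; exact in_chain D (by norm_num) k7 hk7) (in_node D 1 3 (by decide +kernel)) hp ?_ hpr)
  rwa [← Nat.card_congr e.toEquiv]

end split

/-- **`²E₆(q)`, `p = 3 ∤ q`.** -/
theorem many_TwE6_three {K : Type u} [Field K] [Fintype K] {q : ℕ} (hq : IsPrimePow q) (hK : Fintype.card K = q ^ 2)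
    {S : Type*} [Group S] (h3 : ¬ 3 ∣ q) (e : S ≃* ↥(twistedE6 K q)) : Many 3 S 3 := by
  by_cases h1 : q % 3 = 2
  · exact many_TwE6_three_of_mod hq hK e h1
  · have h2 : 3 ∣ q - 1 := by omega
    exact (many_TwE6 hq hK Nat.prime_three h2 e).mono (by norm_num)

end Cfsg.Agent.H64.Dl
end
end

-- part: H941/Dl/Fields
section
prune_inst 0x8000000000000000000000000000014410000
set_option linter.all false
open scoped Cfsg.Agent.FastGrp

/-!
# The rows of the exceptional groups for S4769 (helper941)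

The fields `g2, f4, e6, e7, e8, te6, td4, tf4, tits` of `H759.Dl.Missing`. Hypotheses that are left:
* `RowFFourTwo` : `F₄(2)`, `p = 2`;
* `RowESixThree` : `E₆(q)`, `p = 3`, `3 ∣ q + 1`;
* `RowTwFFour` : `²F₄(q)`, `p = 2`;
* `RowTits` : the Tits group, `p = 2`.
-/

set_option autoImplicit false

open Cfsg

namespace Cfsg.Agent.H941.Dl.Fields

open Cfsg.Lie Cfsg.Agent.H246.Dl Cfsg.Agent.H596.OneFacts Cfsg.Agent.H759.Dl Cfsg.Agent.H158.DlRows
open Cfsg.Agent.H64.Dl

universe u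

/-- `F₄(2)`, `p = 2` -/
def RowFFourTwo : Prop :=
  ∀ (S : Type u) [Group S] [Finite S] [IsSimpleGroup S] (K : Type) [Field K] [Fintype K], Fintype.card K = 2 →
    Nonempty (S ≃* ↥(chevF4.group K)) → Row 2 S

/-- `E₆(q)`, `p = 3`, `3 ∣ q + 1` -/
def RowESixThree : Prop :=
  ∀ (S : Type u) [Group S] [Finite S] [IsSimpleGroup S] (K : Type) [Field K] [Fintype K], 3 ∣ Fintype.card K + 1 →
    Nonempty (S ≃* ↥(chevE6.group K)) → Row 3 S

/-- `²F₄(q)`, `p = 2` -/
def RowTwFFour : Prop :=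
  ∀ (S : Type u) [Group S] [Finite S] [IsSimpleGroup S], Iso2F4 S → Row 2 S

theorem noncomm {S : Type*} [Group S] [IsSimpleGroup S] {p : ℕ} (hp : p.Prime) (h : IsLieTypeChar p S) :
    ¬ IsMulCommutative S := by
  intro hc
  obtain ⟨a, b, hab⟩ := H400.LieLocal.exists_noncomm
    (H400.LieLocal.center_eq_bot (H979.LieSplit.hasSplit_of_isLieTypeChar hp h))
  exact hab (hc.is_comm.comm a b)

/-- the characteristic of a finite field -/
theorem exists_char (K : Type*) [Field K] [Fintype K] : ∃ r : ℕ, r.Prime ∧ CharP K r ∧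
    ∀ p : ℕ, p.Prime → p ∣ Fintype.card K → p = r := by
  obtain ⟨r, hr⟩ := CharP.exists K
  obtain ⟨f, hpr, hf⟩ := FiniteField.card K r
  exact ⟨r, hpr, hr, fun p hp hd => (Nat.prime_dvd_prime_iff_eq hp hpr).1 (hp.dvd_of_dvd_pow (hf ▸ hd))⟩

theorem card_pos' (K : Type*) [Field K] [Fintype K] : 1 < Fintype.card K := Fintype.one_lt_card

section

variable (T : FactTwo.{u}) (I : H671.H5.FactIM.{u})

include T I

theorem f_g2 : RowF.{u} (fun S => IsoChevG2 S) := by
  intro S _ _ _ h p hp hd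
  obtain ⟨K, _, _, h3, ⟨e⟩⟩ := h
  obtain ⟨r, hr, hch, hu⟩ := exists_char K
  have hc : ¬ IsMulCommutative S := noncomm hr (by
    right; right; right; right; right; right; left
    refine ⟨K, inferInstance, inferInstance, hch, ?_⟩
    exact Or.inl ⟨h3, ⟨e⟩⟩)
  have : Fact r.Prime := ⟨hr⟩
  by_cases hpK : p ∣ Fintype.card K
  · obtain rfl := hu p hp hpK
    by_cases h30 : (3 : K) = 0
    · have h4 : ((3 : ℕ) : K) = 0 := by exact_mod_cast h30
      obtain rfl := (Nat.prime_dvd_prime_iff_eq hp Nat.prime_three).1 ((CharP.cast_eq_zero_iff K p 3).1 h4)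
      exact row_of_dl_two T I hc hp hd (H71.Dl.dl_eq_G2_three (K := K) e)
    · refine row_G2_eq (K := K) (by rw [Nat.card_eq_fintype_card]; omega) e fun h5 => ?_
      exfalso
      apply h30
      have h6 : ((Fintype.card K : ℕ) : K) = 0 := FiniteField.cast_card_eq_zero K
      rw [Nat.card_eq_fintype_card] at h5
      rw [h5] at h6
      exact_mod_cast h6
  · exact row_of_dl_two T I hc hp hd (dl_G2 e hp hpK)

theorem f_f4 (H : RowFFourTwo.{u}) : RowF.{u} (fun S => IsoF4 S) := by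
  intro S _ _ _ h p hp hd
  obtain ⟨K, _, _, ⟨e⟩⟩ := h
  obtain ⟨r, hr, hch, hu⟩ := exists_char K
  have hc : ¬ IsMulCommutative S := noncomm hr (by
    right; right; right; right; right; right; left
    refine ⟨K, inferInstance, inferInstance, hch, ?_⟩
    exact Or.inr (Or.inl ⟨e⟩))
  have : Fact r.Prime := ⟨hr⟩
  have h1 := card_pos' K
  by_cases hpK : p ∣ Fintype.card K
  · obtain rfl := hu p hp hpK
    by_cases h2 : Fintype.card K = 2
    · rw [h2] at hpK
      obtain rfl := (Nat.prime_dvd_prime_iff_eq hp Nat.prime_two).1 hpK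
      exact H S K h2 ⟨e⟩
    · exact row_F4_eq (K := K) (by rw [Nat.card_eq_fintype_card]; omega) e
  · obtain ⟨h2, h3⟩ := dl_F4 e hp hpK
    rcases Nat.lt_or_ge p 3 with h4 | h4
    · obtain rfl : p = 2 := by have := hp.two_le; omega
      exact Row.of_le (h2 rfl) (H64.Dl.many_F4 hp (by omega) e) le_rfl
    · exact row_of_dl_two T I hc hp hd (h3 h4)

theorem f_e6 (H : RowESixThree.{u}) : RowF.{u} (fun S => IsoChevE6 S) := by
  intro S _ _ _ h p hp hd
  obtain ⟨K, _, _, ⟨e⟩⟩ := h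
  obtain ⟨r, hr, hch, hu⟩ := exists_char K
  have hc : ¬ IsMulCommutative S := noncomm hr (by
    right; right; right; right; right; right; left
    refine ⟨K, inferInstance, inferInstance, hch, ?_⟩
    exact Or.inr (Or.inr (Or.inl ⟨e⟩)))
  have : Fact r.Prime := ⟨hr⟩
  have h1 := card_pos' K
  by_cases hpK : p ∣ Fintype.card K
  · obtain rfl := hu p hp hpK
    exact row_E6_eq (K := K) e
  · obtain ⟨h2, h3, h5⟩ := dl_E6 e hp hpK
    rcases Nat.lt_or_ge p 3 with h4 | h4
    · obtain rfl : p = 2 := by have := hp.two_le; omega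
      exact Row.of_le (h2 rfl) (H64.Dl.many_E6 hp (by omega) e) (by norm_num)
    · rcases Nat.lt_or_ge p 5 with h6 | h6
      · obtain rfl : p = 3 := by
          interval_cases p
          · rfl
          · exact absurd hp (by norm_num)
        by_cases h7 : 3 ∣ Fintype.card K - 1
        · exact Row.of_le (h3 rfl) (H64.Dl.many_E6 hp h7 e) (by norm_num)
        · exact H S K (by omega) ⟨e⟩
      · exact row_of_dl_two T I hc hp hd (h5 h6)

theorem f_e7 : RowF.{u} (fun S => IsoE7 S) := by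
  intro S _ _ _ h p hp hd
  obtain ⟨K, _, _, ⟨e⟩⟩ := h
  obtain ⟨r, hr, hch, hu⟩ := exists_char K
  have hc : ¬ IsMulCommutative S := noncomm hr (by
    right; right; right; right; right; right; left
    refine ⟨K, inferInstance, inferInstance, hch, ?_⟩
    exact Or.inr (Or.inr (Or.inr (Or.inl ⟨e⟩))))
  have : Fact r.Prime := ⟨hr⟩
  have h1 := card_pos' K
  by_cases hpK : p ∣ Fintype.card K
  · obtain rfl := hu p hp hpK
    exact row_E7_eq (K := K) e
  · obtain ⟨h2, h3, h5⟩ := dl_E7 e hp hpK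
    rcases Nat.lt_or_ge p 3 with h4 | h4
    · obtain rfl : p = 2 := by have := hp.two_le; omega
      exact Row.of_le (h2 rfl) (H64.Dl.many_E7 hp (by omega) e) (by norm_num)
    · rcases Nat.lt_or_ge p 5 with h6 | h6
      · obtain rfl : p = 3 := by
          interval_cases p
          · rfl
          · exact absurd hp (by norm_num)
        exact Row.of_le (h3 rfl) (many_E7_cross hp hpK e hd) le_rfl
      · exact row_of_dl_two T I hc hp hd (h5 h6)

theorem f_e8 : RowF.{u} (fun S => IsoE8 S) := by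
  intro S _ _ _ h p hp hd
  obtain ⟨K, _, _, ⟨e⟩⟩ := h
  obtain ⟨r, hr, hch, hu⟩ := exists_char K
  have hc : ¬ IsMulCommutative S := noncomm hr (by
    right; right; right; right; right; right; left
    refine ⟨K, inferInstance, inferInstance, hch, ?_⟩
    exact Or.inr (Or.inr (Or.inr (Or.inr ⟨e⟩))))
  have : Fact r.Prime := ⟨hr⟩
  have h1 := card_pos' K
  by_cases hpK : p ∣ Fintype.card K
  · obtain rfl := hu p hp hpK
    exact row_E8_eq (K := K) e
  · obtain ⟨h2, h3, h5⟩ := dl_E8 e hp hpK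
    rcases Nat.lt_or_ge p 3 with h4 | h4
    · obtain rfl : p = 2 := by have := hp.two_le; omega
      exact Row.of_le (h2 rfl) (H64.Dl.many_E8 hp (by omega) e) (by norm_num)
    · rcases Nat.lt_or_ge p 5 with h6 | h6
      · obtain rfl : p = 3 := by
          interval_cases p
          · rfl
          · exact absurd hp (by norm_num)
        exact Row.of_le (h3 rfl) (many_E8_cross hp hpK e hd) le_rfl
      · exact row_of_dl_two T I hc hp hd (h5 h6)

theorem f_te6 : RowF.{u} (fun S => Iso2E6 S) := by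
  intro S _ _ _ h p hp hd
  obtain ⟨K, _, _, q, hq, hK, ⟨e⟩⟩ := h
  obtain ⟨r, hr, hch, hu⟩ := exists_char K
  have hc : ¬ IsMulCommutative S := noncomm hr (by
    right; right; right; right; right; right; right; left
    refine ⟨K, inferInstance, inferInstance, hch, q, hq, ?_⟩
    exact Or.inl ⟨hK, ⟨e⟩⟩)
  have : Fact r.Prime := ⟨hr⟩
  have h1 := hq.two_le
  by_cases hpK : p ∣ Fintype.card K
  · obtain rfl := hu p hp hpK
    exact row_2E6_eq hq hK e
  · obtain ⟨h2, h3, h5⟩ := dl_2E6 e hp hpK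
    have hpq : ¬ p ∣ q := fun h0 => hpK (by rw [hK]; exact h0.trans (dvd_pow_self q (by norm_num)))
    rcases Nat.lt_or_ge p 3 with h4 | h4
    · obtain rfl : p = 2 := by have := hp.two_le; omega
      exact Row.of_le (h2 rfl) (many_TwE6 hq hK hp (by omega) e) le_rfl
    · rcases Nat.lt_or_ge p 5 with h6 | h6
      · obtain rfl : p = 3 := by
          interval_cases p
          · rfl
          · exact absurd hp (by norm_num)
        exact Row.of_le (h3 rfl) (many_TwE6_three hq hK hpq e) le_rfl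
      · exact row_of_dl_two T I hc hp hd (h5 h6)

theorem f_td4 : RowF.{u} (fun S => Iso3D4 S) := by
  intro S _ _ _ h p hp hd
  obtain ⟨K, _, _, q, hq, hK, ⟨e⟩⟩ := h
  obtain ⟨r, hr, hch, hu⟩ := exists_char K
  have hc : ¬ IsMulCommutative S := noncomm hr (by
    right; right; right; right; right; right; right; left
    refine ⟨K, inferInstance, inferInstance, hch, q, hq, ?_⟩
    exact Or.inr ⟨hK, ⟨e⟩⟩)
  have : Fact r.Prime := ⟨hr⟩
  by_cases hpK : p ∣ Fintype.card K
  · obtain rfl := hu p hp hpK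
    exact row_3D4_eq hq hK e
  · exact row_of_dl_two T I hc hp hd (dl_3D4 hK e hp hpK)

theorem f_tf4 (H : RowTwFFour.{u}) : RowF.{u} (fun S => Iso2F4 S) := by
  intro S _ _ _ h p hp hd
  have hc : ¬ IsMulCommutative S := noncomm Nat.prime_two (by
    right; right; right; right; right; right; right; right; right; left
    exact ⟨rfl, h⟩)
  rcases Nat.lt_or_ge p 3 with h4 | h4
  · obtain rfl : p = 2 := by have := hp.two_le; omega
    exact H S h
  · exact row_of_dl_two T I hc hp hd (dl_iso2F4 h hp h4)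

end

end Cfsg.Agent.H941.Dl.Fields
end

-- part: H70/Dl/Suz_mg
section
prune_inst 0x454703b7505e2020000040516c0007ec6ca000190100b8001c92401460480ee620902af2088801106022a220400350008130000f00200000004040400013d05a190ea540273c1411da6001f81108c610000008000000000000000000000000004014410000
set_option linter.all false
open scoped Cfsg.Agent.FastGrp

-- part: H70/Dl/Block
section
/-!
# Characters of degree divisible by a power of `p` from a non-principal block (helper70)

`B` a non-principal block with defect group `D`: `C(D)` contains an element of prime order `≠ p`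
(`exists_commuting`: a `B`-pair `(D, e)`, `e` is not principal by the third main theorem). So if `C(Q)` has a
non-principal block and `p ^ (b + 1)` does not divide `|C(y)|` for the elements `y` of `C(Q)` of prime order `≠ p`, there
are at least three characters of degree divisible by `p ^ a`, `p ^ (a + b) = |G|_p` (`nd_of_nonprincipal`).
-/

set_option autoImplicit false

open Cfsg

namespace Cfsg.Agent.H70.Dl.Block

open Cfsg.Agent.H651.Two Cfsg.Agent.H33 Subgroup
open Cfsg.Agent.Blocks.Basic Cfsg.Agent.Blocks.Local Cfsg.Agent.H299.Two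

universe u

variable {G : Type u} [Group G] [Finite G] {p : ℕ} [hp : Fact p.Prime] {M : Ideal AlgInt}

/-- All blocks of a `p`-group are principal. -/
theorem eq_principal_of_pgroup (hM : IsPModular p M) {X : Type u} [Group X] [Finite X] (hX : IsPGroup p X)
    {e : Set (IrrCharacter X)} (he : IsPBlock M e) : e = principalBlock M X := by
  have hMp : M.IsPrime := isPrime_of_isPModular hM
  have hs : IsPSolvable p X := by
    have hn := hX.isNilpotent
    have hs : Group.IsSolvable X := inferInstance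
    exact Lib.PSolvable.IsPSolvable_of_solvable p
  have hbot : pPrimeCore p X = ⊥ := by
    have h1 := Lib.Cores.pPrimeCore_coprime (G := X) p
    obtain ⟨n, hn⟩ := IsPGroup.iff_card.1 (hX.to_subgroup (pPrimeCore p X))
    rw [hn] at h1
    rcases Nat.eq_zero_or_pos n with h0 | h0
    · rw [h0, pow_zero] at hn
      exact Subgroup.eq_bot_of_card_eq _ hn
    · exfalso
      rw [Nat.coprime_pow_left_iff h0] at h1
      exact absurd ((Nat.coprime_self p).1 h1) hp.out.one_lt.ne'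
  have h2 := SuzukiRankOne.M1Average.principalBlock_eq hM hs
  obtain ⟨χ, hχ⟩ := isPBlock_nonempty he
  refine isPBlock_eq_of_mem he ⟨⟨fun _ => 1, one_irr X⟩, rfl⟩ hχ ?_
  show χ ∈ principalBlock M X
  rw [h2]
  intro n hn
  rw [hbot, Subgroup.mem_bot] at hn
  rw [hn]

/-- **The centralizer of a defect group of a non-principal block is not a `p`-group.** -/
theorem exists_commuting (hM : IsPModular p M) {B : Set (IrrCharacter G)} (hB : IsPBlock M B)
    (hne : B ≠ principalBlock M G) {D : Subgroup G} (hD : IsDefectGroup p M B D) :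
    ∃ y ∈ centralizer (D : Set G), (orderOf y).Prime ∧ orderOf y ≠ p := by
  classical
  have := Fintype.ofFinite G
  have hMp := isPrime_of_isPModular hM
  by_contra hcon
  push Not at hcon
  have hpg : IsPGroup p (centralizer (D : Set G)) := by
    have hpos : 0 < Nat.card (centralizer (D : Set G)) := Nat.card_pos
    refine IsPGroup.of_card (n := (Nat.card (centralizer (D : Set G))).primeFactorsList.length)
      (Nat.eq_prime_pow_of_unique_prime_dvd hpos.ne' ?_)
    intro q hq hqd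
    have : Fact q.Prime := ⟨hq⟩
    obtain ⟨x, hx⟩ := exists_prime_orderOf_dvd_card' (G := centralizer (D : Set G)) q hqd
    have hx' : orderOf (x : G) = q := by rw [Subgroup.orderOf_coe, hx]
    have h1 := hcon x x.2 (by rw [hx']; exact hq)
    rw [← hx', h1]
  obtain ⟨e, he⟩ := H644.exists_pair_of_le_isDefectGroup hM hB hD le_rfl
  have he1 : e = principalBlock M (centralizer (D : Set G)) := eq_principal_of_pgroup hM hpg he.1.2
  have h1 := (S4663.result p M hM D (isPGroup_of_isDefectGroup hD) e he.1.2).2 he1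
  exact hne ((H644.existsUnique_isBrauerPairOf hM he.1).unique he h1)

/-- **Three characters of degree divisible by `p ^ a`.** -/
theorem nd_of_nonprincipal {Q : Subgroup G} (hQ : IsPGroup p Q) (h3 : 3 ≤ Nat.card Q)
    (h : ∀ M : Ideal AlgInt, IsPModular p M →
      ∃ e : Set (IrrCharacter (centralizer (Q : Set G))), IsPBlock M e ∧
        e ≠ principalBlock M (centralizer (Q : Set G))) {a b : ℕ} (hab : p ^ (a + b) ∣ Nat.card G)
    (hb : ∀ y ∈ centralizer (Q : Set G), (orderOf y).Prime → orderOf y ≠ p →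
      ¬ p ^ (b + 1) ∣ Nat.card (centralizer ({y} : Set G))) : 3 ≤ ND (p ^ a) G := by
  classical
  have := Fintype.ofFinite G
  obtain ⟨M, hM⟩ := Cfsg.Agent.Blocks.Knorr.exists_isPModular p
  have hMp := isPrime_of_isPModular hM
  obtain ⟨e, he, hne⟩ := h M hM
  obtain ⟨B, hB, -⟩ := H644.existsUnique_isBrauerPairOf hM (P := Q) (e := e) ⟨hQ, he⟩
  have hBne : B ≠ principalBlock M G := by
    rintro rfl
    exact hne ((S4663.result p M hM Q hQ e he).1 hB)
  obtain ⟨D, hD, hQD⟩ := H644.exists_isDefectGroup_of_pair hM hB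
  obtain ⟨y, hy, hy1, hy2⟩ := exists_commuting hM hB.2.1 hBne hD
  have hyQ : y ∈ centralizer (Q : Set G) := centralizer_le hQD hy
  have hDy : D ≤ centralizer ({y} : Set G) := by
    intro d hd
    rw [mem_centralizer_singleton_iff]
    exact mem_centralizer_iff.1 hy d hd
  obtain ⟨n, hn⟩ := IsPGroup.iff_card.1 (isPGroup_of_isDefectGroup hD)
  have hnb : n ≤ b := by
    by_contra hcon
    push Not at hcon
    refine hb y hyQ hy1 hy2 ?_
    refine (Nat.pow_dvd_pow p (show b + 1 ≤ n from hcon)).trans ?_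
    rw [← hn]
    exact card_dvd_of_le hDy
  have hfin : Finite (IrrCharacter G) := Cfsg.Agent.Characters.Core.finite_irr
  refine (three_le_card_block hM hB.2.1 hD (h3.trans (card_le_of_le hQD))).trans
    (Nat.card_mono (Set.toFinite _) ?_)
  intro χ hχ
  have h1 := Cfsg.Agent.H592.Defect.le_degree_add p hM hB.2.1 hD hχ
  rw [hn, hp.out.factorization_pow, Finsupp.single_eq_same] at h1
  have h2 := (hp.out.pow_dvd_iff_le_factorization Nat.card_pos.ne').1 hab
  exact (hp.out.pow_dvd_iff_le_factorization (charDegree_pos χ.2).ne').2 (by omega)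

/-- The same with a character of a quotient of `C(Q)` vanishing on a class of order prime to `p`. -/
theorem nd_of_hom {Q : Subgroup G} (hQ : IsPGroup p Q) (h3 : 3 ≤ Nat.card Q) {K : Type*} [Group K] [Finite K]
    (f : centralizer (Q : Set G) →* K) (hf : Function.Surjective f) {χ : K → ℂ} (hχ : IsIrrCharacter K χ)
    {x : centralizer (Q : Set G)} (hx : ∀ y, f y * f x = f x * f y → y * x = x * y)
    (hi : ¬ p ∣ (centralizer ({f x} : Set K)).index) (h0 : χ (f x) = 0) {a b : ℕ} (hab : p ^ (a + b) ∣ Nat.card G)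
    (hb : ∀ y ∈ centralizer (Q : Set G), (orderOf y).Prime → orderOf y ≠ p →
      ¬ p ^ (b + 1) ∣ Nat.card (centralizer ({y} : Set G))) : 3 ≤ ND (p ^ a) G := by
  refine nd_of_nonprincipal hQ h3 (fun M hM => ?_) hab hb
  refine ⟨_, ⟨⟨χ ∘ f, Cfsg.Agent.Characters.Core.isIrr_comp f hf hχ⟩, rfl⟩, ne_principal hM _ (x := x) ?_ h0⟩
  have h1 : centralizer ({x} : Set (centralizer (Q : Set G))) = (centralizer ({f x} : Set K)).comap f := by
    ext y
    rw [mem_comap, mem_centralizer_singleton_iff, mem_centralizer_singleton_iff]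
    constructor
    · intro h
      rw [← map_mul, h, map_mul]
    · exact hx y
  rw [h1, index_comap_of_surjective _ hf]
  exact hi

end Cfsg.Agent.H70.Dl.Block
end

-- part: H70/Dl/SuzDl
section
/-!
# The derived length of a Sylow 2-subgroup of `Suz` (helper70)

`T = R (T₀ × ⟨τ⟩)`, `R = 2^(2+8)`, `T₀` a Sylow 2-subgroup of `L`, `|L| = 60`: `[T, T] ≤ R`, `[R, R] ≤ V`, `|V| = 4`.
-/

set_option autoImplicit false

open Cfsg

namespace Cfsg.Agent.H70.Dl.SuzDl

open Cfsg.Agent.H246.Dl Cfsg.Agent.H70.Dl Subgroup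
open Cfsg.Agent.LargeExtra Cfsg.Agent.LargeExtra.FourGroup

section prod

variable {G : Type*} [Group G]

/-- The product of `R` and a subgroup normalizing it. -/
def prodSub (R B : Subgroup G) (h : ∀ b ∈ B, ∀ r ∈ R, b * r * b⁻¹ ∈ R) : Subgroup G where
  carrier := {x | ∃ r ∈ R, ∃ b ∈ B, x = r * b}
  one_mem' := ⟨1, one_mem _, 1, one_mem _, by simp⟩
  mul_mem' := by
    rintro _ _ ⟨r, hr, b, hb, rfl⟩ ⟨r', hr', b', hb', rfl⟩
    exact ⟨r * (b * r' * b⁻¹), mul_mem hr (h b hb r' hr'), b * b', mul_mem hb hb', by group⟩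
  inv_mem' := by
    rintro _ ⟨r, hr, b, hb, rfl⟩
    refine ⟨b⁻¹ * r⁻¹ * b⁻¹⁻¹, h _ (inv_mem hb) _ (inv_mem hr), b⁻¹, inv_mem hb, by group⟩

theorem card_prodSub {R B : Subgroup G} {h : ∀ b ∈ B, ∀ r ∈ R, b * r * b⁻¹ ∈ R} (h1 : ∀ x ∈ B, x ∈ R → x = 1) :
    Nat.card (prodSub R B h) = Nat.card R * Nat.card B :=
  card_mul_of_compl (fun r hr => ⟨r, hr, 1, one_mem _, by simp⟩) (fun b hb => ⟨1, one_mem _, b, hb, by simp⟩) h1
    (fun _ hc => hc)

/-- If `B` is abelian then `[R B, R B] ≤ R`. -/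
theorem commutator_prodSub {R B : Subgroup G} {h : ∀ b ∈ B, ∀ r ∈ R, b * r * b⁻¹ ∈ R}
    (hB : ∀ a ∈ B, ∀ b ∈ B, a * b = b * a) : ⁅prodSub R B h, prodSub R B h⁆ ≤ R := by
  rw [commutator_le]
  rintro _ ⟨r, hr, b, hb, rfl⟩ _ ⟨r', hr', b', hb', rfl⟩
  rw [commutatorElement_def]
  have e : r * b * (r' * b') * (r * b)⁻¹ * (r' * b')⁻¹ =
      r * (b * r' * b⁻¹) * (b * b' * b⁻¹ * r⁻¹ * (b * b' * b⁻¹)⁻¹) * (b * b' * b⁻¹ * b'⁻¹) * r'⁻¹ := by group
  rw [e]
  have e2 : b * b' * b⁻¹ = b' := by rw [hB b hb b' hb', mul_inv_cancel_right]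
  rw [e2, mul_inv_cancel, mul_one]
  exact mul_mem (mul_mem (mul_mem hr (h b hb r' hr')) (h b' hb' _ (inv_mem hr))) (inv_mem hr')

end prod

section

variable {G : Type*} [Group G] {Q P : Subgroup G} {z y : G}

/-- **The derived length in the Suzuki type.** -/
theorem dlLe_of_hyp [Finite G] (H : SuzHyp Q z) (h : Ctx Q P z y) (hG : (Nat.card G).factorization 2 = 13) :
    DlLe 2 3 G := by
  have h2 : Fact (Nat.Prime 2) := ⟨Nat.prime_two⟩
  obtain ⟨f, τ, F, hτQ, hτ2, -, hτy, hτL, -, hLR, -, -, -, hV, cR, cL, -⟩ := H.four h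
  -- a Sylow 2-subgroup of `L`
  obtain ⟨T1⟩ : Nonempty (Sylow 2 (h.L f)) := inferInstance
  have cT1 : Nat.card T1 = 4 := by
    rw [T1.card_eq_multiplicity, cL, show (60 : ℕ) = 2 ^ 2 * 15 by norm_num,
      Nat.factorization_mul (by norm_num) (by norm_num), Nat.factorization_pow, Finsupp.add_apply,
      Nat.factorization_eq_zero_of_not_dvd (n := 15) (p := 2) (by norm_num)]
    simp [Nat.Prime.factorization_self Nat.prime_two]
  set T0 : Subgroup G := (T1 : Subgroup (h.L f)).map (h.L f).subtype with hT0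
  have cT0 : Nat.card T0 = 4 := by
    rw [← cT1]
    exact (Nat.card_congr ((T1 : Subgroup (h.L f)).equivMapOfInjective _ (h.L f).subtype_injective).toEquiv).symm
  have hT0L : T0 ≤ h.L f := by
    rintro _ ⟨x, -, rfl⟩
    exact x.2
  have hT0c : ∀ a ∈ T0, ∀ b ∈ T0, a * b = b * a := by
    have hcomm : ∀ a b : T0, a * b = b * a :=
      (IsPGroup.commGroupOfCardEqPrimeSq (p := 2) (by rw [cT0]; norm_num)).mul_comm
    intro a ha b hb
    exact congrArg Subtype.val (hcomm ⟨a, ha⟩ ⟨b, hb⟩)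
  have hLCV : h.L f ≤ CV z y := fun x hx => (h.mem_L.mp hx).1
  have hτCV : τ ∉ CV z y := by
    intro hc
    have h1 := (mem_CV.mp hc).2
    rw [h1, mul_inv_cancel_right] at hτy
    exact h.z1 (by
      have h3 : 1 * y = z * y := by rw [one_mul]; exact hτy
      exact (mul_right_cancel h3).symm)
  have hz : ∀ s ∈ zpowers τ, s = 1 ∨ s = τ := by
    intro s hs
    obtain ⟨k, rfl⟩ := mem_zpowers_iff.1 hs
    rcases Int.even_or_odd' k with ⟨m, rfl | rfl⟩
    · left
      rw [zpow_mul, show τ ^ (2 : ℤ) = 1 by rw [zpow_ofNat, pow_two, hτ2], one_zpow]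
    · right
      rw [zpow_add, zpow_mul, show τ ^ (2 : ℤ) = 1 by rw [zpow_ofNat, pow_two, hτ2], one_zpow, one_mul, zpow_one]
  -- the abelian group `B = T₀ × ⟨τ⟩`
  have hsT : ∀ s ∈ zpowers τ, ∀ t ∈ T0, s * t = t * s := by
    intro s hs t ht
    rcases hz s hs with rfl | rfl
    · simp
    · exact hτL t (hT0L ht)
  set B : Subgroup G := prodSub T0 (zpowers τ) (fun s hs t ht => by
    rw [hsT s hs t ht, mul_inv_cancel_right]
    exact ht) with hB
  have cτ : Nat.card (zpowers τ) = 2 := by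
    rw [Nat.card_zpowers, orderOf_eq_prime_iff]
    exact ⟨by rw [pow_two, hτ2], fun h1 => hτCV (by rw [h1]; exact one_mem _)⟩
  have cB : Nat.card B = 8 := by
    rw [hB, card_prodSub, cT0, cτ]
    intro x hx hxT
    rcases hz x hx with rfl | rfl
    · rfl
    · exact absurd (hLCV (hT0L hxT)) hτCV
  have hBc : ∀ a ∈ B, ∀ b ∈ B, a * b = b * a := by
    rintro _ ⟨t, ht, s, hs, rfl⟩ _ ⟨t', ht', s', hs', rfl⟩
    have e1 : s * s' = s' * s := by
      rcases hz s hs with rfl | rfl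
      · simp
      · rcases hz s' hs' with rfl | rfl
        · simp
        · rfl
    calc t * s * (t' * s') = t * (s * t') * s' := by group
      _ = (t * t') * (s * s') := by rw [hsT s hs t' ht']; group
      _ = (t' * t) * (s' * s) := by rw [hT0c t ht t' ht', e1]
      _ = t' * (t * s') * s := by group
      _ = t' * s' * (t * s) := by rw [← hsT s' hs' t ht]; group
  have hBR : ∀ b ∈ B, ∀ r ∈ h.R, b * r * b⁻¹ ∈ h.R := by
    rintro _ ⟨t, ht, s, hs, rfl⟩ r hr
    have e1 : s * r * s⁻¹ ∈ h.R := by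
      rcases hz s hs with rfl | rfl
      · simpa using hr
      · exact h.conj_R_Q hτQ hr
    have e2 := h.conj_R_CV (hLCV (hT0L ht)) e1
    have e3 : t * s * r * (t * s)⁻¹ = t * (s * r * s⁻¹) * t⁻¹ := by group
    rw [e3]
    exact e2
  have hRB : ∀ x ∈ B, x ∈ h.R → x = 1 := by
    rintro _ ⟨t, ht, s, hs, rfl⟩ hx
    have h3 : s ∈ CV z y := by
      have := mul_mem (inv_mem (hLCV (hT0L ht))) (h.R_le_CV hx)
      rwa [inv_mul_cancel_left] at this
    rcases hz s hs with rfl | rfl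
    · rw [mul_one] at hx ⊢
      exact hLR t (hT0L ht) hx
    · exact absurd h3 hτCV
  have cT : Nat.card (prodSub h.R B hBR) = 2 ^ 13 := by
    rw [card_prodSub hRB, cR, cB]
    norm_num
  let T : Sylow 2 G := Sylow.ofCard (prodSub h.R B hBR) (by rw [cT, hG])
  refine DlLe.of_sylow T ?_
  show derivedSeries ↥(prodSub h.R B hBR) 3 = ⊥
  refine chain_three (R := h.R) (V := h.V) (commutator_prodSub hBc) ?_ ?_
  · rw [commutator_le]
    intro a ha b hb
    rw [commutatorElement_def]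
    exact h.comm_R hV ha hb
  · exact commutator_eq_bot_of_comm fun a ha b hb => h.V_comm_CV hb (h.V_le_CV ha)

end

universe u

/-- **`Suz`**: the Sylow 2-subgroups have derived length at most 3. -/
theorem dlLe_suz {S : Type u} [Group S] (hS : Spor.IsoSuz S) : DlLe 2 3 S := by
  have h2 : Fact (Nat.Prime 2) := ⟨Nat.prime_two⟩
  obtain ⟨A, hA, hn, X, iX, fX, hX, hs, hnc, z, hz, Q, hQn, hF, hQ, hc, ⟨e⟩, g, ⟨hq, hgQ⟩, hne⟩ :=
    Cfsg.Agent.S5389.result
  have hXS : Spor.IsoSuz X := Cfsg.Agent.S1719.result z hz Q hF hQ hc e ⟨g, ⟨hq, hgQ⟩, hne⟩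
  have H := SuzHyp.of_statement z hz Q hF hQ hc e
  have hyQ : g * z * g⁻¹ ∈ Q.map (centralizer ({z} : Set X)).subtype := ⟨_, hgQ, rfl⟩
  have hctx := ctx_of_data H.data rfl hne hyQ H.z_ne rfl
  have hcX := NotCT.Orders.suz hXS
  have h3 : DlLe 2 3 X := by
    refine dlLe_of_hyp H hctx ?_
    rw [hcX, show (448345497600 : ℕ) = 2 ^ 13 * 54729675 by norm_num,
      Nat.factorization_mul (by norm_num) (by norm_num), Nat.factorization_pow, Finsupp.add_apply,
      Nat.factorization_eq_zero_of_not_dvd (n := 54729675) (p := 2) (by norm_num)]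
    simp [Nat.Prime.factorization_self Nat.prime_two]
  have hfS : Finite S := Nat.finite_of_card_ne_zero (by rw [NotCT.Orders.suz hS]; norm_num)
  obtain ⟨e1⟩ := hS
  obtain ⟨e2⟩ := hXS
  exact DlLe.of_equiv (e1.trans e2.symm) h3

/-- **`Suz`**: the Sylow 3-subgroups have derived length at most 2 (`3 ^ 5 : M₁₁`). -/
theorem dlLe_suz_three {S : Type u} [Group S] (hS : Spor.IsoSuz S) : DlLe 3 2 S := by
  have h3 : Fact (Nat.Prime 3) := ⟨Nat.prime_three⟩
  have hcS := NotCT.Orders.suz hS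
  have hfS : Finite S := Nat.finite_of_card_ne_zero (by rw [hcS]; norm_num)
  obtain ⟨e⟩ := hS
  obtain ⟨hE, hc, -, hn, hq⟩ := Cfsg.Agent.SuzThree.Final.transport e.symm
  refine dlLe_two_of_abelian (k := 5) (A := Cfsg.Agent.SuzThree.Elementary.A0.map e.symm.toMonoidHom) ?_ hc ?_ ?_
  · intro a ha b hb
    exact congrArg Subtype.val (hE.1.is_comm.comm ⟨a, ha⟩ ⟨b, hb⟩)
  · have h1 := Subgroup.card_eq_card_quotient_mul_card_subgroup
      ((Cfsg.Agent.SuzThree.Elementary.A0.map e.symm.toMonoidHom).subgroupOf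
        (normalizer ((Cfsg.Agent.SuzThree.Elementary.A0.map e.symm.toMonoidHom : Subgroup S) : Set S)))
    rw [NotCT.Orders.m11 hq, Nat.card_congr (subgroupOfEquivOfLe le_normalizer).toEquiv, hc] at h1
    rw [h1]
    exact ⟨880, by norm_num⟩
  · rw [hcS, show (448345497600 : ℕ) = 3 ^ 7 * 205004800 by norm_num,
      Nat.factorization_mul (by norm_num) (by norm_num), Nat.factorization_pow, Finsupp.add_apply,
      Nat.factorization_eq_zero_of_not_dvd (n := 205004800) (p := 3) (by norm_num)]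
    simp [Nat.Prime.factorization_self Nat.prime_three]

end Cfsg.Agent.H70.Dl.SuzDl
end

-- part: H70/Dl/Suz
section
/-!
# S4769: the row of `Suz` (helper70)

`p = 2`: a non-principal block with defect group of order at most 8 (the elements of odd prime order `y` of `C(V)`,
`V` a four group of class 2B, have `16 ∤ |C(y)|`) and the degree 780.
-/

set_option autoImplicit false

open Cfsg

namespace Cfsg.Agent.H70.Dl.Suz

open Cfsg.Agent.H246.Dl Cfsg.Agent.H596.OneFacts Cfsg.Agent.H651.Two Cfsg.Agent.H759.Dl Cfsg.Agent.H680.Dl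
open Cfsg.Agent.H70.Dl Subgroup
open Cfsg.Agent.KFacts.SuzLFour Cfsg.Agent.KFacts.SuzTwoB Cfsg.Agent.H299.Two.Suz
open Cfsg.Spor (Suz)

universe u

/-- elements of odd prime order of `C(V)` -/
theorem not_dvd {y : Suz} (hy : y ∈ centralizer ((V : Subgroup Suz) : Set Suz)) (hp : (orderOf y).Prime)
    (h2 : orderOf y ≠ 2) : ¬ 2 ^ (3 + 1) ∣ Nat.card (centralizer ({y} : Set Suz)) := by
  have he0 : e0 ∈ V := mem_V.2 (Or.inr (Or.inl rfl))
  have hc : y * e0 = e0 * y := ((mem_centralizer_iff.1 hy) e0 he0).symm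
  have hL : y ∈ L := H812.SuzLoc.mem_L_of_odd (mem_CE.2 hc) (hp.odd_of_ne_two h2) (pow_orderOf_eq_one y)
  have hd : orderOf y ∣ 20160 := by
    have := H812.SuzLoc.finL
    rw [← card_L]
    have h1 := orderOf_dvd_natCard (⟨y, hL⟩ : ↥L)
    rwa [← Subgroup.orderOf_coe] at h1
  have h3 : orderOf y = 3 ∨ orderOf y = 5 ∨ orderOf y = 7 := by
    have h4 : orderOf y ∈ (20160 : ℕ).primeFactors := Nat.mem_primeFactors.2 ⟨hp, hd, by norm_num⟩
    rw [show (20160 : ℕ).primeFactors = {2, 3, 5, 7} by decide +kernel] at h4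
    simp only [Finset.mem_insert, Finset.mem_singleton] at h4
    rcases h4 with h4 | h4 | h4 | h4
    · exact absurd h4 h2
    · exact Or.inl h4
    · exact Or.inr (Or.inl h4)
    · exact Or.inr (Or.inr h4)
  intro h
  rcases h3 with h3 | h3 | h3
  · rw [CpAutSuz.ThreeC.card_of_comm h3 hc] at h
    norm_num at h
  · rcases H812.SuzLoc.card_cases hL (Or.inr rfl) h3 with h4 | h4 | h4 <;> rw [h4] at h <;> norm_num at h
  · rcases H812.SuzLoc.card_cases hL (Or.inl rfl) h3 with h4 | h4 | h4 <;> rw [h4] at h <;> norm_num at h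

theorem nd : 3 ≤ ND (2 ^ 10) Suz := by
  have hp2 : Fact (Nat.Prime 2) := ⟨Nat.prime_two⟩
  have hV : IsPGroup 2 V := IsPGroup.of_card (n := 2) (by rw [card_V]; norm_num)
  obtain ⟨e⟩ := equiv_cent
  let K := Cfsg.Agent.CTwoTab.SuzPlane.PSL3
  let f : centralizer ((V : Subgroup Suz) : Set Suz) →* K :=
    (Cfsg.Agent.CTwoTab.SuzPlane.equiv.toMonoidHom.comp (MonoidHom.snd ↥V ↥L)).comp e.toMonoidHom
  have hf : Function.Surjective f := by
    intro k
    refine ⟨e.symm (1, Cfsg.Agent.CTwoTab.SuzPlane.equiv.symm k), ?_⟩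
    show Cfsg.Agent.CTwoTab.SuzPlane.equiv (e (e.symm (1, Cfsg.Agent.CTwoTab.SuzPlane.equiv.symm k))).2 = k
    rw [e.apply_symm_apply]
    exact Cfsg.Agent.CTwoTab.SuzPlane.equiv.apply_symm_apply k
  have hcK : Nat.card K = 20160 := Cfsg.Agent.CTwoTab.SuzPlane.card_PSL3
  have hfK : Finite K := Nat.finite_of_card_ne_zero (by rw [hcK]; norm_num)
  have hchar : CharP Cfsg.Agent.SporadicA.FieldFour.F4 2 :=
    CharTwo.of_one_ne_zero_of_two_eq_zero one_ne_zero (by decide)
  obtain ⟨χ, hχ, hχP⟩ := Cfsg.Agent.S2544.result (F := Cfsg.Agent.SporadicA.FieldFour.F4) 2 3 (by norm_num)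
  obtain ⟨T⟩ : Nonempty (Sylow 2 K) := inferInstance
  obtain ⟨s, hsT, hs1, hsi⟩ := Cfsg.Agent.H299.Two.exists_center_sylow (p := 2) (K := K) (by rw [hcK]; norm_num) T
  let x : centralizer ((V : Subgroup Suz) : Set Suz) := e.symm (1, Cfsg.Agent.CTwoTab.SuzPlane.equiv.symm s)
  have hex : e x = (1, Cfsg.Agent.CTwoTab.SuzPlane.equiv.symm s) := e.apply_symm_apply _
  have hfx : f x = s := by
    show Cfsg.Agent.CTwoTab.SuzPlane.equiv (e x).2 = s
    rw [hex]
    exact Cfsg.Agent.CTwoTab.SuzPlane.equiv.apply_symm_apply s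
  refine Block.nd_of_hom (a := 10) (b := 3) hV (by rw [card_V]; norm_num) f hf hχ (x := x) ?_
    (by rw [hfx]; exact hsi) (by rw [hfx]; exact (hχP T).2 s hsT hs1) (by rw [card_Suz]; norm_num)
    (fun y hy h1 h2 => not_dvd hy h1 h2)
  intro y hy
  apply e.injective
  rw [map_mul, map_mul, hex]
  have h1 : (e y).2 * (e x).2 = (e x).2 * (e y).2 := by
    apply Cfsg.Agent.CTwoTab.SuzPlane.equiv.injective
    rw [map_mul, map_mul]
    exact hy
  rw [hex] at h1
  exact Prod.ext (by simp) h1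

theorem many_Suz : Many 2 Suz 3 := by
  have h2 : Fact (Nat.Prime 2) := ⟨Nat.prime_two⟩
  have h3 := nd
  obtain ⟨χ, h4, h5⟩ := many_of_nd (p := 2 ^ 10) (m := 2) (S := Suz) (by
    have : Nat.card (Out Suz) = 2 := Cfsg.Agent.S2074.result
    omega)
  obtain ⟨ψ, hψ⟩ := (Cfsg.Agent.H672.SporIM.suz (K := Suz) ⟨MulEquiv.refl _⟩).2
  refine H454.DlCrit.Many.cons_of_degree χ (fun i => (Dvd.intro_left (2 ^ 9) rfl).trans (h4 i)) h5 ψ
    (by rw [hψ]; norm_num) (fun i h => ?_)
  have h6 := h4 i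
  rw [← h, hψ] at h6
  norm_num at h6

theorem many_suz {S : Type u} [Group S] (h : Spor.IsoSuz S) : Many 2 S 3 := by
  obtain ⟨e⟩ := h
  exact Many.of_equiv e many_Suz

/-- **`Suz`** -/
theorem row_suz (T : FactTwo.{u}) (I : H671.H5.FactIM.{u}) : RowF.{u} (fun S => Spor.IsoSuz S) := by
  intro S _ _ _ h p hp hd
  have hcard : Nat.card S = 448345497600 := NotCT.Orders.suz h
  by_cases hp2 : p = 2
  · subst hp2
    exact ⟨3, SuzDl.dlLe_suz h, many_suz h⟩
  by_cases hp3 : p = 3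
  · subst hp3
    exact row_of_dl_two T I (not_comm (by rw [hcard]; norm_num)) hp hd (SuzDl.dlLe_suz_three h)
  refine row_of_arith T I hcard (by norm_num) hp hd fun h6 => ?_
  have h7 : p ^ 6 ≤ 448345497600 := Nat.le_of_dvd (by norm_num) h6
  have h8 : p ≤ 87 := by
    by_contra hcon
    have : 88 ^ 6 ≤ p ^ 6 := Nat.pow_le_pow_left (by omega) 6
    omega
  have h9 : p ∈ (448345497600 : ℕ).primeFactors :=
    Nat.mem_primeFactors.2 ⟨hp, (dvd_pow_self p (by norm_num)).trans h6, by norm_num⟩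
  rw [show (448345497600 : ℕ).primeFactors = {2, 3, 5, 7, 11, 13} by decide +kernel] at h9
  simp only [Finset.mem_insert, Finset.mem_singleton] at h9
  rcases h9 with rfl | rfl | rfl | rfl | rfl | rfl
  · exact hp2 rfl
  · exact hp3 rfl
  all_goals (revert h6; norm_num)

end Cfsg.Agent.H70.Dl.Suz
end

-- part: H633/Dl/Co3
section
/-!
# S4769: the row of `Co₃` (helper633, task 2517)

`p = 2`: three 7-blocks, `C(x) = 7 × S₃` for an element `x` of order seven; `p = 3`: an element of order three whose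
centralizer has a character of degree 27.
-/

set_option autoImplicit false

namespace Cfsg.Agent.H633.Dl.Co3

open Subgroup Cfsg Cfsg.Agent.H246.Dl Cfsg.Agent.H771.KSp6 Cfsg.Agent.SporRec.TwoSp6.Sp
open Cfsg.Agent.H593.D1Local

universe u

/-- Elements of a double cover of `Sp₆(2)`. -/
theorem exists_data {C : Type*} [Group C] {z : C} {π : C →* S} (E : SporRec.TwoSp6.Lift.Ext z π) :
    ∃ y g h : C, orderOf y = 7 ∧ g * y * g⁻¹ = y⁻¹ ∧ h * y * h⁻¹ = y * y ∧
      ∀ w : C, w * w * w = 1 → y * w = w * y → w = 1 := by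
  have : Fact (Nat.Prime 7) := ⟨by norm_num⟩
  obtain ⟨x, hx⟩ := E.surj (ev [0, 3, 5, 2, 4, 6])
  obtain ⟨g, hg⟩ := E.surj (ev [0, 3, 5])
  obtain ⟨k, hk⟩ := E.surj (ev SpSeven3.w3)
  have hz2 : z ^ 2 = 1 := by rw [sq, E.z_sq]
  have hx7 : (x ^ 7) ^ 2 = 1 := by
    rcases E.ker (x ^ 7) (by rw [map_pow, hx, H769.PB.CoThreeTwo.c_pow]) with h | h
    · rw [h, one_pow]
    · rw [h, hz2]
  have hy7 : (x ^ 8) ^ 7 = 1 := by
    rw [← pow_mul, show 8 * 7 = 7 * (2 * 4) by norm_num, pow_mul, pow_mul, hx7, one_pow]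
  have hπy : π (x ^ 8) = ev [0, 3, 5, 2, 4, 6] := by
    rw [map_pow, hx, pow_succ, H769.PB.CoThreeTwo.c_pow, one_mul]
  have hyo : orderOf (x ^ 8) = 7 := by
    refine orderOf_eq_prime hy7 ?_
    intro h
    rw [h, map_one] at hπy
    exact H769.PB.CoThreeTwo.c_ne hπy.symm
  have h3 : z ^ 7 = z := by
    rw [show 7 = 2 * 3 + 1 by norm_num, pow_succ, pow_mul, hz2, one_pow, one_mul]
  -- a conjugate of `y` equal to `z u`, `u⁷ = 1`, is impossible
  have hno : ∀ a u : C, u ^ 7 = 1 → a * x ^ 8 * a⁻¹ * u⁻¹ ≠ z := by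
    intro a u hu h
    have h1 : a * x ^ 8 * a⁻¹ = z * u := by rw [← h, inv_mul_cancel_right]
    have h2 : (a * x ^ 8 * a⁻¹) ^ 7 = 1 := by
      rw [conj_pow, hy7, mul_one, mul_inv_cancel]
    have hcz : Commute z u := E.z_comm _
    rw [h1, hcz.mul_pow, hu, mul_one, h3] at h2
    exact E.z_ne h2
  refine ⟨x ^ 8, g, k, hyo, ?_, ?_, ?_⟩
  · have hab : ev [0, 3, 5, 2, 4, 6] = ev [0, 3, 5] * ev [2, 4, 6] :=
      H769.PB.CoThreeTwo.ev_append [0, 3, 5] [2, 4, 6]
    have ha : ev [0, 3, 5] * ev [0, 3, 5] = 1 := by rw [← sq, H769.PB.CoThreeTwo.a_sq]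
    have hb : ev [2, 4, 6] * ev [2, 4, 6] = 1 := by rw [← sq, H769.PB.CoThreeTwo.b_sq]
    have hker : π (g * x ^ 8 * g⁻¹ * ((x ^ 8)⁻¹)⁻¹) = 1 := by
      rw [inv_inv, map_mul, map_mul, map_mul, map_inv, hπy, hg, hab, inv_eq_of_mul_eq_one_right ha]
      calc ev [0, 3, 5] * (ev [0, 3, 5] * ev [2, 4, 6]) * ev [0, 3, 5] * (ev [0, 3, 5] * ev [2, 4, 6])
          = (ev [0, 3, 5] * ev [0, 3, 5]) * (ev [2, 4, 6] * (ev [0, 3, 5] * ev [0, 3, 5]) * ev [2, 4, 6]) := by
            simp only [mul_assoc]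
        _ = 1 := by rw [ha, mul_one, one_mul, hb]
    rcases E.ker _ hker with h | h
    · exact mul_inv_eq_one.1 h
    · exact absurd h (hno g _ (by rw [inv_pow, hy7, inv_one]))
  · have hker : π (k * x ^ 8 * k⁻¹ * (x ^ 8 * x ^ 8)⁻¹) = 1 := by
      rw [map_mul, map_mul, map_mul, map_inv, map_inv, map_mul, hπy, hk, mul_inv_eq_one, mul_inv_eq_iff_eq_mul]
      exact SpSeven3.w3_conj
    rcases E.ker _ hker with h | h
    · exact mul_inv_eq_one.1 h
    · refine absurd h (hno k _ ?_)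
      rw [← sq, ← pow_mul, mul_comm, pow_mul, hy7, one_pow]
  · intro w hw hc
    have hpy : orderOf (π (x ^ 8)) = 7 := by
      rw [hπy]
      exact orderOf_eq_prime H769.PB.CoThreeTwo.c_pow H769.PB.CoThreeTwo.c_ne
    have h1 : π w = 1 := by
      refine SpSeven3.no_three hpy ?_ ?_
      · rw [← map_mul, ← map_mul, hw, map_one]
      · rw [← map_mul, ← map_mul, hc]
    rcases E.ker w h1 with h | h
    · exact h
    · exfalso
      rw [h, E.z_sq, one_mul] at hw
      exact E.z_ne hw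

open Cfsg.Agent.SporRec.Co3.Chain (G3 isCo3_G3)
open Cfsg.Agent.SporRec.Co3.Ident (Z)

theorem finite_G3 : Finite G3 := Nat.finite_of_card_ne_zero (by rw [isCo3_G3.2]; norm_num)

theorem iso_G3 : Spor.IsoCo3 G3 := ⟨SporRec.Co3.Model.equivCo3⟩

theorem inner_G3 : ∀ σ : MulAut G3, ∃ g : G3, σ = MulAut.conj g := inner_of_range (H555.TwoSp.range_conj iso_G3)

/-- **The elements of order seven.** -/
theorem seven : ∃ y : G3, orderOf y = 7 ∧ IsConj y y⁻¹ ∧
    Nat.card (centralizer ({y} : Set G3)) = 6 * 7 ∧ ∃ a b : G3, Commute a y ∧ Commute b y ∧ a * b ≠ b * a := by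
  have hfin := finite_G3
  have h7 : Fact (Nat.Prime 7) := ⟨by norm_num⟩
  have hcard : Nat.card G3 = 495766656000 := isCo3_G3.2
  have hG : ¬ 7 ^ 2 ∣ Nat.card G3 := by rw [hcard]; norm_num
  obtain ⟨π, N⟩ := KFacts.Co3D4.exists_NS_G3
  obtain ⟨y, g, k, hy, hgy, hky, hno⟩ := exists_data N.toExt
  have hyo : orderOf (y : G3) = 7 := by rw [Subgroup.orderOf_coe, hy]
  have hgy' : (g : G3) * y * (g : G3)⁻¹ = (y : G3)⁻¹ := congrArg Subtype.val hgy
  have hky' : (k : G3) * y * (k : G3)⁻¹ = (y : G3) * y := congrArg Subtype.val hky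
  have hyZ : Commute (Z : G3) (y : G3) := (mem_centralizer_singleton_iff.1 y.2).symm
  have hcen : Nat.card (centralizer ({(y : G3)} : Set G3)) = 6 * 7 := by
    obtain ⟨K, h, -⟩ := exists_setup hG hyo
    obtain ⟨k', m, hkm, hcn⟩ := H555.TwoSp.cn7 iso_G3
    obtain ⟨h1, h2⟩ := hcn (zpowers (y : G3)) (by rw [Nat.card_zpowers, hyo])
    have h3 := h.card_eq (T := centralizer ((zpowers (y : G3) : Subgroup G3) : Set G3))
      h.le_centralizer centralizer_le_normalizer
    have h4 := h.card_eq (T := normalizer ((zpowers (y : G3) : Subgroup G3) : Set G3))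
      (h.le_centralizer.trans centralizer_le_normalizer) le_rfl
    have hL : Nat.card (LL (zpowers (y : G3)) K) = k' := by
      change _ = Nat.card (LL (zpowers (y : G3)) K) * 7 at h3
      omega
    have hK : Nat.card K = m := by
      have h5 : Nat.card ((normalizer ((zpowers (y : G3) : Subgroup G3) : Set G3)).subgroupOf K) = Nat.card K := by
        rw [subgroupOf_eq_top.2 h.le, Nat.card_congr topEquiv.toEquiv]
      omega
    have hidx : (LL (zpowers (y : G3)) K).index * k' = m := by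
      rw [← hL, ← hK, mul_comm]
      exact card_mul_index _
    have hnorm := h.normal
    -- elements of `K`
    have hact : ∀ a : G3, (∃ i : ℕ, a * y * a⁻¹ = (y : G3) ^ i) → a * y * a⁻¹ ≠ 1 →
        ∃ b : K, (b : G3) * y * (b : G3)⁻¹ = a * y * a⁻¹ := by
      rintro a ⟨i, hi⟩ hne
      have haN : a ∈ normalizer ((zpowers (y : G3) : Subgroup G3) : Set G3) := by
        refine Cfsg.Agent.Blocks.CyclicLower2.mem_normalizer_of_conj_mem h7.out h.card
          (y := a * y * a⁻¹) (by rw [hi]; exact pow_mem (mem_zpowers _) i) hne a ?_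
        have : a⁻¹ * (a * y * a⁻¹) * a = y := by group
        rw [this]
        exact mem_zpowers _
      obtain ⟨b, hb, w, hw, rfl⟩ := h.mul a haN
      refine ⟨⟨b, hb⟩, ?_⟩
      have h6 : w * y * w⁻¹ = (y : G3) := by
        obtain ⟨j, rfl⟩ := mem_zpowers_iff.1 hw
        group
      calc b * y * b⁻¹ = b * (w * y * w⁻¹) * b⁻¹ := by rw [h6]
        _ = b * w * y * (b * w)⁻¹ := by group
    have hy1 : (y : G3) ≠ 1 := by
      intro h6
      rw [h6, orderOf_one] at hyo
      omega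
    have hpw : ∀ i : ℕ, (y : G3) ^ i = 1 → 7 ∣ i := fun i hi => hyo ▸ orderOf_dvd_of_pow_eq_one hi
    obtain ⟨b1, hb1⟩ := hact g ⟨6, by
        rw [hgy', inv_eq_iff_mul_eq_one, ← pow_succ', show 6 + 1 = orderOf (y : G3) from hyo.symm, pow_orderOf_eq_one]⟩
      (by rw [hgy']; exact inv_ne_one.2 hy1)
    obtain ⟨b2, hb2⟩ := hact k ⟨2, by rw [hky', pow_two]⟩ (by
      rw [hky', ← pow_two]
      intro h6
      have := hpw 2 h6
      omega)
    rw [hgy'] at hb1
    rw [hky', ← pow_two] at hb2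
    -- powers in `L`
    have hpow : ∀ b : K, ((b ^ (LL (zpowers (y : G3)) K).index : K) : G3) * y =
        y * ((b ^ (LL (zpowers (y : G3)) K).index : K) : G3) := by
      intro b
      have h6 := Subgroup.pow_index_mem (LL (zpowers (y : G3)) K) b
      have h7 := mem_LL.1 h6
      rw [centralizer_zpowers, mem_centralizer_singleton_iff] at h7
      exact h7
    -- the index
    have hb1' : ∀ n : ℕ, ((b1 : G3) ^ n) * y * ((b1 : G3) ^ n)⁻¹ = (y : G3) ^ (6 ^ n) := by
      intro n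
      induction n with
      | zero => simp
      | succ n ih =>
        rw [pow_succ' (b1 : G3)]
        calc (b1 : G3) * (b1 : G3) ^ n * y * ((b1 : G3) * (b1 : G3) ^ n)⁻¹
            = b1 * ((b1 : G3) ^ n * y * ((b1 : G3) ^ n)⁻¹) * (b1 : G3)⁻¹ := by group
          _ = (b1 * y * (b1 : G3)⁻¹) ^ (6 ^ n) := by rw [ih, conj_pow]
          _ = (y : G3) ^ (6 ^ (n + 1)) := by
            rw [hb1]
            have h6 : (y : G3)⁻¹ = (y : G3) ^ 6 := by
              rw [inv_eq_iff_mul_eq_one, ← pow_succ', show 6 + 1 = orderOf (y : G3) from hyo.symm,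
                pow_orderOf_eq_one]
            rw [h6, ← pow_mul, ← pow_succ']
    have hb2' : ∀ n : ℕ, ((b2 : G3) ^ n) * y * ((b2 : G3) ^ n)⁻¹ = (y : G3) ^ (2 ^ n) := by
      intro n
      induction n with
      | zero => simp
      | succ n ih =>
        rw [pow_succ' (b2 : G3)]
        calc (b2 : G3) * (b2 : G3) ^ n * y * ((b2 : G3) * (b2 : G3) ^ n)⁻¹
            = b2 * ((b2 : G3) ^ n * y * ((b2 : G3) ^ n)⁻¹) * (b2 : G3)⁻¹ := by group
          _ = (b2 * y * (b2 : G3)⁻¹) ^ (2 ^ n) := by rw [ih, conj_pow]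
          _ = (y : G3) ^ (2 ^ (n + 1)) := by rw [hb2, ← pow_mul, ← pow_succ']
    have hfix : ∀ (b : K) (n j : ℕ), (LL (zpowers (y : G3)) K).index = n →
        (b : G3) ^ n * y * ((b : G3) ^ n)⁻¹ = (y : G3) ^ (j + 1) → 7 ∣ j := by
      intro b n j hn hb
      have h6 := hpow b
      rw [hn] at h6
      push_cast at h6
      rw [h6, mul_inv_cancel_right, pow_succ] at hb
      exact hpw j (by
        have h8 : (y : G3) ^ j * y = 1 * y := by rw [← hb, one_mul]
        exact mul_right_cancel h8)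
    rcases hkm with ⟨rfl, rfl⟩ | ⟨rfl, rfl⟩ | ⟨rfl, rfl⟩ | ⟨rfl, rfl⟩
    · rw [← centralizer_zpowers, h1]
    · exfalso
      have hi : (LL (zpowers (y : G3)) K).index = 2 := by omega
      have := hfix b2 2 3 hi (by rw [hb2']; norm_num)
      omega
    · exfalso
      have hi : (LL (zpowers (y : G3)) K).index = 3 := by omega
      have := hfix b1 3 215 hi (by rw [hb1']; norm_num)
      omega
    · exfalso
      have hi : (LL (zpowers (y : G3)) K).index = 1 := by omega
      have := hfix b2 1 1 hi (by rw [hb2']; norm_num)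
      omega
  refine ⟨y, hyo, isConj_iff.2 ⟨g, hgy'⟩, hcen, ?_⟩
  have h3 : Fact (Nat.Prime 3) := ⟨Nat.prime_three⟩
  obtain ⟨w, hw⟩ := exists_prime_orderOf_dvd_card' (G := centralizer ({(y : G3)} : Set G3)) 3 (by rw [hcen]; norm_num)
  have hwo : orderOf (w : G3) = 3 := by rw [Subgroup.orderOf_coe, hw]
  have hwy : Commute (w : G3) (y : G3) := mem_centralizer_singleton_iff.1 w.2
  refine ⟨Z, w, hyZ, hwy, fun hc => ?_⟩
  have hwZ : (w : G3) ∈ centralizer ({Z} : Set G3) := mem_centralizer_singleton_iff.2 hc.symm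
  have h4 := hno ⟨(w : G3), hwZ⟩ (Subtype.ext (by
    show (w : G3) * w * w = 1
    have h5 := pow_orderOf_eq_one (w : G3)
    rw [hwo, pow_succ, pow_two] at h5
    exact h5)) (Subtype.ext hwy.symm.eq)
  have h5 : (w : G3) = 1 := congrArg Subtype.val h4
  rw [h5, orderOf_one] at hwo
  omega

theorem many_two : Many 2 G3 3 := by
  have hfin := finite_G3
  have h7 : Fact (Nat.Prime 7) := ⟨by norm_num⟩
  obtain ⟨y, h1, h2, h3, h4⟩ := seven
  obtain ⟨χ, h5, h6, -⟩ := three_even_of_cent (p := 7) (by norm_num) (by rw [isCo3_G3.2]; norm_num) h1 h2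
    (Or.inl rfl) h3 h4
  exact many_of_inner inner_G3 χ h5 h6

open Cfsg.Agent.H843.IMC.Co3B in
theorem many_three : Many 3 Gw 3 := by
  have h3 : Fact (Nat.Prime 3) := ⟨Nat.prime_three⟩
  have hfin : Finite Gw := Nat.finite_of_card_ne_zero (by rw [card_Gw]; norm_num)
  have hin : ∀ σ : MulAut Gw, ∃ g : Gw, σ = MulAut.conj g :=
    inner_of_range (H555.TwoSp.range_conj (by
      obtain ⟨f⟩ := nonempty_equiv
      exact ⟨f.symm⟩))
  refine many_of_ND hin (H651.Two.three_le_of_elt orderOf_x (by norm_num) (by rw [card_Gw]; norm_num) ?_)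
  rw [← KK_eq]
  obtain ⟨θ, hθ, -⟩ := exists_theta
  refine ⟨θ, ?_⟩
  have h1 : (Nat.card ↥KK).factorization 3 ≤ 4 := by
    by_contra hcon
    exact not_dvd_KK ((Nat.prime_three.pow_dvd_iff_le_factorization Nat.card_pos.ne').2 (by omega))
  have h2 : (charDegree (θ : ↥KK → ℂ)).factorization 3 = 3 := by
    rw [hθ, show (27 : ℕ) = 3 ^ 3 by norm_num, Nat.prime_three.factorization_pow]
    simp
  rw [h2]
  exact h1

theorem many_five : Many 5 Spor.Co3 2 := by
  obtain ⟨-, χ, hχ, -⟩ := H769.PB.CoThreeRank5.exists_chars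
  obtain ⟨ψ, hψ⟩ := H843.IMC.Co3A.hasDeg_275
  refine Many.of_degrees ![χ, ψ] (fun i => ?_) (fun i j hij => ?_)
  · fin_cases i
    · show 5 ∣ charDegree (χ : Spor.Co3 → ℂ)
      rw [hχ]; norm_num
    · show 5 ∣ charDegree (ψ : Spor.Co3 → ℂ)
      rw [hψ]; norm_num
  · fin_cases i <;> fin_cases j
    · rfl
    · exfalso
      change charDegree (χ : Spor.Co3 → ℂ) = charDegree (ψ : Spor.Co3 → ℂ) at hij
      rw [hχ, hψ] at hij
      omega
    · exfalso
      change charDegree (ψ : Spor.Co3 → ℂ) = charDegree (χ : Spor.Co3 → ℂ) at hij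
      rw [hχ, hψ] at hij
      omega
    · rfl

/-- **S4769 for `Co₃`.** -/
theorem row_co3 : H759.Dl.RowF.{u} (fun S => Spor.IsoCo3 S) := by
  intro S _ _ _ h p hp hd
  have : Fact p.Prime := ⟨hp⟩
  have hcard : Nat.card S = 495766656000 := H555.TwoSp.card_co3 h
  have him : H33.IM p S := H843.IMC.Rows.im_co3 h hd
  have hone : ∀ a : ℕ, a ≤ 2 → ¬ p ^ (a + 1) ∣ Nat.card S → Row p S := fun a ha h2 =>
    Row.of_im (H680.Dl.dlLe_one ha h2) him
  rw [hcard] at hd
  have h1 : (495766656000 : ℕ) = 2 ^ 10 * (3 ^ 7 * (5 ^ 3 * (7 * (11 * 23)))) := by norm_num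
  rw [h1] at hd
  rcases hp.dvd_mul.1 hd with h2 | h2
  · obtain rfl := (Nat.prime_dvd_prime_iff_eq hp Nat.prime_two).1 (hp.dvd_of_dvd_pow h2)
    obtain ⟨e⟩ := h
    refine ⟨3, H680.Dl.dlLe_three (a := 10) (by norm_num) (by rw [hcard]; norm_num), ?_⟩
    exact many_two.of_equiv (e.trans SporRec.Co3.Model.equivCo3.symm)
  rcases hp.dvd_mul.1 h2 with h3 | h3
  · obtain rfl := (Nat.prime_dvd_prime_iff_eq hp Nat.prime_three).1 (hp.dvd_of_dvd_pow h3)
    obtain ⟨e⟩ := h
    obtain ⟨f⟩ := H843.IMC.Co3B.nonempty_equiv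
    refine ⟨3, H680.Dl.dlLe_three (a := 7) (by norm_num) (by rw [hcard]; norm_num), ?_⟩
    exact many_three.of_equiv (e.trans f)
  rcases hp.dvd_mul.1 h3 with h4 | h4
  · obtain rfl := (Nat.prime_dvd_prime_iff_eq hp Nat.prime_five).1 (hp.dvd_of_dvd_pow h4)
    obtain ⟨e⟩ := h
    exact ⟨2, H680.Dl.dlLe_two (a := 3) (by norm_num) (by rw [hcard]; norm_num), many_five.of_equiv e⟩
  rcases hp.dvd_mul.1 h4 with h5 | h5
  · obtain rfl := (Nat.prime_dvd_prime_iff_eq hp (by norm_num)).1 h5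
    exact hone 1 (by norm_num) (by rw [hcard]; norm_num)
  rcases hp.dvd_mul.1 h5 with h6 | h6
  · obtain rfl := (Nat.prime_dvd_prime_iff_eq hp (by norm_num)).1 h6
    exact hone 1 (by norm_num) (by rw [hcard]; norm_num)
  · obtain rfl := (Nat.prime_dvd_prime_iff_eq hp (by norm_num)).1 h6
    exact hone 1 (by norm_num) (by rw [hcard]; norm_num)

end Cfsg.Agent.H633.Dl.Co3
end
end
end
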